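import Cfsg.Prelude.Def_KGroupFacts
import Mathlib.GroupTheory.Transfer
import Mathlib.GroupTheory.Abelianization.Defs
import Mathlib.GroupTheory.PGroup

/-!
# Elements of the kernel of a stem extension and preimages of subgroups of index prime to their order
-/

set_option autoImplicit false

namespace CfsgLib.Lie.MultSylow

open Subgroup

/-- a group generated by elements commuting modulo a normal subgroup -/
theorem commutator_le_of_gens {G : Type*} [Group G] (N : Subgroup G) [N.Normal] (S : Set G)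
    (hS : closure S = ⊤) (h : ∀ a ∈ S, ∀ b ∈ S, a * b * a⁻¹ * b⁻¹ ∈ N) : commutator G ≤ N := by
  rw [commutator_def, commutator_le]
  intro g₁ _ g₂ _
  have key : ∀ a b : G, a * b * a⁻¹ * b⁻¹ ∈ N ↔
      Commute (QuotientGroup.mk a : G ⧸ N) (QuotientGroup.mk b) := fun a b => by
    rw [← QuotientGroup.eq_one_iff, QuotientGroup.mk_mul, QuotientGroup.mk_mul, QuotientGroup.mk_mul,
      QuotientGroup.mk_inv, QuotientGroup.mk_inv]
    exact ⟨fun e => mul_inv_eq_iff_eq_mul.1 (mul_inv_eq_one.1 e), fun e => by rw [e.eq]; group⟩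
  have h1 : ∀ a ∈ S, ∀ g : G, Commute (QuotientGroup.mk a : G ⧸ N) (QuotientGroup.mk g) := by
    intro a ha g
    have hg : g ∈ closure S := hS ▸ mem_top g
    induction hg using closure_induction with
    | one => exact Commute.one_right _
    | mem b hb => exact (key a b).1 (h a ha b hb)
    | mul x y _ _ hx hy => rw [QuotientGroup.mk_mul]; exact hx.mul_right hy
    | inv x _ hx => rw [QuotientGroup.mk_inv]; exact hx.inv_right
  have h2 : ∀ g g' : G, Commute (QuotientGroup.mk g : G ⧸ N) (QuotientGroup.mk g') := by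
    intro g g'
    have hg : g ∈ closure S := hS ▸ mem_top g
    induction hg using closure_induction with
    | one => exact Commute.one_left _
    | mem a ha => exact h1 a ha g'
    | mul x y _ _ hx hy => rw [QuotientGroup.mk_mul]; exact hx.mul_left hy
    | inv x _ hx => rw [QuotientGroup.mk_inv]; exact hx.inv_left
  rw [commutatorElement_def]
  exact (key g₁ g₂).2 (h2 g₁ g₂)

variable {Γ : Type*} {G : Type*} [Group Γ] [Group G] [Finite Γ] {σ : Γ →* G}

/-- a central element of the derived subgroup lies in the derived subgroup of a preimage of index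
prime to its order -/
theorem mem_commutator_comap (hσ : Cfsg.IsStemExtension σ) {U : Subgroup G} {z : Γ}
    (hz : z ∈ σ.ker) (hcop : Nat.Coprime (orderOf z) U.index) :
    ∀ hzH : z ∈ U.comap σ, (⟨z, hzH⟩ : U.comap σ) ∈ commutator (U.comap σ) := by
  intro hzH
  obtain ⟨hsurj, hcen, hder⟩ := hσ
  set H := U.comap σ
  have hi : H.index = U.index := index_comap_of_surjective U hsurj
  haveI : H.FiniteIndex := ⟨index_ne_zero_of_finite⟩
  have hzc : ∀ g : Γ, g * z = z * g := mem_center_iff.1 (hcen hz)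
  let φ : H →* Abelianization H := Abelianization.of
  have h1 : φ.transfer z = φ ⟨z ^ H.index, H.pow_mem hzH _⟩ :=
    φ.transfer_eq_pow z fun k g₀ _ => by
      have hc : Commute g₀ (z ^ k) := Commute.pow_right (hzc g₀) k
      rw [mul_assoc, ← hc.eq, inv_mul_cancel_left]
  have h2 : φ.transfer z = 1 := by
    have := Abelianization.commutator_subset_ker φ.transfer (hder hz)
    exact this
  have h3 : (⟨z, hzH⟩ : H) ^ H.index ∈ commutator H := by
    rw [← Abelianization.ker_of H, MonoidHom.mem_ker]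
    rw [h2] at h1
    exact h1.symm
  obtain ⟨m, hm⟩ := exists_pow_eq_self_of_coprime
    (x := (⟨z, hzH⟩ : H)) (n := H.index) (by
      rw [hi, Subgroup.orderOf_mk]; exact hcop.symm)
  rw [← hm]
  exact pow_mem h3 m

/-- the preimage of a subgroup generated by two elements: the kernel elements of order prime to the
index lie in a normal cyclic subgroup containing the commutator of the lifts -/
theorem mem_zpowers_of_pair (hσ : Cfsg.IsStemExtension σ) {x y : Γ} {z c : Γ} (hz : z ∈ σ.ker)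
    (hcop : Nat.Coprime (orderOf z) (closure ({σ x, σ y} : Set G)).index)
    (hc : x * y * x⁻¹ * y⁻¹ ∈ zpowers c) (hnx : x * c * x⁻¹ ∈ zpowers c)
    (hny : y * c * y⁻¹ ∈ zpowers c) (hcH : c ∈ (closure ({σ x, σ y} : Set G)).comap σ) :
    z ∈ zpowers c := by
  set H := (closure ({σ x, σ y} : Set G)).comap σ with hH
  have hgen : H = closure ({x, y} ∪ (σ.ker : Set Γ)) := by
    rw [closure_union, closure_eq, hH, ← comap_map_eq, MonoidHom.map_closure, Set.image_pair]
  have hzH : z ∈ H := by rw [hgen]; exact subset_closure (Or.inr hz)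
  have hcen : ∀ k ∈ σ.ker, ∀ g : Γ, g * k = k * g := fun k hk => mem_center_iff.1 (hσ.2.1 hk)
  -- the normalised cyclic subgroup
  have hnorm : H ≤ normalizer (zpowers c : Set Γ) := by
    have key : ∀ g : Γ, g * c * g⁻¹ ∈ zpowers c → g ∈ normalizer (zpowers c : Set Γ) := by
      intro g hg
      have hle : (zpowers c).map (MulAut.conj g).toMonoidHom ≤ zpowers c := by
        rw [MonoidHom.map_zpowers, zpowers_le]; exact hg
      have heq := Subgroup.eq_of_le_of_card_ge hle
        (Nat.card_congr (Subgroup.equivMapOfInjective _ _ (MulAut.conj g).injective).toEquiv).le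
      rw [mem_normalizer_iff]
      intro w
      constructor
      · intro hw; exact hle ⟨w, hw, by simp⟩
      · intro hw
        rw [← heq] at hw
        obtain ⟨v, hv, e⟩ := hw
        have : v = w := by simpa using e
        exact this ▸ hv
    rw [hgen, closure_le]
    rintro g ((rfl | rfl) | hg)
    exacts [key _ hnx, key _ hny, key g (by rw [show g * c * g⁻¹ = c by
      rw [← hcen g hg c, mul_inv_cancel_right]]; exact mem_zpowers c)]
  haveI : ((zpowers c).subgroupOf H).Normal := normal_subgroupOf_of_le_normalizer hnorm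
  have hsub : commutator H ≤ (zpowers c).subgroupOf H := by
    refine commutator_le_of_gens _ (H.subtype ⁻¹' ({x, y} ∪ (σ.ker : Set Γ))) ?_ ?_
    · apply map_injective H.subtype_injective
      rw [MonoidHom.map_closure, ← MonoidHom.range_eq_map, range_subtype, Set.image_preimage_eq_of_subset,
        ← hgen]
      rw [coe_subtype, Subtype.range_coe]
      intro g hg
      show g ∈ H
      rw [hgen]; exact subset_closure hg
    · intro a ha b hb
      rw [mem_subgroupOf]
      simp only [Subgroup.coe_mul, Subgroup.coe_inv]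
      simp only [Set.mem_preimage, coe_subtype, Set.mem_union, Set.mem_insert_iff,
        Set.mem_singleton_iff, SetLike.mem_coe] at ha hb
      generalize (a : Γ) = g, (b : Γ) = g' at ha hb ⊢
      have hk : ∀ k ∈ σ.ker, ∀ w : Γ, k * w * k⁻¹ * w⁻¹ ∈ zpowers c ∧
          w * k * w⁻¹ * k⁻¹ ∈ zpowers c := fun k hk w => by
        constructor
        · rw [← hcen k hk w, mul_inv_cancel_right, mul_inv_cancel]; exact one_mem _
        · rw [hcen k hk w, mul_inv_cancel_right, mul_inv_cancel]; exact one_mem _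
      rcases ha with (rfl | rfl) | ha
      · rcases hb with (rfl | rfl) | hb
        · simp
        · exact hc
        · exact (hk _ hb _).2
      · rcases hb with (rfl | rfl) | hb
        · have := inv_mem hc
          simpa [mul_assoc] using this
        · simp
        · exact (hk _ hb _).2
      · exact (hk _ ha _).1
  exact mem_subgroupOf.1 (hsub (mem_commutator_comap hσ hz hcop hzH))

/-- abelian subgroup of index prime to the order, inverted in one direction -/
theorem sq_eq_one_of_inverted (hσ : Cfsg.IsStemExtension σ) {z : Γ} (hz : z ∈ σ.ker) {a b g : G}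
    (hcop : Nat.Coprime (orderOf z) (closure ({a, b} : Set G)).index)
    (hab : a * b = b * a) (hga : g * a * g⁻¹ = a) (hgb : g * b * g⁻¹ = b⁻¹) : z ^ 2 = 1 := by
  obtain ⟨x, rfl⟩ := hσ.1 a
  obtain ⟨y, rfl⟩ := hσ.1 b
  obtain ⟨w, rfl⟩ := hσ.1 g
  have hcen : ∀ k ∈ σ.ker, ∀ u : Γ, u * k = k * u := fun k hk => mem_center_iff.1 (hσ.2.1 hk)
  set c := x * y * x⁻¹ * y⁻¹ with hcdef
  have hc : c ∈ σ.ker := by
    simp only [c, MonoidHom.mem_ker, map_mul, map_inv, hab]; group
  have hzc := mem_zpowers_of_pair hσ (x := x) (y := y) (c := c) hz hcop (mem_zpowers c)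
    (by rw [hcen c hc x, mul_inv_cancel_right]; exact mem_zpowers c)
    (by rw [hcen c hc y, mul_inv_cancel_right]; exact mem_zpowers c)
    (by rw [mem_comap, MonoidHom.mem_ker.1 hc]; exact one_mem _)
  obtain ⟨k1, hk1, e1⟩ : ∃ k ∈ σ.ker, w * x * w⁻¹ = x * k :=
    ⟨x⁻¹ * (w * x * w⁻¹), by simp [MonoidHom.mem_ker, hga], (mul_inv_cancel_left _ _).symm⟩
  obtain ⟨k2, hk2, e2⟩ : ∃ k ∈ σ.ker, w * y * w⁻¹ = y⁻¹ * k :=
    ⟨y * (w * y * w⁻¹), by simp [MonoidHom.mem_ker, hgb], (inv_mul_cancel_left _ _).symm⟩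
  have key : ∀ (p q k k' : Γ), k ∈ σ.ker → k' ∈ σ.ker →
      p * k * (q * k') * (p * k)⁻¹ * (q * k')⁻¹ = p * q * p⁻¹ * q⁻¹ := fun p q k k' hk hk' => by
    calc p * k * (q * k') * (p * k)⁻¹ * (q * k')⁻¹
        = p * (k * q) * k' * k⁻¹ * p⁻¹ * k'⁻¹ * q⁻¹ := by group
      _ = p * q * (k * (k' * k⁻¹)) * p⁻¹ * k'⁻¹ * q⁻¹ := by rw [← hcen k hk q]; group
      _ = p * q * (k' * p⁻¹) * k'⁻¹ * q⁻¹ := by rw [← mul_assoc k, ← hcen k hk k']; group
      _ = _ := by rw [← hcen k' hk' p⁻¹]; group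
  have h1 : c = x * y⁻¹ * x⁻¹ * y := by
    have h := hcen c hc w
    calc c = w * c * w⁻¹ := by rw [h, mul_inv_cancel_right]
      _ = (w * x * w⁻¹) * (w * y * w⁻¹) * (w * x * w⁻¹)⁻¹ * (w * y * w⁻¹)⁻¹ := by
          simp only [c]; group
      _ = x * y⁻¹ * x⁻¹ * y := by rw [e1, e2, key _ _ _ _ hk1 hk2, inv_inv]
  have h2 : c⁻¹ = x * y⁻¹ * x⁻¹ * y := by
    have h := hcen c⁻¹ (inv_mem hc) y⁻¹
    calc c⁻¹ = y⁻¹ * c⁻¹ * y := by rw [h, inv_mul_cancel_right]
      _ = _ := by simp only [c]; group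
  have hc2 : c ^ 2 = 1 := by rw [pow_two]; nth_rewrite 2 [h1.trans h2.symm]; exact mul_inv_cancel c
  obtain ⟨j, rfl⟩ := hzc
  simp only
  rw [← zpow_natCast, ← zpow_mul, mul_comm, zpow_mul, zpow_natCast, hc2, one_zpow]

/-- semidihedral subgroup of odd index -/
theorem eq_one_of_semidihedral (hσ : Cfsg.IsStemExtension σ) {z : Γ} (hz : z ∈ σ.ker) {a b : G}
    (hcop : Nat.Coprime (orderOf z) (closure ({a, b} : Set G)).index)
    (ha : orderOf a = 8) (hb : b * b = 1) (hab : b * a * b⁻¹ = a ^ 3) : z = 1 := by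
  obtain ⟨x, rfl⟩ := hσ.1 a
  obtain ⟨y, rfl⟩ := hσ.1 b
  have hcen : ∀ k ∈ σ.ker, ∀ u : Γ, Commute u k := fun k hk => mem_center_iff.1 (hσ.2.1 hk)
  obtain ⟨k, hk, e1⟩ : ∃ k ∈ σ.ker, y * x * y⁻¹ = x ^ 3 * k :=
    ⟨(x ^ 3)⁻¹ * (y * x * y⁻¹), by simp [MonoidHom.mem_ker, hab], (mul_inv_cancel_left _ _).symm⟩
  have hyy : y * y ∈ σ.ker := by simp [MonoidHom.mem_ker, hb]
  have hx8 : x ^ 8 * k ^ 4 = 1 := by
    have h1 : y * y * x * (y * y)⁻¹ = x := by
      rw [← (hcen _ hyy x).eq, mul_inv_cancel_right]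
    rw [show y * y * x * (y * y)⁻¹ = y * (y * x * y⁻¹) * y⁻¹ by group, e1,
      show y * (x ^ 3 * k) * y⁻¹ = (y * x * y⁻¹) ^ 3 * (y * k * y⁻¹) by rw [conj_pow]; group,
      (hcen k hk y).eq, mul_inv_cancel_right, e1, (hcen k hk (x ^ 3)).mul_pow, ← pow_mul, mul_assoc,
      ← pow_succ] at h1
    calc x ^ 8 * k ^ 4 = x⁻¹ * (x ^ (3 * 3) * k ^ (3 + 1)) := by group
      _ = 1 := by rw [h1, inv_mul_cancel]
  set c := x ^ 2 * k with hcdef
  have hxk : ∀ n : ℕ, Commute (x ^ n) k := fun n => (hcen k hk _)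
  have hxc : x * c * x⁻¹ = c := by
    rw [((Commute.refl x).pow_right 2 |>.mul_right (hcen k hk x)).eq, mul_inv_cancel_right]
  have hyc : y * c * y⁻¹ = c ^ 3 := by
    rw [hcdef, show y * (x ^ 2 * k) * y⁻¹ = (y * x * y⁻¹) ^ 2 * (y * k * y⁻¹) by rw [conj_pow]; group,
      (hcen k hk y).eq, mul_inv_cancel_right, e1, (hxk 3).mul_pow, (hxk 2).mul_pow, mul_assoc,
      ← pow_succ, ← pow_mul, ← pow_mul]
  have hcomm : x * y * x⁻¹ * y⁻¹ ∈ zpowers c := by
    have : y * x * y⁻¹ * x⁻¹ = c := by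
      rw [e1, hcdef, mul_assoc, (hcen k hk x⁻¹).eq.symm, ← mul_assoc]
      group
    rw [show x * y * x⁻¹ * y⁻¹ = (y * x * y⁻¹ * x⁻¹)⁻¹ by group, this]
    exact inv_mem (mem_zpowers c)
  have hzc := mem_zpowers_of_pair hσ (x := x) (y := y) (c := c) hz hcop hcomm
    (by rw [hxc]; exact mem_zpowers c) (by rw [hyc]; exact pow_mem (mem_zpowers c) 3)
    (by
      rw [mem_comap, hcdef, map_mul, map_pow, MonoidHom.mem_ker.1 hk, mul_one]
      exact pow_mem (subset_closure (Set.mem_insert _ _)) 2)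
  obtain ⟨j, rfl⟩ := hzc
  simp only at hz ⊢
  have hc4 : c ^ 4 = 1 := by rw [hcdef, (hxk 2).mul_pow, ← pow_mul]; exact hx8
  rw [MonoidHom.mem_ker, map_zpow, hcdef, map_mul, map_pow, MonoidHom.mem_ker.1 hk, mul_one,
    ← zpow_natCast, ← zpow_mul, ← orderOf_dvd_iff_zpow_eq_one, ha] at hz
  obtain ⟨i, rfl⟩ : (4 : ℤ) ∣ j := by push_cast at hz; omega
  rw [zpow_mul, show (4 : ℤ) = ((4 : ℕ) : ℤ) from rfl, zpow_natCast, hc4, one_zpow]


/-- abelian subgroup on two generators: the kernel elements of order prime to its index are powers of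
the commutator of two lifts, whose order divides that of a generator -/
theorem mem_zpowers_of_commuting (hσ : Cfsg.IsStemExtension σ) {x y : Γ} (hab : σ x * σ y = σ y * σ x)
    {n : ℕ} (hn : σ x ^ n = 1) :
    x * y * x⁻¹ * y⁻¹ ∈ σ.ker ∧ (x * y * x⁻¹ * y⁻¹) ^ n = 1 ∧
      ∀ z ∈ σ.ker, Nat.Coprime (orderOf z) (closure ({σ x, σ y} : Set G)).index →
        z ∈ zpowers (x * y * x⁻¹ * y⁻¹) := by
  have hcen : ∀ k ∈ σ.ker, ∀ u : Γ, u * k = k * u := fun k hk => mem_center_iff.1 (hσ.2.1 hk)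
  set c := x * y * x⁻¹ * y⁻¹ with hcdef
  have hc : c ∈ σ.ker := by
    simp only [c, MonoidHom.mem_ker, map_mul, map_inv, hab]; group
  have hpow : ∀ m : ℕ, x ^ m * y = c ^ m * (y * x ^ m) := fun m => by
    induction m with
    | zero => simp
    | succ m ih =>
      have h1 : x * y = c * (y * x) := by simp only [c]; group
      calc x ^ (m + 1) * y = x * (x ^ m * y) := by rw [pow_succ', mul_assoc]
        _ = x * c ^ m * (y * x ^ m) := by rw [ih, mul_assoc]
        _ = c ^ m * (x * y) * x ^ m := by rw [hcen _ (pow_mem hc m) x]; group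
        _ = c ^ (m + 1) * (y * x ^ (m + 1)) := by rw [h1, pow_succ, pow_succ']; group
  refine ⟨hc, ?_, fun z hz hcop => ?_⟩
  · have hxn : x ^ n ∈ σ.ker := by rw [MonoidHom.mem_ker, map_pow, hn]
    have h := hpow n
    rw [← hcen _ hxn y] at h
    exact mul_right_cancel (b := y * x ^ n) (by rw [← h, one_mul])
  · exact mem_zpowers_of_pair hσ hz hcop (mem_zpowers c)
      (by rw [hcen c hc x, mul_inv_cancel_right]; exact mem_zpowers c)
      (by rw [hcen c hc y, mul_inv_cancel_right]; exact mem_zpowers c)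
      (by rw [mem_comap, MonoidHom.mem_ker.1 hc]; exact one_mem _)

/-- generalised quaternion subgroup of order sixteen and odd index -/
theorem eq_one_of_quaternion (hσ : Cfsg.IsStemExtension σ) {z : Γ} (hz : z ∈ σ.ker) {a b : G}
    (hcop : Nat.Coprime (orderOf z) (closure ({a, b} : Set G)).index)
    (ha : orderOf a = 8) (hb : b * b = a ^ 4) (hab : b * a * b⁻¹ = a⁻¹) : z = 1 := by
  obtain ⟨x, rfl⟩ := hσ.1 a
  obtain ⟨y, rfl⟩ := hσ.1 b
  have hcen : ∀ k ∈ σ.ker, ∀ u : Γ, Commute u k := fun k hk => mem_center_iff.1 (hσ.2.1 hk)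
  obtain ⟨k, hk, e1⟩ : ∃ k ∈ σ.ker, y * x * y⁻¹ = x⁻¹ * k :=
    ⟨x * (y * x * y⁻¹), by simp [MonoidHom.mem_ker, hab], (inv_mul_cancel_left _ _).symm⟩
  obtain ⟨k', hk', e2⟩ : ∃ k' ∈ σ.ker, y * y = x ^ 4 * k' :=
    ⟨(x ^ 4)⁻¹ * (y * y), by simp [MonoidHom.mem_ker, hb], (mul_inv_cancel_left _ _).symm⟩
  have hx4 : y * x ^ 4 * y⁻¹ = x ^ 4 := by
    have e3 : x ^ 4 = y * y * k'⁻¹ := by rw [e2, mul_inv_cancel_right]
    rw [e3, show y * (y * y * k'⁻¹) * y⁻¹ = y * y * (y * k'⁻¹ * y⁻¹) by group,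
      (hcen _ (inv_mem hk') y).eq, mul_inv_cancel_right]
  have hx8 : x ^ 8 = k ^ 4 := by
    rw [show y * x ^ 4 * y⁻¹ = (y * x * y⁻¹) ^ 4 by rw [conj_pow], e1, (hcen k hk x⁻¹).mul_pow] at hx4
    calc x ^ 8 = x ^ 4 * x ^ 4 := by group
      _ = x ^ 4 * (x⁻¹ ^ 4 * k ^ 4) := by rw [hx4]
      _ = k ^ 4 := by group
  set c := x ^ 2 * k⁻¹ with hcdef
  have hxc : x * c * x⁻¹ = c := by
    rw [((Commute.refl x).pow_right 2 |>.mul_right (hcen _ (inv_mem hk) x)).eq, mul_inv_cancel_right]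
  have hyc : y * c * y⁻¹ = c⁻¹ := by
    rw [hcdef, show y * (x ^ 2 * k⁻¹) * y⁻¹ = (y * x * y⁻¹) ^ 2 * (y * k⁻¹ * y⁻¹) by rw [conj_pow]; group,
      (hcen _ (inv_mem hk) y).eq, mul_inv_cancel_right, e1, (hcen k hk x⁻¹).mul_pow, mul_inv_rev,
      inv_inv, (hcen k hk ((x ^ 2)⁻¹)).symm.eq]
    group
  have hcomm : x * y * x⁻¹ * y⁻¹ ∈ zpowers c := by
    have : x * y * x⁻¹ * y⁻¹ = c := by
      rw [show x * y * x⁻¹ * y⁻¹ = x * (y * x * y⁻¹)⁻¹ by group, e1, hcdef, mul_inv_rev, inv_inv,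
        ← mul_assoc, (hcen _ (inv_mem hk) x).eq, mul_assoc, (hcen _ (inv_mem hk) (x ^ 2)).eq, pow_two]
    rw [this]
    exact mem_zpowers c
  have hzc := mem_zpowers_of_pair hσ (x := x) (y := y) (c := c) hz hcop hcomm
    (by rw [hxc]; exact mem_zpowers c) (by rw [hyc]; exact inv_mem (mem_zpowers c))
    (by
      rw [mem_comap, hcdef, map_mul, map_pow, MonoidHom.mem_ker.1 (inv_mem hk), mul_one]
      exact pow_mem (subset_closure (Set.mem_insert _ _)) 2)
  obtain ⟨j, rfl⟩ := hzc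
  simp only at hz ⊢
  have hc4 : c ^ 4 = 1 := by
    rw [hcdef, (hcen _ (inv_mem hk) (x ^ 2)).mul_pow, ← pow_mul, hx8, inv_pow, mul_inv_cancel]
  rw [MonoidHom.mem_ker, map_zpow, hcdef, map_mul, map_pow, MonoidHom.mem_ker.1 (inv_mem hk), mul_one,
    ← zpow_natCast, ← zpow_mul, ← orderOf_dvd_iff_zpow_eq_one, ha] at hz
  obtain ⟨i, rfl⟩ : (4 : ℤ) ∣ j := by push_cast at hz; omega
  rw [zpow_mul, show (4 : ℤ) = ((4 : ℕ) : ℤ) from rfl, zpow_natCast, hc4, one_zpow]

/-- a group generated by an element of prime power order and a normalising element of order `p` -/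
theorem exists_card_closure_pair {G : Type*} [Group G] [Finite G] {p i j : ℕ} [hp : Fact p.Prime]
    {a b : G} (ha : orderOf a = p ^ i) (hb : b ^ p ^ j = 1) (hn : b * a * b⁻¹ ∈ zpowers a)
    (hni : b ∉ zpowers a) : ∃ m, i < m ∧ Nat.card (closure ({a, b} : Set G)) = p ^ m := by
  have hle : zpowers b ≤ normalizer (zpowers a : Set G) := by
    rw [zpowers_le, mem_normalizer_iff]
    have hmap : (zpowers a).map (MulAut.conj b).toMonoidHom ≤ zpowers a := by
      rw [MonoidHom.map_zpowers, zpowers_le]; exact hn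
    have heq := Subgroup.eq_of_le_of_card_ge hmap
      (Nat.card_congr (Subgroup.equivMapOfInjective _ _ (MulAut.conj b).injective).toEquiv).le
    intro w
    constructor
    · intro hw; exact hmap ⟨w, hw, by simp⟩
    · intro hw
      rw [← heq] at hw
      obtain ⟨v, hv, e⟩ := hw
      have : v = w := by simpa using e
      exact this ▸ hv
  have h1 : IsPGroup p (zpowers a) := IsPGroup.of_card (n := i) (by rw [Nat.card_zpowers, ha])
  have h2 : IsPGroup p (zpowers b) := by
    obtain ⟨k, -, hk⟩ := (Nat.dvd_prime_pow hp.out).1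
      (orderOf_dvd_of_pow_eq_one hb)
    exact IsPGroup.of_card (n := k) (by rw [Nat.card_zpowers, hk])
  obtain ⟨m, hm⟩ := IsPGroup.iff_card.1 (IsPGroup.to_sup_of_normal_left' h1 h2 hle)
  have he : closure ({a, b} : Set G) = zpowers a ⊔ zpowers b := by
    rw [zpowers_eq_closure, zpowers_eq_closure, ← Subgroup.closure_union, Set.singleton_union]
  refine ⟨m, ?_, by rw [he, hm]⟩
  by_contra hmi
  have hsub : (zpowers a : Subgroup G) = zpowers a ⊔ zpowers b :=
    eq_of_le_of_card_ge le_sup_left (by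
      rw [hm, Nat.card_zpowers, ha]
      exact Nat.pow_le_pow_right hp.out.pos (by omega))
  exact hni (hsub ▸ (le_sup_right (a := zpowers a) (mem_zpowers b)))

end CfsgLib.Lie.MultSylow
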