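import Cfsg.Prelude.Def_KGroupFacts
import Cfsg.Agent.Lib.Spor.HexacodeMonomial
import Mathlib.FieldTheory.Finite.GaloisField
import Mathlib.GroupTheory.SemidirectProduct
import Mathlib.GroupTheory.Commutator.Basic

/-!
# The triple cover of the alternating group of degree six

The monomial automorphism group of the hexacode.
-/

set_option autoImplicit false

namespace CfsgLib.Lie.TripleSix

open CfsgLib.Spor.Hexa CfsgLib.Spor.HexaMon
open scoped commutatorElement

variable (F : Type) [Field F] [Fintype F] (ω : F)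

/-- monomial maps as pairs -/
abbrev W : Type := (Fin 6 → Fˣ) ⋊[mulAutArrow] Equiv.Perm (Fin 6)

variable {F}

theorem left_mul_apply (w v : W F) (i : Fin 6) : (w * v).left i = w.left i * v.left (w.right.symm i) := by
  simp [SemidirectProduct.mul_left, mulAutArrow, arrowMulDistribMulAction, Equiv.Perm.smul_def]
  rfl

noncomputable instance : Finite (W F) := Finite.of_equiv _ SemidirectProduct.equivProd.symm

/-- the monomial maps preserving the hexacode -/
def T : Subgroup (W F) :=
  { carrier := {w | Pres F ω w.right w.left}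
    one_mem' := pres_one
    mul_mem' := fun {w v} hw hv => by
      show Pres F ω (w * v).right (w * v).left
      rw [funext (left_mul_apply w v), SemidirectProduct.mul_right]
      exact pres_mul hw hv
    inv_mem' := fun {w} hw => by
      have key : ∀ n : ℕ, Pres F ω (w ^ n).right (w ^ n).left := fun n => by
        induction n with
        | zero => exact pres_one
        | succ k ih =>
          rw [pow_succ, funext (left_mul_apply _ _), SemidirectProduct.mul_right]
          exact pres_mul ih hw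
      rw [inv_eq_of_mul_eq_one_right (a := w) (b := w ^ (orderOf w - 1)) (by
        rw [← pow_succ', Nat.sub_add_cancel (orderOf_pos w), pow_orderOf_eq_one])]
      exact key _ }

/-- unit multiplication in the model -/
theorem unitOf_mul (hF : Fintype.card F = 4) (hω : ω ^ 2 + ω + 1 = 0) (a b : Fin 3) :
    unitOf hF hω a * unitOf hF hω b = unitOf hF hω (a + b) := by
  refine Units.ext ?_
  rw [Units.val_mul, unitOf, unitOf, unitOf, Units.val_mk0, Units.val_mk0, Units.val_mk0,
    ← φ_mul hF hω]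
  congr 1
  revert a b; decide

theorem exists_cover (hF : Fintype.card F = 4) (hω : ω ^ 2 + ω + 1 = 0) :
    ∃ π : T ω →* alternatingGroup (Fin 6), Cfsg.IsStemExtension π ∧
      Nonempty (π.ker ≃* Multiplicative (ZMod 3)) := by
  have hmem : ∀ w : T ω, (w : W F).right ∈ alternatingGroup (Fin 6) := fun w => by
    rw [← parts_eq hF hω]; exact ⟨_, w.2⟩
  let π : T ω →* alternatingGroup (Fin 6) :=
    (SemidirectProduct.rightHom.comp (T ω).subtype).codRestrict _ hmem
  have hsurj : Function.Surjective π := by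
    rintro ⟨σ, hσ⟩
    obtain ⟨c, hc⟩ := (parts_eq hF hω ▸ hσ : σ ∈ parts F ω)
    exact ⟨⟨⟨c, σ⟩, hc⟩, rfl⟩
  have hker : ∀ w : T ω, w ∈ π.ker → (w : W F).right = 1 ∧ ∀ i, (w : W F).left i = (w : W F).left 0 :=
    fun w hw => by
      have h1 : (w : W F).right = 1 := congrArg Subtype.val (MonoidHom.mem_ker.1 hw)
      exact ⟨h1, fun i => diagonal hF hω (by rw [← h1]; exact w.2) i 0⟩
  have hconst : ∀ u : Fˣ, (⟨fun _ => u, 1⟩ : W F) ∈ T ω := fun u => by
    obtain ⟨a, rfl⟩ := (unitOf_bijective hF hω).2 u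
    exact (pres_iff hF hω 1 fun _ => a).2 (const_check a)
  let ι : Fˣ →* π.ker :=
    MonoidHom.mk' (fun u => ⟨⟨_, hconst u⟩, rfl⟩) fun u v => by
      refine Subtype.ext (Subtype.ext (SemidirectProduct.ext ?_ ?_))
      · funext i; exact (left_mul_apply (⟨fun _ => u, 1⟩ : W F) ⟨fun _ => v, 1⟩ i).symm
      · exact (one_mul _).symm
  have hι : Function.Bijective ι := by
    refine ⟨fun u v h => congrFun (congrArg (fun x : π.ker => (x.1.1 : W F).left) h) 0, fun x => ?_⟩
    obtain ⟨h1, h2⟩ := hker x.1 x.2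
    exact ⟨(x.1.1 : W F).left 0, Subtype.ext (Subtype.ext (SemidirectProduct.ext (funext fun i => (h2 i).symm) h1.symm))⟩
  have hU : Nat.card Fˣ = 3 := by classical rw [Nat.card_eq_fintype_card, Fintype.card_units, hF]
  haveI : Fact (Nat.Prime 3) := ⟨Nat.prime_three⟩
  have hk3 : Nat.card π.ker = 3 := (Nat.card_congr (MulEquiv.ofBijective ι hι).toEquiv).symm.trans hU
  have hcen : π.ker ≤ Subgroup.center (T ω) := fun w hw => by
    obtain ⟨h1, h2⟩ := hker w hw
    refine Subgroup.mem_center_iff.2 fun v => Subtype.ext (SemidirectProduct.ext ?_ ?_)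
    · funext i
      rw [Subgroup.coe_mul, Subgroup.coe_mul, left_mul_apply, left_mul_apply, h1, h2, h2 i, mul_comm]
      rfl
    · rw [Subgroup.coe_mul, Subgroup.coe_mul, SemidirectProduct.mul_right,
        SemidirectProduct.mul_right, h1, mul_one, one_mul]
  refine ⟨π, ⟨hsurj, hcen, ?_⟩, ⟨mulEquivOfPrimeCardEq (p := 3) hk3 (by simp)⟩⟩
  -- lifts of two commuting three-cycles
  let σ : Equiv.Perm (Fin 6) := Equiv.swap 0 1 * Equiv.swap 1 2
  let τ : Equiv.Perm (Fin 6) := Equiv.swap 3 4 * Equiv.swap 4 5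
  let x : W F := ⟨fun i => unitOf hF hω (![0, 0, 0, 0, 2, 1] i), σ⟩
  let y : W F := ⟨fun i => unitOf hF hω (![0, 1, 2, 2, 2, 2] i), τ⟩
  have hx : x ∈ T ω := (pres_iff hF hω σ _).2 (by decide +kernel)
  have hy : y ∈ T ω := (pres_iff hF hω τ _).2 (by decide +kernel)
  let w : T ω := ⟨_, hconst (unitOf hF hω 2)⟩
  have hxy : (⟨x, hx⟩ : T ω) * ⟨y, hy⟩ = w * (⟨y, hy⟩ * ⟨x, hx⟩) := by
    refine Subtype.ext (SemidirectProduct.ext ?_ ?_)
    · funext i
      show (x * y).left i = ((⟨fun _ => unitOf hF hω 2, 1⟩ : W F) * (y * x)).left i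
      rw [left_mul_apply, left_mul_apply, left_mul_apply, unitOf_mul, unitOf_mul, unitOf_mul]
      congr 1
      show (![0, 0, 0, 0, 2, 1] : Fin 6 → Fin 3) i + (![0, 1, 2, 2, 2, 2] : Fin 6 → Fin 3) (σ.symm i) =
        2 + ((![0, 1, 2, 2, 2, 2] : Fin 6 → Fin 3) i + (![0, 0, 0, 0, 2, 1] : Fin 6 → Fin 3) (τ.symm i))
      revert i; decide +kernel
    · show σ * τ = 1 * (τ * σ)
      decide +kernel
  have hw : w ∈ commutator (T ω) := by
    have : w = ⁅(⟨x, hx⟩ : T ω), ⟨y, hy⟩⁆ := by rw [commutatorElement_def, hxy]; group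
    rw [this]
    exact Subgroup.commutator_mem_commutator (Subgroup.mem_top _) (Subgroup.mem_top _)
  have hw1 : (⟨w, rfl⟩ : π.ker) ≠ 1 := fun h => by
    have h2 := congrFun (congrArg (fun z : π.ker => (z.1.1 : W F).left) h) 0
    exact absurd ((unitOf_bijective hF hω).1 (h2.trans (one_mul _).symm |>.trans
      (show (1 : Fˣ) * 1 = unitOf hF hω 0 by rw [one_mul]; exact Units.ext rfl))) (by decide)
  intro z hz
  have := mem_zpowers_of_prime_card (h := hk3) (g := (⟨w, rfl⟩ : π.ker)) (g' := ⟨z, hz⟩) hw1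
  obtain ⟨k, hk⟩ := this
  have e : w ^ k = z := congrArg Subtype.val hk
  exact e ▸ zpow_mem hw k

/-- the alternating group of degree six has a stem extension with kernel of order three -/
theorem exists_triple_cover : ∃ (T : Type) (_ : Group T) (_ : Finite T)
    (π : T →* alternatingGroup (Fin 6)), Cfsg.IsStemExtension π ∧
      Nonempty (π.ker ≃* Multiplicative (ZMod 3)) := by
  classical
  haveI : Fact (Nat.Prime 2) := ⟨Nat.prime_two⟩
  let _ : Fintype (GaloisField 2 2) := Fintype.ofFinite _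
  have hF : Fintype.card (GaloisField 2 2) = 4 := by
    rw [← Nat.card_eq_fintype_card, GaloisField.card 2 2 two_ne_zero]; norm_num
  obtain ⟨u, hu⟩ : ∃ u : (GaloisField 2 2)ˣ, u ≠ 1 := by
    have : Fintype.card (GaloisField 2 2)ˣ = 3 := by rw [Fintype.card_units, hF]
    exact Fintype.exists_ne_of_one_lt_card (by omega) 1
  have h3 : (u : GaloisField 2 2) ^ 3 = 1 := by
    rw [← Units.val_pow_eq_pow_val, show 3 = Fintype.card (GaloisField 2 2)ˣ by
      rw [Fintype.card_units, hF], pow_card_eq_one, Units.val_one]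
  have hω : (u : GaloisField 2 2) ^ 2 + u + 1 = 0 := by
    refine (mul_eq_zero.1 (show ((u : GaloisField 2 2) - 1) * ((u : GaloisField 2 2) ^ 2 + u + 1) = 0
      by linear_combination h3)).resolve_left (sub_ne_zero.2 fun h => hu (Units.ext h))
  obtain ⟨π, hπ, hk⟩ := exists_cover (u : GaloisField 2 2) hF hω
  exact ⟨_, inferInstance, inferInstance, π, hπ, hk⟩

end CfsgLib.Lie.TripleSix
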