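import Cfsg.Agent.Lib.Lie.Mult.Sylow
import Cfsg.Agent.Lib.Lie.Mult.SylowGens
import Cfsg.Agent.Lib.Lie.Mult.TripleSix
import Cfsg.Agent.Lib.PGroup.StemExtension
import Cfsg.Agent.Lib.Classical.SL2Sylow
import Cfsg.Agent.S0254

/-!
# The multiplier of the special linear group of degree two over nine elements
-/

set_option autoImplicit false

namespace CfsgLib.Lie.MultSLNine

open Subgroup Matrix
open scoped commutatorElement

variable {F : Type*} [Field F] [Fintype F]

local notation "G" => Matrix.SpecialLinearGroup (Fin 2) F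

theorem card_eq (hF : Fintype.card F = 9) : Nat.card G = 720 := by
  rw [CfsgLib.Classical.card_sl2, hF]

theorem three_eq_zero (hF : Fintype.card F = 9) : (3 : F) = 0 := by
  have h : ((9 : ℕ) : F) = 0 := hF ▸ Nat.cast_card_eq_zero F
  exact pow_eq_zero_iff (n := 2) two_ne_zero |>.1 (by rw [← h]; norm_num)

theorem exists_gen (hF : Fintype.card F = 9) :
    ∃ g : Fˣ, orderOf g = 8 ∧ (g : F) ^ 4 = -1 := by
  classical
  obtain ⟨g, hg⟩ := IsCyclic.exists_ofOrder_eq_natCard (α := Fˣ)
  rw [Nat.card_eq_fintype_card, Fintype.card_units, hF] at hg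
  refine ⟨g, hg, ?_⟩
  have h8 : ((g : F) ^ 4) ^ 2 = 1 := by
    rw [← pow_mul, ← Units.val_pow_eq_pow_val, show 4 * 2 = orderOf g by rw [hg], pow_orderOf_eq_one,
      Units.val_one]
  rcases sq_eq_one_iff.1 h8 with h | h
  · have h4 : g ^ 4 = 1 := Units.ext (by rw [Units.val_pow_eq_pow_val, h, Units.val_one])
    have := orderOf_dvd_of_pow_eq_one h4
    rw [hg] at this
    norm_num at this
  · exact h

/-- torus element -/
def dia (g : Fˣ) : G := ⟨!![(g : F), 0; 0, (↑g⁻¹ : F)], by simp [Matrix.det_fin_two]⟩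

/-- unipotent element -/
def uni (t : F) : G := ⟨!![1, t; 0, 1], by simp [Matrix.det_fin_two]⟩

/-- Weyl element -/
def wey : G := ⟨!![0, 1; -1, 0], by simp [Matrix.det_fin_two]⟩

theorem dia_mul (g h : Fˣ) : (dia (g * h) : G) = dia g * dia h := by
  apply Subtype.ext
  rw [Matrix.SpecialLinearGroup.coe_mul]
  simp [dia, Matrix.mul_fin_two, mul_comm]

/-- the torus as a homomorphism -/
def diaHom : Fˣ →* G := MonoidHom.mk' dia dia_mul

theorem diaHom_injective : Function.Injective (diaHom (F := F)) := fun g h e =>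
  Units.ext (congrFun (congrFun (congrArg Subtype.val e) 0) 0)

theorem uni_add (s t : F) : (uni (s + t) : G) = uni s * uni t := by
  apply Subtype.ext
  rw [Matrix.SpecialLinearGroup.coe_mul]
  simp [uni, Matrix.mul_fin_two, add_comm]

theorem uni_zero : (uni 0 : G) = 1 := by
  apply Subtype.ext
  simp [uni, Matrix.one_fin_two]

theorem uni_injective : Function.Injective (uni : F → G) := fun s t e =>
  congrFun (congrFun (congrArg Subtype.val e) 0) 1

theorem uni_zpow (t : F) : ∀ k : ℤ, (uni t : G) ^ k = uni ((k : F) * t) := fun k => by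
  induction k with
  | zero => simp [uni_zero]
  | succ k ih => rw [_root_.zpow_add_one, ih, ← uni_add]; push_cast; ring_nf
  | pred k ih =>
    rw [_root_.zpow_sub_one, ih, mul_inv_eq_iff_eq_mul, ← uni_add]; push_cast; ring_nf

/-- generators of a quaternion subgroup of order sixteen -/
theorem exists_quaternion (hF : Fintype.card F = 9) :
    ∃ a b : G, orderOf a = 8 ∧ b * b = a ^ 4 ∧ b * a * b⁻¹ = a⁻¹ := by
  obtain ⟨g, hg, h4⟩ := exists_gen hF
  refine ⟨diaHom g, wey, by rw [orderOf_injective _ diaHom_injective, hg], ?_, ?_⟩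
  · rw [← map_pow]
    apply Subtype.ext
    rw [Matrix.SpecialLinearGroup.coe_mul]
    have h4' : ((g ^ 4)⁻¹ : Fˣ) = g ^ 4 := by
      rw [inv_eq_iff_mul_eq_one, ← pow_add, show 4 + 4 = orderOf g by rw [hg], pow_orderOf_eq_one]
    simp [diaHom, dia, wey, Matrix.mul_fin_two, h4', h4]
  · rw [mul_inv_eq_iff_eq_mul, ← map_inv]
    apply Subtype.ext
    rw [Matrix.SpecialLinearGroup.coe_mul, Matrix.SpecialLinearGroup.coe_mul]
    simp [diaHom, dia, wey, Matrix.mul_fin_two]

/-- the kernels of stem extensions have at most three elements -/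
theorem exists_bound (hF : Fintype.card F = 9) {Γ : Type*} [Group Γ] [Finite Γ] {σ : Γ →* G}
    (hσ : Cfsg.IsStemExtension σ) : ∃ c : Γ, c ∈ σ.ker ∧ c ^ 3 = 1 ∧ σ.ker ≤ zpowers c := by
  have hN := card_eq hF
  have hindex : ∀ (S : Subgroup G) (m : ℕ), Nat.card S = m → ∀ c : ℕ, 720 = m * c → 0 < m →
      S.index = c := fun S m hS c hc hm => by
    have h := S.card_mul_index
    rw [hS, hN, hc] at h
    exact Nat.eq_of_mul_eq_mul_left hm h
  -- two
  have h2 : ¬ 2 ∣ Nat.card σ.ker := by
    intro hk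
    haveI : Fact (Nat.Prime 2) := ⟨Nat.prime_two⟩
    obtain ⟨⟨z, hzk⟩, hz⟩ := exists_prime_orderOf_dvd_card' 2 hk
    rw [Subgroup.orderOf_mk] at hz
    obtain ⟨a, b, ha, hb, hab⟩ := exists_quaternion hF
    obtain ⟨m, hm, hcard⟩ := MultSylow.exists_card_closure_pair (p := 2) (i := 3) (j := 2) (a := a) (b := b)
      (by rw [ha]; norm_num)
      (by rw [show 2 ^ 2 = 2 * 2 from rfl, pow_mul, pow_two b, hb, ← pow_mul, show 4 * 2 = orderOf a by rw [ha], pow_orderOf_eq_one])
      (by rw [hab]; exact inv_mem (mem_zpowers a))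
      (fun hmem => by
        obtain ⟨k, rfl⟩ := hmem
        simp only at hab
        rw [(Commute.zpow_self a k).eq, mul_inv_cancel_right] at hab
        have h2 : a ^ 2 = 1 := by rw [pow_two]; nth_rewrite 2 [hab]; exact mul_inv_cancel a
        have := orderOf_dvd_of_pow_eq_one h2
        rw [ha] at this
        norm_num at this)
    have hm4 : m = 4 := by
      have hdv : 2 ^ m ∣ 720 := hcard ▸ hN ▸ card_subgroup_dvd_card _
      by_contra hne
      have : 2 ^ 5 ∣ 720 := (pow_dvd_pow 2 (show 5 ≤ m by omega)).trans hdv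
      norm_num at this
    have hi := hindex _ _ hcard 45 (by rw [hm4]; norm_num) (by positivity)
    have := MultSylow.eq_one_of_quaternion hσ hzk (by rw [hz, hi]; norm_num) ha hb hab
    rw [this, orderOf_one] at hz
    exact absurd hz (by norm_num)
  -- five
  have h5 : ¬ 5 ∣ Nat.card σ.ker := by
    haveI : Fact (Nat.Prime 5) := ⟨by norm_num⟩
    obtain ⟨a, ha⟩ : ∃ a : G, orderOf a = 5 := exists_prime_orderOf_dvd_card' 5 (by rw [hN]; norm_num)
    refine Mult.not_dvd_ker_of_cyclic hσ (zpowers a) ?_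
    rw [hindex _ _ (by rw [Nat.card_zpowers, ha]) 144 (by norm_num) (by norm_num)]
    norm_num
  -- three
  haveI : Fact (Nat.Prime 3) := ⟨Nat.prime_three⟩
  obtain ⟨g, hg, h4⟩ := exists_gen hF
  have h3 := three_eq_zero hF
  have hu3 : ∀ t : F, (uni t : G) ^ 3 = 1 := fun t => by
    have := uni_zpow t 3
    rw [show (3 : ℤ) = ((3 : ℕ) : ℤ) from rfl, zpow_natCast] at this
    rw [this]; push_cast; rw [h3, zero_mul, uni_zero]
  have hcomm : (uni 1 : G) * uni ((g : F) ^ 2) = uni ((g : F) ^ 2) * uni 1 := by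
    rw [← uni_add, ← uni_add, add_comm]
  obtain ⟨x, hx⟩ := hσ.1 (uni 1)
  obtain ⟨y, hy⟩ := hσ.1 (uni ((g : F) ^ 2))
  obtain ⟨hc, hc3, hall⟩ := MultSylow.mem_zpowers_of_commuting hσ (x := x) (y := y) (n := 3)
    (by rw [hx, hy]; exact hcomm) (by rw [hx]; exact hu3 1)
  refine ⟨_, hc, hc3, fun z hz => hall z hz ?_⟩
  obtain ⟨m, hm, hcard⟩ := MultSylow.exists_card_closure_pair (p := 3) (i := 1) (j := 1)
    (a := (uni 1 : G)) (b := uni ((g : F) ^ 2))
    (by
      rw [pow_one]
      refine orderOf_eq_prime (hu3 1) fun h => one_ne_zero (α := F) (uni_injective ?_)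
      rw [h, uni_zero])
    (by rw [pow_one]; exact hu3 _)
    (by rw [← hcomm, mul_inv_cancel_right]; exact mem_zpowers _)
    (fun hmem => by
      obtain ⟨k, hk⟩ := hmem
      simp only at hk
      rw [uni_zpow, mul_one] at hk
      have hk2 : (k : F) = (g : F) ^ 2 := uni_injective hk
      have hr : ∀ r : ℕ, (k % 3 : ℤ) = r → (r : F) ^ 2 = -1 := fun r hr => by
        have e : (k : F) = ((k % 3 : ℤ) : F) := by
          conv_lhs => rw [← Int.emod_add_ediv_mul k 3]
          push_cast; rw [h3]; ring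
        rw [hr, Int.cast_natCast] at e
        rw [← e, hk2, ← pow_mul, h4]
      have : k % 3 = 0 ∨ k % 3 = 1 ∨ k % 3 = 2 := by omega
      rcases this with h | h | h
      · have := hr 0 h; simp at this
      · have := hr 1 h
        push_cast at this
        exact one_ne_zero (α := F) (by linear_combination h3 - this)
      · have := hr 2 h
        push_cast at this
        exact one_ne_zero (α := F) (by linear_combination -this + 2 * h3))
  have hm2 : m = 2 := by
    have hdv : 3 ^ m ∣ 720 := hcard ▸ hN ▸ card_subgroup_dvd_card _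
    by_contra hne
    have : 3 ^ 3 ∣ 720 := (pow_dvd_pow 3 (show 3 ≤ m by omega)).trans hdv
    norm_num at this
  rw [hx, hy, hindex _ _ hcard 80 (by rw [hm2]; norm_num) (by positivity)]
  refine Nat.Coprime.coprime_dvd_left (Subgroup.orderOf_dvd_natCard _ hz) ?_
  rw [show 80 = 2 ^ 4 * 5 by norm_num]
  exact ((Nat.Prime.coprime_iff_not_dvd Nat.prime_two).2 h2).symm.pow_right 4 |>.mul_right
    ((Nat.Prime.coprime_iff_not_dvd (by norm_num)).2 h5).symm

universe u

theorem multiplier {F : Type u} [Field F] [Fintype F] (hF : Fintype.card F = 9) :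
    Cfsg.HasCyclicSchurMultiplier (Matrix.SpecialLinearGroup (Fin 2) F) 3 := by
  refine ⟨?_, fun Γ _ _ σ hσ => ?_⟩
  · obtain ⟨T, _, _, π, hπ, ⟨e⟩⟩ := TripleSix.exists_triple_cover
    obtain ⟨f⟩ := Cfsg.Agent.S0254.result hF
    let θ : Matrix.SpecialLinearGroup (Fin 2) F →* alternatingGroup (Fin 6) :=
      f.toMonoidHom.comp (QuotientGroup.mk' _)
    have hθ : Function.Surjective θ := f.surjective.comp (QuotientGroup.mk'_surjective _)
    have hθk : ∀ s : Matrix.SpecialLinearGroup (Fin 2) F, θ s = 1 → s ^ 2 = 1 := fun s hs => by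
      have hs' : s ∈ Subgroup.center (Matrix.SpecialLinearGroup (Fin 2) F) :=
        (QuotientGroup.eq_one_iff s).1 (f.injective (hs.trans (map_one f).symm))
      obtain ⟨r, hr, e⟩ := Matrix.SpecialLinearGroup.mem_center_iff.1 hs'
      refine Subtype.ext ?_
      rw [Matrix.SpecialLinearGroup.coe_pow, ← e, ← map_pow, show r ^ 2 = 1 from hr, map_one]
      rfl
    let X : Subgroup (Matrix.SpecialLinearGroup (Fin 2) F × T) :=
      (θ.comp (MonoidHom.fst _ T)).eqLocus (π.comp (MonoidHom.snd _ T))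
    let ρ : X →* Matrix.SpecialLinearGroup (Fin 2) F := (MonoidHom.fst _ T).comp X.subtype
    let ψ : X →* T := (MonoidHom.snd _ T).comp X.subtype
    have hρ : Function.Surjective ρ := fun g => by
      obtain ⟨t, ht⟩ := hπ.1 (θ g)
      exact ⟨⟨(g, t), ht.symm⟩, rfl⟩
    have hψ : Function.Surjective ψ := fun t => by
      obtain ⟨g, hg⟩ := hθ (π t)
      exact ⟨⟨(g, t), hg⟩, rfl⟩
    have hker : ∀ x : X, x ∈ ρ.ker → x.1.1 = 1 ∧ π x.1.2 = 1 := fun x hx => by
      have h1 : x.1.1 = 1 := hx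
      have h2 : θ x.1.1 = π x.1.2 := x.2
      exact ⟨h1, by rw [← h2, h1, map_one]⟩
    let η : π.ker ≃* ρ.ker :=
      { toFun := fun k => ⟨⟨(1, k.1), show θ 1 = π k.1 by rw [map_one]; exact k.2.symm⟩, rfl⟩
        invFun := fun x => ⟨x.1.1.2, (hker x.1 x.2).2⟩
        left_inv := fun _ => rfl
        right_inv := fun x => Subtype.ext (Subtype.ext (Prod.ext (hker x.1 x.2).1.symm rfl))
        map_mul' := fun _ _ => Subtype.ext (Subtype.ext (Prod.ext (one_mul _).symm rfl)) }
    haveI : Finite X := inferInstance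
    refine ⟨X, inferInstance, inferInstance, ρ, ⟨hρ, fun x hx => ?_, fun x hx => ?_⟩, ⟨η.symm.trans e⟩⟩
    · obtain ⟨h1, h2⟩ := hker x hx
      refine mem_center_iff.2 fun y => Subtype.ext (Prod.ext ?_ ?_)
      · simp [h1]
      · exact mem_center_iff.1 (hπ.2.1 h2) y.1.2
    · obtain ⟨h1, h2⟩ := hker x hx
      have hmap : (_root_.commutator X).map ψ = _root_.commutator T := by
        rw [_root_.commutator_def, map_commutator, ← MonoidHom.range_eq_map,
          MonoidHom.range_eq_top.2 hψ, ← _root_.commutator_def]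
      obtain ⟨d, hd, hde⟩ : x.1.2 ∈ (_root_.commutator X).map ψ := by rw [hmap]; exact hπ.2.2 h2
      have hds : d.1.1 ^ 2 = 1 := hθk _ (by
        have h3 : θ d.1.1 = π d.1.2 := d.2
        rw [h3, show d.1.2 = x.1.2 from hde, h2])
      have h3 : x.1.2 ^ 3 = 1 := by
        haveI : Fact (Nat.Prime 3) := ⟨Nat.prime_three⟩
        have hc : Nat.card π.ker = 3 := by rw [Nat.card_congr e.toEquiv]; simp
        have : (⟨_, h2⟩ : π.ker) ^ Nat.card π.ker = 1 := pow_card_eq_one'
        rw [hc] at this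
        exact congrArg Subtype.val this
      rw [show x = d ^ 4 from Subtype.ext (Prod.ext
        (by rw [h1]; show (1 : Matrix.SpecialLinearGroup (Fin 2) F) = d.1.1 ^ 4
            rw [show 4 = 2 * 2 from rfl, pow_mul, hds, one_pow])
        (by show x.1.2 = d.1.2 ^ 4
            rw [show d.1.2 = x.1.2 from hde, pow_succ, h3, one_mul]))]
      exact pow_mem hd 4
  · obtain ⟨c, hc, h3, hle⟩ := exists_bound hF hσ
    exact CfsgLib.Schur.exists_surjection_zmod c hc h3 hle

end CfsgLib.Lie.MultSLNine
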