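import Cfsg.Agent.Lib.PGroup.StemExtension
import Cfsg.Prelude.Def_KGroupFacts

/-!
# The multiplier prime by prime, through transfer into preimages of Sylow subgroups
-/

set_option autoImplicit false

namespace CfsgLib.Lie.Mult

open scoped commutatorElement

universe u

variable {Γ : Type*} [Group Γ] [Finite Γ] {Q : Type*} [Group Q] {τ : Γ →* Q}
  (hτ : Cfsg.IsStemExtension τ)
include hτ

/-- no kernel element of order `ℓ` if none lies in the derived group of the preimage of a subgroup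
of index prime to `ℓ` -/
theorem not_dvd_ker_of_preimage {ℓ : ℕ} [hℓ : Fact ℓ.Prime] (S : Subgroup Q) (hS : ¬ ℓ ∣ S.index)
    (h : ∀ z ∈ τ.ker, z ∈ ⁅S.comap τ, S.comap τ⁆ → z ^ ℓ = 1 → z = 1) : ¬ ℓ ∣ Nat.card τ.ker := by
  intro hd
  obtain ⟨z, hz⟩ := exists_prime_orderOf_dvd_card' ℓ hd
  set T : Subgroup Γ := S.comap τ
  have hzc : (z : Γ) ∈ Subgroup.center Γ := hτ.2.1 z.2
  have hzT : (z : Γ) ∈ T := by
    show τ z ∈ S
    rw [(z.2 : τ z = 1)]; exact one_mem S
  have hidx : T.index = S.index := Subgroup.index_comap_of_surjective S hτ.1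
  haveI : T.FiniteIndex := inferInstance
  let V : Γ →* Abelianization T := MonoidHom.transfer (Abelianization.of (G := T))
  have hV : V z = 1 := Abelianization.commutator_subset_ker V (hτ.2.2 z.2)
  have e : ∀ (k : ℕ) (g₀ : Γ), g₀⁻¹ * (z : Γ) ^ k * g₀ ∈ T → g₀⁻¹ * (z : Γ) ^ k * g₀ = (z : Γ) ^ k :=
    fun k g₀ _ => by rw [Subgroup.mem_center_iff.1 (pow_mem hzc k) g₀⁻¹, inv_mul_cancel_right]
  have h2 := MonoidHom.transfer_eq_pow (Abelianization.of (G := T)) (z : Γ) e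
  have h3 : Abelianization.of (⟨(z : Γ) ^ T.index, pow_mem hzT _⟩ : T) = 1 := by
    rw [← hV]; exact h2.symm
  have h4 : (⟨(z : Γ) ^ T.index, pow_mem hzT _⟩ : T) ∈ commutator T := by
    rw [← Abelianization.ker_of (G := T)]
    exact h3
  have h5 : (z : Γ) ^ T.index ∈ ⁅T, T⁆ := by
    rw [← Subgroup.map_subtype_commutator]
    exact ⟨_, h4, rfl⟩
  have hord : orderOf (z : Γ) = ℓ := by rw [Subgroup.orderOf_coe, hz]
  have hzT' : (z : Γ) ∈ ⁅T, T⁆ := by
    have hcop : Nat.Coprime T.index (orderOf (z : Γ)) := by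
      rw [hord, hidx]
      exact ((Nat.Prime.coprime_iff_not_dvd hℓ.out).2 hS).symm
    obtain ⟨m, hm⟩ := exists_pow_eq_self_of_coprime hcop
    rw [← hm]
    exact pow_mem h5 m
  have h1 := h z z.2 hzT' (by rw [← hord]; exact pow_orderOf_eq_one _)
  rw [h1, orderOf_one] at hord
  exact absurd hord.symm hℓ.out.ne_one

/-- a cyclic subgroup of index prime to `ℓ` leaves no multiplier at `ℓ` -/
theorem not_dvd_ker_of_cyclic {ℓ : ℕ} [Fact ℓ.Prime] (S : Subgroup Q) [IsCyclic S]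
    (hS : ¬ ℓ ∣ S.index) : ¬ ℓ ∣ Nat.card τ.ker := by
  refine not_dvd_ker_of_preimage hτ S hS fun z _ hz _ => ?_
  have hab : ⁅S.comap τ, S.comap τ⁆ = ⊥ := by
    rw [eq_bot_iff, Subgroup.commutator_le]
    intro a ha b hb
    rw [Subgroup.mem_bot, commutatorElement_eq_one_iff_mul_comm]
    let f : ↥(S.comap τ) →* S := (τ.comp (S.comap τ).subtype).codRestrict S fun x => x.2
    have hk : f.ker ≤ Subgroup.center ↥(S.comap τ) := fun w hw => by
      refine Subgroup.mem_center_iff.2 fun v => Subtype.ext ?_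
      exact Subgroup.mem_center_iff.1 (hτ.2.1 (congrArg Subtype.val hw)) _
    haveI := MonoidHom.isMulCommutative_of_isCyclic_of_ker_le_center f hk
    exact congrArg Subtype.val (mul_comm' (⟨a, ha⟩ : ↥(S.comap τ)) ⟨b, hb⟩)
  rwa [hab, Subgroup.mem_bot] at hz

omit hτ in
theorem ker_eq_bot_of_forall (h : ∀ ℓ : ℕ, ℓ.Prime → ¬ ℓ ∣ Nat.card τ.ker) : τ.ker = ⊥ := by
  by_contra hne
  haveI : Nontrivial τ.ker := (Subgroup.nontrivial_iff_ne_bot _).2 hne
  obtain ⟨ℓ, hℓ, hd⟩ := Nat.exists_prime_and_dvd (Finite.one_lt_card (α := τ.ker)).ne'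
  exact h ℓ hℓ hd

omit hτ in
/-- transport along an isomorphism -/
theorem hasCyclic_one_congr {A B : Type u} [Group A] [Group B] [Finite B] (e : A ≃* B)
    (h : ∀ (Γ : Type u) [Group Γ] [Finite Γ] (σ : Γ →* A), Cfsg.IsStemExtension σ → σ.ker = ⊥) :
    Cfsg.HasCyclicSchurMultiplier B 1 := by
  refine CfsgLib.Schur.hasCyclic_one_of_ker_eq_bot fun Δ _ _ σ hσ => ?_
  have hk : (e.symm.toMonoidHom.comp σ).ker = σ.ker :=
    MonoidHom.ker_comp_of_injective _ _ e.symm.injective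
  rw [← hk]
  exact h Δ _ ⟨e.symm.surjective.comp hσ.1, hk.le.trans hσ.2.1, hk.le.trans hσ.2.2⟩

end CfsgLib.Lie.Mult
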