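import Cfsg.Agent.Lib.Lie.Mult.Sylow
import Cfsg.Agent.Lib.Lie.Mult.SylowGens
import Cfsg.Agent.Lib.Spor.M11Centralizer

/-!
# The multiplier of the smallest Mathieu group

At two a semidihedral subgroup of order 16, at three an elementary abelian subgroup of order nine
with an element centralising one generator and inverting the other, cyclic subgroups elsewhere.
-/

set_option autoImplicit false

namespace CfsgLib.Lie.MultM11

open Cfsg Subgroup CfsgLib.Spor

local notation "M11" => Spor.M11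

open CfsgLib.Spor.M11Cent in
/-- semidihedral generators -/
theorem exists_semidihedral : ∃ a b : M11, orderOf a = 8 ∧ b * b = 1 ∧ b * a * b⁻¹ = a ^ 3 := by
  let A : GL (Fin 2) (ZMod 3) :=
    ⟨!![1, 1; 1, 0], !![0, 1; 1, 2], by decide +kernel, by decide +kernel⟩
  let B : GL (Fin 2) (ZMod 3) :=
    ⟨!![1, 0; 2, 2], !![1, 0; 2, 2], by decide +kernel, by decide +kernel⟩
  have hA : orderOf A = 2 ^ (2 + 1) :=
    orderOf_eq_prime_pow (p := 2) (n := 2)
      (fun h => absurd (congrArg Units.val h) (by decide +kernel)) (Units.ext (by decide +kernel))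
  refine ⟨rep A, rep B, ?_, ?_, ?_⟩
  · rw [orderOf_injective rep rep_injective, hA]; norm_num
  · rw [← map_mul, show B * B = 1 from Units.ext (by decide +kernel), map_one]
  · rw [← map_inv, ← map_mul, ← map_mul, ← map_pow]
    exact congrArg rep (Units.ext (by decide +kernel))

/-- packed generators at three -/
def ca : ℕ := 0x5de8e29a329d503b29a93c1ec20820
/-- packed generators at three -/
def cb : ℕ := 0x5deb478d4c2ba49b1e068926868820
/-- packed inverting element -/
def cg : ℕ := 0x2ceb4b36295ba4c79e06522e418440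

theorem code_facts : inM11 ca = true ∧ inM11 cb = true ∧ inM11 cg = true ∧
    permMulCode ca idPacked ≠ permMulCode idPacked idPacked ∧
    permMulCode cb idPacked ≠ permMulCode idPacked idPacked ∧
    isPermCode idPacked = true ∧
    isPermCode (permMulCode ca ca) = true ∧ isPermCode (permMulCode cb cb) = true ∧
    isPermCode (permMulCode cg cb) = true ∧
    permMulCode ca (permMulCode ca ca) = permMulCode idPacked idPacked ∧
    permMulCode cb (permMulCode cb cb) = permMulCode idPacked idPacked ∧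
    permMulCode ca cb = permMulCode cb ca ∧ permMulCode cg ca = permMulCode ca cg ∧
    permMulCode cb (permMulCode cg cb) = permMulCode cg idPacked := by decide +kernel

/-- generators at three -/
theorem exists_three : ∃ a b g : M11, orderOf a = 3 ∧ b ^ 3 = 1 ∧ b ≠ 1 ∧ a * b = b * a ∧
    g * a * g⁻¹ = a ∧ g * b * g⁻¹ = b⁻¹ := by
  obtain ⟨ha, hb, hg, na, nb, hid, haa, hbb, hgb, pa, pb, cab, cga, cgb⟩ := code_facts
  obtain ⟨qa, ma⟩ := m11_sound ha
  obtain ⟨qb, mb⟩ := m11_sound hb
  obtain ⟨qg, mg⟩ := m11_sound hg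
  have three : ∀ {c : ℕ} (qc : isPermCode c = true) (mc : permOf c ∈ M11),
      isPermCode (permMulCode c c) = true →
      permMulCode c (permMulCode c c) = permMulCode idPacked idPacked →
      (⟨permOf c, mc⟩ : M11) ^ 3 = 1 := fun {c} qc mc hcc h => by
    refine Subtype.ext ?_
    rw [SubgroupClass.coe_pow, OneMemClass.coe_one, pow_succ', pow_two]
    rw [permOf_permMulCode qc qc hcc rfl]
    rw [(permMulCode_eq_iff qc hcc hid hid).1 h, permOf_idPacked, one_mul]
  have ne1 : ∀ {c : ℕ} (qc : isPermCode c = true) (mc : permOf c ∈ M11),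
      permMulCode c idPacked ≠ permMulCode idPacked idPacked → (⟨permOf c, mc⟩ : M11) ≠ 1 :=
    fun {c} qc mc h e => h ((permMulCode_eq_iff qc hid hid hid).2
      (by rw [show permOf c = 1 from congrArg Subtype.val e, permOf_idPacked]))
  refine ⟨⟨_, ma⟩, ⟨_, mb⟩, ⟨_, mg⟩, orderOf_eq_prime (three qa ma haa pa) (ne1 qa ma na),
    three qb mb hbb pb, ne1 qb mb nb, Subtype.ext ((permMulCode_eq_iff qa qb qb qa).1 cab), ?_, ?_⟩
  · rw [mul_inv_eq_iff_eq_mul]
    exact Subtype.ext ((permMulCode_eq_iff qg qa qa qg).1 cga)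
  · rw [mul_inv_eq_iff_eq_mul, eq_inv_mul_iff_mul_eq]
    refine Subtype.ext ?_
    show permOf cb * (permOf cg * permOf cb) = permOf cg
    rw [permOf_permMulCode qg qb hgb rfl, (permMulCode_eq_iff qb hgb qg hid).1 cgb, permOf_idPacked,
      mul_one]

/-- the stem extensions of the group are trivial -/
theorem m11_stem_ker {Γ : Type*} [Group Γ] [Finite Γ] {τ : Γ →* M11}
    (hτ : Cfsg.IsStemExtension τ) : τ.ker = ⊥ := by
  have hN : Nat.card M11 = 7920 := CfsgLib.Spor.card_sporM11
  haveI : Finite M11 := Nat.finite_of_card_ne_zero (by rw [hN]; norm_num)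
  refine Mult.ker_eq_bot_of_forall fun ℓ hℓ => ?_
  haveI := Fact.mk hℓ
  by_cases hd : ℓ ∣ 7920
  swap
  · exact Mult.not_dvd_ker_of_cyclic hτ (⊥ : Subgroup M11) (by rwa [index_bot, hN])
  have hindex : ∀ (S : Subgroup M11) (m : ℕ), Nat.card S = ℓ ^ m → ∀ c : ℕ, 7920 = ℓ ^ m * c →
      S.index = c := fun S m hS c hc => by
    have h := S.card_mul_index
    rw [hS, hN, hc] at h
    exact Nat.eq_of_mul_eq_mul_left (pow_pos hℓ.pos m) h
  have hcop : ∀ (S : Subgroup M11) {z : Γ}, orderOf z = ℓ → ¬ ℓ ∣ S.index →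
      Nat.Coprime (orderOf z) S.index := fun S z hz hS => by
    rw [hz]; exact (Nat.Prime.coprime_iff_not_dvd hℓ).2 hS
  by_cases h2 : ℓ = 2
  · subst h2
    intro hk
    obtain ⟨⟨z, hzk⟩, hz⟩ := exists_prime_orderOf_dvd_card' 2 hk
    rw [Subgroup.orderOf_mk] at hz
    obtain ⟨a, b, ha, hb, hab⟩ := exists_semidihedral
    obtain ⟨m, hm, hcard⟩ := MultSylow.exists_card_closure_pair (p := 2) (i := 3) (j := 1) (a := a) (b := b)
      (by rw [ha]; norm_num) (by rw [pow_one, pow_two, hb]) (by rw [hab]; exact pow_mem (mem_zpowers a) 3)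
      (fun hmem => by
        obtain ⟨k, rfl⟩ := hmem
        simp only at hab
        rw [(Commute.zpow_self a k).eq, mul_inv_cancel_right] at hab
        have h2 : a ^ 2 = 1 := mul_left_cancel (a := a) (by rw [mul_one, ← pow_succ']; exact hab.symm)
        have := orderOf_dvd_of_pow_eq_one h2
        rw [ha] at this
        norm_num at this)
    have hm4 : m = 4 := by
      have hdv : 2 ^ m ∣ 7920 := hcard ▸ hN ▸ card_subgroup_dvd_card _
      by_contra hne
      have : 2 ^ 5 ∣ 7920 := (pow_dvd_pow 2 (show 5 ≤ m by omega)).trans hdv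
      norm_num at this
    have hi := hindex _ m hcard 495 (by rw [hm4]; norm_num)
    have := MultSylow.eq_one_of_semidihedral hτ hzk (hcop _ hz (by rw [hi]; norm_num)) ha hb hab
    rw [this, orderOf_one] at hz
    exact absurd hz (by norm_num)
  by_cases h3 : ℓ = 3
  · subst h3
    intro hk
    obtain ⟨⟨z, hzk⟩, hz⟩ := exists_prime_orderOf_dvd_card' 3 hk
    rw [Subgroup.orderOf_mk] at hz
    obtain ⟨a, b, g, ha, hb, hb1, hab, hga, hgb⟩ := exists_three
    obtain ⟨m, hm, hcard⟩ := MultSylow.exists_card_closure_pair (p := 3) (i := 1) (j := 1) (a := a) (b := b)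
      (by rw [ha]; norm_num) (by rw [pow_one]; exact hb) (by rw [← hab, mul_inv_cancel_right]; exact mem_zpowers a)
      (fun hmem => by
        obtain ⟨k, rfl⟩ := hmem
        simp only at hb hb1 hgb
        rw [← conj_zpow, hga] at hgb
        apply hb1
        calc a ^ k = (a ^ k) ^ 3 * ((a ^ k) * (a ^ k))⁻¹ := by group
          _ = 1 := by rw [hb]; nth_rewrite 2 [hgb]; rw [mul_inv_cancel, inv_one, one_mul])
    have hm2 : m = 2 := by
      have hdv : 3 ^ m ∣ 7920 := hcard ▸ hN ▸ card_subgroup_dvd_card _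
      by_contra hne
      have : 3 ^ 3 ∣ 7920 := (pow_dvd_pow 3 (show 3 ≤ m by omega)).trans hdv
      norm_num at this
    have hi := hindex _ m hcard 880 (by rw [hm2]; norm_num)
    have h1 := MultSylow.sq_eq_one_of_inverted hτ hzk (hcop _ hz (by rw [hi]; norm_num)) hab hga hgb
    have := orderOf_dvd_of_pow_eq_one h1
    rw [hz] at this
    norm_num at this
  have h511 : ℓ = 5 ∨ ℓ = 11 := by
    rw [show 7920 = 2 ^ 4 * 3 ^ 2 * 5 * 11 by norm_num] at hd
    rcases (Nat.Prime.dvd_mul hℓ).1 hd with hd | hd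
    · rcases (Nat.Prime.dvd_mul hℓ).1 hd with hd | hd
      · rcases (Nat.Prime.dvd_mul hℓ).1 hd with hd | hd
        · exact absurd ((Nat.prime_dvd_prime_iff_eq hℓ Nat.prime_two).1 (hℓ.dvd_of_dvd_pow hd)) h2
        · exact absurd ((Nat.prime_dvd_prime_iff_eq hℓ Nat.prime_three).1 (hℓ.dvd_of_dvd_pow hd)) h3
      · exact Or.inl ((Nat.prime_dvd_prime_iff_eq hℓ (by norm_num)).1 hd)
    · exact Or.inr ((Nat.prime_dvd_prime_iff_eq hℓ (by norm_num)).1 hd)
  obtain ⟨a, ha⟩ := exists_prime_orderOf_dvd_card' (G := M11) ℓ (by rwa [hN])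
  refine Mult.not_dvd_ker_of_cyclic hτ (zpowers a) ?_
  rcases h511 with rfl | rfl
  · rw [hindex _ 1 (by rw [Nat.card_zpowers, ha, pow_one]) 1584 (by norm_num)]; norm_num
  · rw [hindex _ 1 (by rw [Nat.card_zpowers, ha, pow_one]) 720 (by norm_num)]; norm_num

end CfsgLib.Lie.MultM11
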