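import Cfsg.Agent.Lib.Lie.Mult.Sylow
import Cfsg.Agent.Lib.Lie.SLUniv.Basic
import Cfsg.Agent.Lib.Lie.Suz.Cyclic
import Cfsg.Agent.Lib.Lie.Suz.Twisted

/-!
# The multiplier of the Suzuki groups

Odd Sylow subgroups are cyclic.  In a central extension the torus makes every bilinear pairing between
the layers of the translation group vanish, so its preimage has derived group meeting the kernel trivially.
-/

set_option autoImplicit false

namespace CfsgLib.Lie.Mult

open CfsgLib.Lie.Suz
open scoped commutatorElement MatrixGroups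

universe u

variable {F : Type*} [Field F] [Fintype F]

theorem exists_eval_ne {f : Polynomial F} (h0 : f ≠ 0) (hd : f.natDegree < Fintype.card F) :
    ∃ x : F, f.eval x ≠ 0 := by
  classical
  by_contra hc
  push Not at hc
  have hsub : (Finset.univ : Finset F) ⊆ f.roots.toFinset := fun s _ => by
    rw [Multiset.mem_toFinset, Polynomial.mem_roots h0]
    exact hc s
  have := ((Finset.card_le_card hsub).trans (Multiset.toFinset_card_le _)).trans
    (Polynomial.card_roots' f)
  rw [Finset.card_univ] at this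
  omega

/-- a central biadditive pairing invariant under all scalars is trivial for more than four elements -/
theorem pairing_eq_one {P : Type*} [Group P] {f : F → F → P} (hq : 4 < Fintype.card F)
    (hcen : ∀ t u, f t u ∈ Subgroup.center P)
    (addL : ∀ t t' u, f (t + t') u = f t u * f t' u) (addR : ∀ t u u', f t (u + u') = f t u * f t u')
    (inv : ∀ (c : F), c ≠ 0 → ∀ t u, f (c * t) (c * u) = f t u) (t u : F) : f t u = 1 := by
  obtain ⟨x, hx⟩ := exists_eval_ne
    (f := (Polynomial.X * (1 + Polynomial.X) * (Polynomial.X ^ 2 + Polynomial.X + 1) : Polynomial F))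
    (by
      intro h
      have h1 := congrArg (fun g => Polynomial.coeff g 1) h
      simp only [mul_assoc, Polynomial.coeff_X_mul, Polynomial.coeff_zero,
        Polynomial.coeff_zero_eq_eval_zero] at h1
      simp at h1)
    (lt_of_le_of_lt (by compute_degree!) hq)
  simp only [Polynomial.eval_mul, Polynomial.eval_add, Polynomial.eval_pow, Polynomial.eval_X,
    Polynomial.eval_one, mul_ne_zero_iff] at hx
  obtain ⟨⟨hx0, hx1⟩, hx2⟩ := hx
  have key : ∀ t u, f t (x * u) * f (x * t) u * f t u = 1 := by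
    intro t u
    have h := inv (1 + x) hx1 t u
    rw [add_mul, add_mul, one_mul, one_mul, addL, addR, addR, inv x hx0] at h
    rw [mul_assoc, mul_eq_left] at h
    rw [mul_assoc]
    exact h
  have key2 : ∀ t u, f ((x ^ 2 + x + 1) * t) u = 1 := by
    intro t u
    have h := key (x * t) u
    rw [inv x hx0] at h
    rw [show (x ^ 2 + x + 1) * t = x * (x * t) + x * t + t by ring, addL, addL, ← h]
    rw [Subgroup.mem_center_iff.1 (hcen t u) (f (x * (x * t)) u * f (x * t) u), mul_assoc]
  rw [← mul_div_cancel₀ t hx2, key2]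

variable {m : ℕ} (hm : 2 ≤ m) (hF : Fintype.card F = 2 ^ (2 * m + 1)) {P : Type*} [Group P]
  {p : P →* Cfsg.Sz F m} (hp : Function.Surjective p) (hc : p.ker ≤ Subgroup.center P)

/-- the norm `θ(a) a` -/
def nm (m : ℕ) (a : F) : F := th m a * a

omit [Fintype F] in
theorem nm_eq_pow (a : F) : nm m a = a ^ (2 ^ (m + 1) + 1) := by rw [nm, th, pow_succ a (2 ^ (m + 1))]

include hm hF in
theorem exists_good : ∃ a : F, a ≠ 0 ∧ 1 + a ≠ 0 ∧ (nm m (1 + a))⁻¹ + 1 + (nm m a)⁻¹ ≠ 0 := by
  set t := 2 ^ (m + 1) + 1 with ht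
  let g : Polynomial F := Polynomial.X * (1 + Polynomial.X) *
    (Polynomial.X ^ t + (1 + Polynomial.X) ^ t + Polynomial.X ^ t * (1 + Polynomial.X) ^ t)
  have hne : g ≠ 0 := by
    intro h
    have h1 := congrArg (fun g => Polynomial.coeff g 1) h
    simp only [g, mul_assoc, Polynomial.coeff_X_mul, Polynomial.coeff_zero,
      Polynomial.coeff_zero_eq_eval_zero] at h1
    simp [show t ≠ 0 by omega] at h1
  have hdeg : g.natDegree ≤ 2 + 2 * t := by
    have h1 : ((1 : Polynomial F) + Polynomial.X).natDegree ≤ 1 :=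
      (Polynomial.natDegree_add_le _ _).trans (by simp)
    have h2 : ((1 + Polynomial.X : Polynomial F) ^ t).natDegree ≤ t :=
      Polynomial.natDegree_pow_le.trans (by simpa using Nat.mul_le_mul_left t h1)
    have h3 : ((Polynomial.X : Polynomial F) ^ t).natDegree ≤ t := by simp
    refine Polynomial.natDegree_mul_le.trans (Nat.add_le_add (Polynomial.natDegree_mul_le.trans ?_) ?_)
    · have : (Polynomial.X : Polynomial F).natDegree ≤ 1 := Polynomial.natDegree_X_le
      omega
    · refine (Polynomial.natDegree_add_le _ _).trans (max_le ((Polynomial.natDegree_add_le _ _).trans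
        (max_le (by omega) (by omega))) (Polynomial.natDegree_mul_le.trans (by omega)))
  have hlt : 2 + 2 * t < Fintype.card F := by
    have h1 : 2 ^ (m + 3) ≤ 2 ^ (2 * m + 1) := Nat.pow_le_pow_right (by norm_num) (by omega)
    have h2 : 2 ^ 3 ≤ 2 ^ (m + 1) := Nat.pow_le_pow_right (by norm_num) (by omega)
    rw [ht, hF]
    rw [pow_succ, pow_succ] at h1
    omega
  obtain ⟨a, ha⟩ := exists_eval_ne hne (hdeg.trans_lt hlt)
  simp only [g, Polynomial.eval_mul, Polynomial.eval_add, Polynomial.eval_pow, Polynomial.eval_X,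
    Polynomial.eval_one, mul_ne_zero_iff] at ha
  obtain ⟨⟨h0, h1⟩, h2⟩ := ha
  refine ⟨a, h0, h1, fun e => h2 ?_⟩
  rw [nm_eq_pow, nm_eq_pow, ← ht] at e
  have := pow_ne_zero t h0
  have := pow_ne_zero t h1
  field_simp at e
  linear_combination e

section

include hm hF hp hc

/-- kernel elements in the derived group of the preimage of the translations are trivial -/
theorem suz_preimage {z : P} (hz : z ∈ p.ker)
    (hz' : z ∈ ⁅(U hF).comap p, (U hF).comap p⁆) : z = 1 := by
  have hS := isSuzField hF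
  have hq : 4 < Fintype.card F := by
    rw [hF]
    calc 4 < 2 ^ 3 := by norm_num
      _ ≤ _ := Nat.pow_le_pow_right (by norm_num) (by omega)
  choose L hL using fun a b : F => hp (TS hF a b)
  choose H hH using fun k : Fˣ => hp (HS hF k)
  have tmul : ∀ a b a' b' : F, TS hF a b * TS hF a' b' = TS hF (a + a') (b + b' + th m a * a') :=
    fun a b a' b' => Subtype.ext (T_mul hS a b a' b')
  have tzero : TS hF (0 : F) 0 = 1 := Subtype.ext T_zero
  have tcentral : ∀ a b c : F, Commute (TS hF 0 c) (TS hF a b) := fun a b c =>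
    Subtype.ext (T_zero_comm hS a b c)
  have tconj : ∀ (k : Fˣ) (a b : F),
      HS hF k * TS hF a b * (HS hF k)⁻¹ = TS hF ((k : F) * a) (nm m (k : F) * b) :=
    fun k a b => H_conj_T hF k a b
  have hconj : ∀ (k : Fˣ) (a b : F),
      p (H k * L a b * (H k)⁻¹) = p (L ((k : F) * a) (nm m (k : F) * b)) := fun k a b => by
    rw [map_mul, map_mul, map_inv, hH, hL, hL, tconj]
  have cmul : ∀ {x : P} (y : P), x ∈ Subgroup.center P → y * x * y⁻¹ = x := fun y hx => by
    rw [Subgroup.mem_center_iff.1 hx y, mul_inv_cancel_right]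
  -- the centre of the translations
  let f₀ : F → F → P := fun b b' => ⁅L 0 b, L 0 b'⁆
  have f₀cen : ∀ b b', f₀ b b' ∈ Subgroup.center P := fun b b' =>
    SLUniv.comm_central hc (by rw [hL, hL]; exact tcentral _ _ _)
  have f₀R : ∀ b u u', f₀ b (u + u') = f₀ b u * f₀ b u' := fun b u u' => by
    calc f₀ b (u + u') = ⁅L 0 b, L 0 u * L 0 u'⁆ :=
          SLUniv.comm_congr hc rfl (by rw [map_mul, hL, hL, hL, tmul, zero_add, th_zero hS, zero_mul, add_zero])
      _ = f₀ b u * (L 0 u * f₀ b u' * (L 0 u)⁻¹) := by simp only [f₀, commutatorElement_def]; group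
      _ = _ := by rw [cmul _ (f₀cen _ _)]
  have f₀L : ∀ b b' u, f₀ (b + b') u = f₀ b u * f₀ b' u := fun b b' u => by
    have e : ∀ x y : F, f₀ x y = (f₀ y x)⁻¹ := fun x y => (commutatorElement_inv (L 0 y) (L 0 x)).symm
    rw [e, f₀R, mul_inv_rev, ← e, ← e, Subgroup.mem_center_iff.1 (f₀cen b u)]
  have h0 : ∀ b b', Commute (L 0 b) (L 0 b') := fun b b' => by
    refine commutatorElement_eq_one_iff_commute.1 (pairing_eq_one hq f₀cen f₀L f₀R ?_ b b')
    intro c hc' t u
    obtain ⟨k, hk⟩ := exists_kth_eq hF hc'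
    rw [← cmul (H k) (f₀cen t u)]
    simp only [f₀]
    rw [conjugate_commutatorElement]
    exact (SLUniv.comm_congr hc (by rw [hconj, mul_zero, nm, hk]) (by rw [hconj, mul_zero, nm, hk])).symm
  -- the centre and the whole group
  let δ : F → F → P := fun a b => ⁅L a 0, L 0 b⁆
  have δcen : ∀ a b, δ a b ∈ Subgroup.center P := fun a b =>
    SLUniv.comm_central hc (by rw [hL, hL]; exact (tcentral _ _ _).symm)
  have δR : ∀ a u u', δ a (u + u') = δ a u * δ a u' := fun a u u' => by
    calc δ a (u + u') = ⁅L a 0, L 0 u * L 0 u'⁆ :=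
          SLUniv.comm_congr hc rfl (by rw [map_mul, hL, hL, hL, tmul, zero_add, th_zero hS, zero_mul, add_zero])
      _ = δ a u * (L 0 u * δ a u' * (L 0 u)⁻¹) := by simp only [δ, commutatorElement_def]; group
      _ = _ := by rw [cmul _ (δcen _ _)]
  have δL : ∀ a a' u, δ (a + a') u = δ a u * δ a' u := fun a a' u => by
    have e1 : p (L a 0 * L a' 0) = p (L (a + a') 0 * L 0 (th m a * a')) := by
      simp [map_mul, hL, tmul]
    calc δ (a + a') u = ⁅L (a + a') 0 * L 0 (th m a * a'), L 0 u⁆ := by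
          rw [show ⁅L (a + a') 0 * L 0 (th m a * a'), L 0 u⁆ =
            L (a + a') 0 * ⁅L 0 (th m a * a'), L 0 u⁆ * (L (a + a') 0)⁻¹ * δ (a + a') u by
              simp only [δ, commutatorElement_def]; group,
            commutatorElement_eq_one_iff_commute.2 (h0 _ _), mul_one, mul_inv_cancel, one_mul]
      _ = ⁅L a 0 * L a' 0, L 0 u⁆ := SLUniv.comm_congr hc e1.symm rfl
      _ = (L a 0 * δ a' u * (L a 0)⁻¹) * δ a u := by simp only [δ, commutatorElement_def]; group
      _ = _ := by rw [cmul _ (δcen _ _), Subgroup.mem_center_iff.1 (δcen a u)]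
  have δinv : ∀ (k : Fˣ) a b, δ ((k : F) * a) (nm m (k : F) * b) = δ a b := fun k a b => by
    rw [← cmul (H k) (δcen a b)]
    simp only [δ]
    rw [conjugate_commutatorElement]
    exact (SLUniv.comm_congr hc (by rw [hconj, mul_zero]) (by rw [hconj, mul_zero])).symm
  have δone : ∀ a b, δ a b = 1 := by
    have hscale : ∀ a : F, a ≠ 0 → ∀ b, δ a b = δ 1 ((nm m a)⁻¹ * b) := fun a ha b => by
      rw [← δinv (Units.mk0 a ha) 1 ((nm m a)⁻¹ * b), Units.val_mk0, mul_one, mul_inv_cancel_left₀
        (show nm m a ≠ 0 from mul_ne_zero (fun h => ha (th_eq_zero hS h)) ha)]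
    obtain ⟨a, ha0, ha1, he⟩ := exists_good hm hF
    have g1 : ∀ b, δ 1 b = 1 := by
      intro b
      set e := (nm m (1 + a))⁻¹ + 1 + (nm m a)⁻¹
      set c := b / e
      have h := δL 1 a c
      rw [hscale _ ha1, hscale _ ha0] at h
      have h' : δ 1 b = δ 1 ((nm m (1 + a))⁻¹ * c) * δ 1 c * δ 1 ((nm m a)⁻¹ * c) := by
        rw [← δR, ← δR]
        congr 1
        simp only [c]
        field_simp
        ring
      rw [h', h, mul_assoc (δ 1 c) _ (δ 1 c), Subgroup.mem_center_iff.1 (δcen 1 c) (δ 1 _),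
        ← mul_assoc, ← δR, add_self hS, mul_assoc, ← δR, add_self hS, ← δR, add_zero]
      have hz0 := δR 1 0 0
      rw [add_zero] at hz0
      exact right_eq_mul.1 hz0
    intro x b
    by_cases hx : x = 0
    · subst hx
      have hz0 := δL 0 0 b
      rw [add_zero] at hz0
      exact right_eq_mul.1 hz0
    · rw [hscale x hx, g1]
  -- equivariant lifts of the centre
  obtain ⟨c₀, hc00, hc01⟩ : ∃ c : F, c ≠ 0 ∧ c ≠ 1 := by
    obtain ⟨x, hx⟩ := exists_eval_ne (f := (Polynomial.X * (Polynomial.X - 1) : Polynomial F))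
      (mul_ne_zero Polynomial.X_ne_zero (Polynomial.X_sub_C_ne_zero 1))
      (lt_of_le_of_lt (by compute_degree!) (show 2 < Fintype.card F by omega))
    simp only [Polynomial.eval_mul, Polynomial.eval_sub, Polynomial.eval_X, Polynomial.eval_one,
      mul_ne_zero_iff, sub_ne_zero] at hx
    exact ⟨x, hx.1, hx.2⟩
  obtain ⟨k₀, hk₀⟩ := exists_kth_eq hF hc00
  have hd : c₀ + 1 ≠ 0 := fun e => hc01 (by
    calc c₀ = c₀ + (1 + 1) := by rw [add_self hS, add_zero]
      _ = 1 := by rw [← add_assoc, e, zero_add])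
  let Y : F → P := fun b => ⁅H k₀, L 0 (b / (c₀ + 1))⁆
  have hY : ∀ b, p (Y b) = TS hF 0 b := fun b => by
    rw [map_commutatorElement, hH, hL, commutatorElement_def, tconj, mul_zero, nm, hk₀,
      show (TS hF (0 : F) (b / (c₀ + 1)))⁻¹ = TS hF 0 (b / (c₀ + 1)) from
        Subtype.ext (by show (T m 0 _)⁻¹ = _; rw [T_inv hS, th_zero hS, zero_mul, add_zero]; rfl),
      tmul, zero_add, th_zero hS, zero_mul, add_zero]
    congr 1
    field_simp
  have hYcomm : ∀ a b c : F, Commute (L a b) (Y c) := by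
    intro a b c
    refine SLUniv.commute_congr hc (a' := L a 0 * L 0 b) (b' := L 0 c)
      (by rw [map_mul, hL, hL, hL, tmul, add_zero, zero_add, mul_zero, add_zero])
      (by rw [hY, hL]) (Commute.mul_left ?_ (h0 _ _))
    exact commutatorElement_eq_one_iff_commute.1 (δone a c)
  have hYadd : ∀ b b', Y (b + b') = Y b * Y b' := fun b b' => by
    calc Y (b + b') = ⁅H k₀, L 0 (b / (c₀ + 1)) * L 0 (b' / (c₀ + 1))⁆ :=
          SLUniv.comm_congr hc rfl (by
            rw [map_mul, hL, hL, hL, tmul, zero_add, th_zero hS, zero_mul, add_zero, add_div])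
      _ = Y b * (L 0 (b / (c₀ + 1)) * Y b' * (L 0 (b / (c₀ + 1)))⁻¹) := by
          simp only [Y, commutatorElement_def]; group
      _ = _ := by rw [(hYcomm _ _ _).eq, mul_inv_cancel_right]
  have hYequi : ∀ (k : Fˣ) b, H k * Y b * (H k)⁻¹ = Y (nm m (k : F) * b) := fun k b => by
    simp only [Y]
    rw [conjugate_commutatorElement]
    refine SLUniv.comm_congr hc ?_ ?_
    · rw [map_mul, map_mul, map_inv, hH, hH]
      have e : HS hF k * HS hF k₀ = HS hF k₀ * HS hF k := Subtype.ext (by
        show CfsgLib.Lie.Suz.H m k * CfsgLib.Lie.Suz.H m k₀ = CfsgLib.Lie.Suz.H m k₀ * CfsgLib.Lie.Suz.H m k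
        rw [← H_mul, ← H_mul, mul_comm])
      rw [e, mul_inv_cancel_right]
    · rw [hconj, mul_zero, mul_div_assoc]
  -- commutators of translations
  let c1 : F → F → P := fun a a' => ⁅L a 0, L a' 0⁆
  let w : F → F → F := fun a a' => th m a * a' + th m a' * a
  have hc1 : ∀ a a', p (c1 a a') = TS hF 0 (w a a') := fun a a' => by
    rw [map_commutatorElement, hL, hL, commutatorElement_def, mul_inv_eq_iff_eq_mul,
      mul_inv_eq_iff_eq_mul, tmul, tmul, tmul]
    simp only [w, th_zero hS, zero_mul, add_zero, zero_add]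
    rw [add_comm a' a, add_assoc, add_self hS, add_zero]
  have c1R : ∀ a u u', c1 a (u + u') = c1 a u * c1 a u' := fun a u u' => by
    have e1 : p (L u 0 * L u' 0) = p (L (u + u') 0 * Y (th m u * u')) := by
      simp [map_mul, hL, hY, tmul]
    have hcomm : ∀ a a' x y : F, Commute (L x y) (c1 a a') := fun a a' x y =>
      SLUniv.commute_congr hc rfl (b' := Y (w a a')) (by rw [hc1, hY]) (hYcomm _ _ _)
    calc c1 a (u + u') = ⁅L a 0, L (u + u') 0 * Y (th m u * u')⁆ := by
          rw [show ⁅L a 0, L (u + u') 0 * Y (th m u * u')⁆ =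
            c1 a (u + u') * (L (u + u') 0 * ⁅L a 0, Y (th m u * u')⁆ * (L (u + u') 0)⁻¹) by
              simp only [c1, commutatorElement_def]; group,
            commutatorElement_eq_one_iff_commute.2 (hYcomm _ _ _), mul_one, mul_inv_cancel, mul_one]
      _ = ⁅L a 0, L u 0 * L u' 0⁆ := SLUniv.comm_congr hc rfl e1.symm
      _ = c1 a u * (L u 0 * c1 a u' * (L u 0)⁻¹) := by simp only [c1, commutatorElement_def]; group
      _ = _ := by rw [(hcomm a u' u 0).eq, mul_inv_cancel_right]
  let ζ : F → F → P := fun a a' => c1 a a' * (Y (w a a'))⁻¹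
  have ζcen : ∀ a a', ζ a a' ∈ Subgroup.center P := fun a a' =>
    hc (by rw [MonoidHom.mem_ker, map_mul, map_inv, hc1, hY, mul_inv_cancel])
  have ζR : ∀ a u u', ζ a (u + u') = ζ a u * ζ a u' := fun a u u' => by
    have hw : w a (u + u') = w a u + w a u' := by simp only [w, th_add hS]; ring
    simp only [ζ]
    rw [c1R, hw, hYadd, mul_inv_rev]
    have hz := Subgroup.mem_center_iff.1 (ζcen a u') (Y (w a u))⁻¹
    simp only [ζ] at hz
    calc _ = c1 a u * (c1 a u' * (Y (w a u'))⁻¹ * (Y (w a u))⁻¹) := by group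
      _ = _ := by rw [← hz]; group
  have ζanti : ∀ a a', ζ a a' = (ζ a' a)⁻¹ := fun a a' => by
    have hw : w a a' = w a' a := by simp only [w]; ring
    simp only [ζ]
    rw [hw, mul_inv_rev, inv_inv, show (c1 a' a)⁻¹ = c1 a a' from commutatorElement_inv _ _]
    have hYinv : ∀ x, (Y x)⁻¹ = Y x := fun x => by
      rw [inv_eq_iff_mul_eq_one, ← hYadd, add_self hS]
      have hz0 := hYadd 0 0
      rw [add_zero] at hz0
      exact right_eq_mul.1 hz0
    rw [hYinv]
    exact (SLUniv.commute_congr hc (a' := Y (w a a')) (b' := Y (w a' a)) (by rw [hc1, hY])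
      rfl (SLUniv.commute_congr hc (a' := L 0 (w a a')) (b' := L 0 (w a' a)) (by rw [hY, hL])
        (by rw [hY, hL]) (h0 _ _))).eq
  have ζL : ∀ a a' u, ζ (a + a') u = ζ a u * ζ a' u := fun a a' u => by
    rw [ζanti, ζR, mul_inv_rev, ← ζanti, ← ζanti, Subgroup.mem_center_iff.1 (ζcen a u)]
  have ζone : ∀ a a', ζ a a' = 1 := by
    refine pairing_eq_one hq ζcen ζL ζR ?_
    intro c hc' t u
    have e1 : H (Units.mk0 c hc') * c1 t u * (H (Units.mk0 c hc'))⁻¹ = c1 (c * t) (c * u) := by
      simp only [c1]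
      rw [conjugate_commutatorElement]
      exact SLUniv.comm_congr hc (by rw [hconj, Units.val_mk0, mul_zero])
        (by rw [hconj, Units.val_mk0, mul_zero])
    have hw : w (c * t) (c * u) = nm m c * w t u := by simp only [w, nm, th_mul hS]; ring
    have e := cmul (H (Units.mk0 c hc')) (ζcen t u)
    simp only [ζ] at e ⊢
    rw [show H (Units.mk0 c hc') * (c1 t u * (Y (w t u))⁻¹) * (H (Units.mk0 c hc'))⁻¹ =
      H (Units.mk0 c hc') * c1 t u * (H (Units.mk0 c hc'))⁻¹ *
        (H (Units.mk0 c hc') * Y (w t u) * (H (Units.mk0 c hc'))⁻¹)⁻¹ by group, e1, hYequi,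
      Units.val_mk0, ← hw] at e
    exact e
  -- conclusion
  let Yh : Multiplicative F →* P :=
    { toFun := fun x => Y x.toAdd
      map_one' := by
        have hz0 := hYadd 0 0
        rw [add_zero] at hz0
        exact right_eq_mul.1 hz0
      map_mul' := fun x y => hYadd _ _ }
  have hle : ⁅(U hF).comap p, (U hF).comap p⁆ ≤ Yh.range := by
    rw [Subgroup.commutator_le]
    intro g hg g' hg'
    obtain ⟨a, b, hab⟩ := hg
    obtain ⟨a', b', hab'⟩ := hg'
    have e : ∀ a b : F, ∀ g : P, (p g : SL(4, F)) = T m a b → p g = p (L a 0 * L 0 b) := fun a b g h => by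
      rw [map_mul, hL, hL, tmul, add_zero, zero_add, mul_zero, add_zero]
      exact Subtype.ext h
    rw [SLUniv.comm_congr hc ((e a b g hab).trans (show p (L a 0 * L 0 b) = p (L a 0 * Y b) by
        rw [map_mul, map_mul, hY, hL, hL]))
      ((e a' b' g' hab').trans (show p (L a' 0 * L 0 b') = p (L a' 0 * Y b') by
        rw [map_mul, map_mul, hY, hL, hL]))]
    have e2 : ⁅L a 0 * Y b, L a' 0 * Y b'⁆ = ⁅L a 0, L a' 0⁆ := by
      have k1 : Commute (Y b) (L a' 0 * Y b') := ((hYcomm _ _ _).symm.mul_right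
        (SLUniv.commute_congr hc (a' := L 0 b) (b' := L 0 b') (by rw [hY, hL]) (by rw [hY, hL]) (h0 _ _)))
      calc ⁅L a 0 * Y b, L a' 0 * Y b'⁆
          = L a 0 * ⁅Y b, L a' 0 * Y b'⁆ * (L a 0)⁻¹ * ⁅L a 0, L a' 0 * Y b'⁆ := by
            simp only [commutatorElement_def]; group
        _ = ⁅L a 0, L a' 0 * Y b'⁆ := by
            rw [commutatorElement_eq_one_iff_commute.2 k1, mul_one, mul_inv_cancel, one_mul]
        _ = ⁅L a 0, L a' 0⁆ * (L a' 0 * ⁅L a 0, Y b'⁆ * (L a' 0)⁻¹) := by
            simp only [commutatorElement_def]; group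
        _ = _ := by
            rw [commutatorElement_eq_one_iff_commute.2 (hYcomm _ _ _), mul_one, mul_inv_cancel, mul_one]
    rw [e2]
    exact ⟨Multiplicative.ofAdd (w a a'), (mul_inv_eq_one.1 (ζone a a')).symm⟩
  obtain ⟨x, hx⟩ := hle hz'
  have hxY : Y x.toAdd = z := hx
  rw [← hxY, MonoidHom.mem_ker, hY, ← tzero] at hz
  have := TS_injective hF (a₁ := ((0 : F), x.toAdd)) (a₂ := (0, 0)) hz
  rw [← hxY, show x.toAdd = 0 from (Prod.ext_iff.1 this).2]
  exact Yh.map_one

end

include hm hF in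
/-- the stem extensions of the Suzuki groups are trivial -/
theorem suz_stem_ker {Γ : Type*} [Group Γ] [Finite Γ] {τ : Γ →* Cfsg.Sz F m}
    (hτ : Cfsg.IsStemExtension τ) : τ.ker = ⊥ := by
  have hm1 : 1 ≤ m := by omega
  refine ker_eq_bot_of_forall fun ℓ hℓ => ?_
  haveI := Fact.mk hℓ
  by_cases h2 : ℓ = 2
  · subst h2
    exact not_dvd_ker_of_preimage hτ (U hF) (U_index_not_dvd hm1 hF)
      fun z hz hz' _ => suz_preimage hm hF hτ.1 hτ.2.1 hz hz'
  · obtain ⟨S⟩ : Nonempty (Sylow ℓ (Cfsg.Sz F m)) := inferInstance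
    haveI := isCyclic_odd_pgroup hm1 hF h2 S.isPGroup'
    exact not_dvd_ker_of_cyclic hτ (S : Subgroup (Cfsg.Sz F m)) S.not_dvd_index

end CfsgLib.Lie.Mult
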