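import Cfsg.Agent.Lib.Lie.Mult.Sylow
import Cfsg.Agent.Lib.Lie.SLUniv.Basic
import Cfsg.Agent.Lib.Char.J1.Spectrum

/-!
# The multiplier of the first Janko group

The odd Sylow subgroups have prime order; an element of order seven permutes the Sylow 2-subgroup
fixed-point-freely, so its preimage in a central extension is abelian.
-/

set_option autoImplicit false

namespace CfsgLib.Lie.Mult

open CfsgLib.Char.J1
open scoped commutatorElement

/-- three commuting elements permuted by `g` as by the polynomial `x³ + x² + 1` lift to commuting elements -/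
theorem commute_lifts_three {P Q : Type*} [Group P] [Group Q] {p : P →* Q} (hp : Function.Surjective p)
    (hc : p.ker ≤ Subgroup.center P) {e₀ e₁ e₂ g : Q} (c01 : Commute e₀ e₁) (c02 : Commute e₀ e₂)
    (c12 : Commute e₁ e₂) (h0 : g * e₀ * g⁻¹ = e₁) (h1 : g * e₁ * g⁻¹ = e₂)
    (h2 : g * e₂ * g⁻¹ = e₀ * e₂) {A B C : P} (hA : p A = e₀) (hB : p B = e₁) (hC : p C = e₂) :
    Commute A B ∧ Commute A C ∧ Commute B C := by
  obtain ⟨q, hq⟩ := hp g
  have key : ∀ {x y x' y' : P}, Commute (p x) (p y) → p x' = g * p x * g⁻¹ → p y' = g * p y * g⁻¹ →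
      ⁅x', y'⁆ = ⁅x, y⁆ := by
    intro x y x' y' hxy hx hy
    have hz := SLUniv.comm_central hc hxy
    rw [SLUniv.comm_congr hc (a' := q * x * q⁻¹) (b' := q * y * q⁻¹)
      (by rw [map_mul, map_mul, map_inv, hq, hx]) (by rw [map_mul, map_mul, map_inv, hq, hy]),
      ← conjugate_commutatorElement, Subgroup.mem_center_iff.1 hz q, mul_inv_cancel_right]
  have d1 : ⁅B, C⁆ = ⁅A, B⁆ :=
    key (by rw [hA, hB]; exact c01) (by rw [hA, hB, h0]) (by rw [hB, hC, h1])
  have d2 : ⁅C, A * C⁆ = ⁅B, C⁆ :=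
    key (by rw [hB, hC]; exact c12) (by rw [hB, hC, h1]) (by rw [map_mul, hA, hC, h2])
  have d3 : ⁅B, A * C⁆ = ⁅A, C⁆ :=
    key (by rw [hA, hC]; exact c02) (by rw [hA, hB, h0]) (by rw [map_mul, hA, hC, h2])
  have e2 : ⁅C, A * C⁆ = ⁅C, A⁆ := by simp only [commutatorElement_def]; group
  have hBC : ⁅B, C⁆ ∈ Subgroup.center P := SLUniv.comm_central hc (by rw [hB, hC]; exact c12)
  have e3 : ⁅B, A * C⁆ = ⁅B, A⁆ * ⁅B, C⁆ := by
    rw [show ⁅B, A * C⁆ = ⁅B, A⁆ * (A * ⁅B, C⁆ * A⁻¹) by simp only [commutatorElement_def]; group,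
      Subgroup.mem_center_iff.1 hBC A, mul_inv_cancel_right]
  rw [e2] at d2
  rw [e3, d1, ← commutatorElement_inv A B, inv_mul_cancel] at d3
  have hAC : ⁅A, C⁆ = 1 := d3.symm
  have hCA : ⁅C, A⁆ = 1 := by rw [← commutatorElement_inv, hAC, inv_one]
  rw [hCA] at d2
  rw [← d2] at d1
  exact ⟨commutatorElement_eq_one_iff_commute.1 d1.symm, commutatorElement_eq_one_iff_commute.1 hAC,
    commutatorElement_eq_one_iff_commute.1 d2.symm⟩

theorem check_seven :
    mulC (pairC 0 1) (eightC (1, 0, 0)) = mulC (eightC (1, 1, 0)) (pairC 0 1) ∧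
    mulC (pairC 0 1) (eightC (1, 1, 0)) = mulC (eightC (0, 0, 1)) (pairC 0 1) ∧
    mulC (pairC 0 1) (eightC (0, 0, 1)) = mulC (eightC (1, 0, 1)) (pairC 0 1) := by
  decide +kernel

theorem eight_basis : ∀ p : ZMod 2 × ZMod 2 × ZMod 2, p =
    (p.1 + p.2.1).val • ((1, 0, 0) : ZMod 2 × ZMod 2 × ZMod 2) + p.2.1.val • (1, 1, 0) +
      p.2.2.val • (0, 0, 1) := by decide

/-- the stem extensions of `J₁` are trivial -/
theorem j1_stem_ker {Γ : Type*} [Group Γ] [Finite Γ] {τ : Γ →* ↥Cfsg.Spor.J1}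
    (hτ : Cfsg.IsStemExtension τ) : τ.ker = ⊥ := by
  haveI : Finite ↥Cfsg.Spor.J1 := Nat.finite_of_card_ne_zero (by rw [card_eq]; norm_num)
  refine ker_eq_bot_of_forall fun ℓ hℓ => ?_
  haveI := Fact.mk hℓ
  by_cases hd : ℓ ∣ 175560
  swap
  · exact not_dvd_ker_of_cyclic hτ (⊥ : Subgroup ↥Cfsg.Spor.J1) (by rwa [Subgroup.index_bot, card_eq])
  by_cases h2 : ℓ = 2
  · subst h2
    obtain ⟨x, hx⟩ := exists_code_eq_pairC (a := 0) (j := 135) (by norm_num) (by norm_num)
    obtain ⟨y, hy⟩ := exists_code_eq_pairC (a := 0) (j := 227) (by norm_num) (by norm_num)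
    obtain ⟨z, hz⟩ := exists_code_eq_pairC (a := 320) (j := 42) (by norm_num) (by norm_num)
    obtain ⟨g, hg⟩ := exists_code_eq_pairC (a := 0) (j := 1) (by norm_num) (by norm_num)
    have hf : ∀ p : ZMod 2 × ZMod 2 × ZMod 2,
        code (x ^ p.1.val * y ^ p.2.1.val * z ^ p.2.2.val) = eightC p :=
      fun p => by rw [code_mul, code_mul, code_pow, code_pow, code_pow, hx, hy, hz]; rfl
    let φ : Multiplicative (ZMod 2 × ZMod 2 × ZMod 2) →* ↥Cfsg.Spor.J1 :=
      MonoidHom.mk' (fun p => x ^ p.toAdd.1.val * y ^ p.toAdd.2.1.val * z ^ p.toAdd.2.2.val)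
        (fun p q => code_injective (by
          refine (hf _).trans ?_
          rw [code_mul, hf, hf, eightC_mul]; rfl))
    have hφ : Function.Injective φ := by
      intro p q h
      have := congrArg code h
      simp only [φ, MonoidHom.mk'_apply, hf] at this
      exact Multiplicative.toAdd.injective (eightC_injective _ _ this)
    let e : ZMod 2 × ZMod 2 × ZMod 2 → ↥Cfsg.Spor.J1 := fun p => φ (Multiplicative.ofAdd p)
    have he : ∀ p, code (e p) = eightC p := fun p => hf p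
    have ecomm : ∀ p q, Commute (e p) (e q) := fun p q => by
      show e p * e q = e q * e p
      simp only [e, ← map_mul, mul_comm]
    have cj : ∀ p q, mulC (pairC 0 1) (eightC p) = mulC (eightC q) (pairC 0 1) →
        g * e p * g⁻¹ = e q := fun p q h =>
      mul_inv_eq_iff_eq_mul.2 (code_injective (by rw [code_mul, code_mul, hg, he, he, h]))
    obtain ⟨t1, t2, t3⟩ := check_seven
    have h2' : g * e (0, 0, 1) * g⁻¹ = e (1, 0, 0) * e (0, 0, 1) := by
      rw [cj _ _ t3]
      simp only [e, ← map_mul]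
      rfl
    have hidx : ¬ 2 ∣ φ.range.index := by
      have h := Subgroup.card_mul_index φ.range
      rw [← Nat.card_congr (MonoidHom.ofInjective hφ).toEquiv, card_eq,
        show Nat.card (Multiplicative (ZMod 2 × ZMod 2 × ZMod 2)) = 8 by simp] at h
      omega
    refine not_dvd_ker_of_preimage hτ φ.range hidx fun w _ hw _ => ?_
    obtain ⟨A, hA⟩ := hτ.1 (e (1, 0, 0))
    obtain ⟨B, hB⟩ := hτ.1 (e (1, 1, 0))
    obtain ⟨C, hC⟩ := hτ.1 (e (0, 0, 1))
    obtain ⟨hAB, hAC, hBC⟩ := commute_lifts_three hτ.1 hτ.2.1 (ecomm _ _) (ecomm _ _) (ecomm _ _)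
      (cj _ _ t1) (cj _ _ t2) h2' hA hB hC
    have hlift : ∀ u ∈ φ.range.comap τ, ∃ i j k : ℕ, τ u = τ (A ^ i * B ^ j * C ^ k) := by
      rintro u ⟨p, hp⟩
      refine ⟨(p.toAdd.1 + p.toAdd.2.1).val, p.toAdd.2.1.val, p.toAdd.2.2.val, ?_⟩
      rw [map_mul, map_mul, map_pow, map_pow, map_pow, hA, hB, hC, ← hp]
      simp only [e, ← map_pow, ← map_mul, ← ofAdd_nsmul, ← ofAdd_add, ← eight_basis, ofAdd_toAdd]
    have hab : ⁅φ.range.comap τ, φ.range.comap τ⁆ = ⊥ := by
      rw [eq_bot_iff, Subgroup.commutator_le]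
      intro u hu v hv
      obtain ⟨i, j, k, hu'⟩ := hlift u hu
      obtain ⟨i', j', k', hv'⟩ := hlift v hv
      rw [Subgroup.mem_bot, SLUniv.comm_congr hτ.2.1 hu' hv', commutatorElement_eq_one_iff_commute]
      refine Commute.mul_left (Commute.mul_left ?_ ?_) ?_ <;>
        refine Commute.mul_right (Commute.mul_right ?_ ?_) ?_ <;>
        first
        | exact Commute.pow_pow (Commute.refl _) _ _
        | exact hAB.pow_pow _ _
        | exact hAB.symm.pow_pow _ _
        | exact hAC.pow_pow _ _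
        | exact hAC.symm.pow_pow _ _
        | exact hBC.pow_pow _ _
        | exact hBC.symm.pow_pow _ _
    rw [hab, Subgroup.mem_bot] at hw
    exact hw
  · obtain ⟨S⟩ : Nonempty (Sylow ℓ ↥Cfsg.Spor.J1) := inferInstance
    have hcard : Nat.card (S : Subgroup ↥Cfsg.Spor.J1) = ℓ := by
      rw [Sylow.card_eq_multiplicity, card_eq]
      have h175560 : (175560 : ℕ).factorization ℓ = 1 := by
        refine le_antisymm ?_ (hℓ.factorization_pos_of_dvd (by norm_num) hd)
        by_contra hgt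
        have hsq : ℓ ^ 2 ∣ 175560 := (hℓ.pow_dvd_iff_le_factorization (by norm_num)).2 (by omega)
        have hle : ℓ ≤ 419 := by
          by_contra h'
          have h420 : 420 ^ 2 ≤ ℓ ^ 2 := Nat.pow_le_pow_left (by omega) 2
          have := Nat.le_of_dvd (by norm_num) hsq
          omega
        have hall : ∀ n : ℕ, n ≤ 419 → n ^ 2 ∣ 175560 → n ≤ 2 := by decide +kernel
        have := hall ℓ hle hsq
        have := hℓ.two_le
        omega
      rw [h175560, pow_one]
    haveI : IsCyclic (S : Subgroup ↥Cfsg.Spor.J1) := isCyclic_of_prime_card hcard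
    exact not_dvd_ker_of_cyclic hτ (S : Subgroup ↥Cfsg.Spor.J1) S.not_dvd_index

end CfsgLib.Lie.Mult
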