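import Cfsg.Agent.Lib.Lie.Mult.EngineTorus
import Cfsg.Agent.Lib.Lie.Chev.Tw.BNPair

/-!
# Split `(B, N)` data of a twisted group
-/

set_option autoImplicit false
set_option maxHeartbeats 400000
set_option linter.unusedSectionVars false

namespace CfsgLib.Lie.Mult.TwEngine

open Cfsg.Lie CfsgLib.Lie.Chev
open scoped MatrixGroups

variable {D : ChevalleyDatum} {K : Type*} [Field K] {C : Full D} {T : Twist C.G K} {ι : Type}
  {O : Orbits C.G T.p ι} {Γ : Subgroup (GL D.Idx K)} (P : TwGp O Γ)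

/-- the unipotent radical -/
noncomputable def Ug (T : Twist C.G K) (Γ : Subgroup (GL D.Idx K)) : Subgroup ↥Γ :=
  (T.Fix ⊓ D.posUnipotent K).subgroupOf Γ

/-- the torus -/
noncomputable def Hg (T : Twist C.G K) (Γ : Subgroup (GL D.Idx K)) : Subgroup ↥Γ :=
  (T.Fix ⊓ D.diagonalSubgroup K).subgroupOf Γ

/-- a fundamental root subgroup -/
noncomputable def Xg (O : Orbits C.G T.p ι) (Γ : Subgroup (GL D.Idx K)) (k : ι) : Subgroup ↥Γ :=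
  (T.Fix ⊓ Uinv C.G (O.wO k)).subgroupOf Γ

/-- its complement -/
noncomputable def Vg (O : Orbits C.G T.p ι) (Γ : Subgroup (GL D.Idx K)) (k : ι) : Subgroup ↥Γ :=
  (T.Fix ⊓ Ukeep C.G (O.wO k)).subgroupOf Γ

include P

/-- the chosen representative in the group -/
noncomputable def nkG (k : ι) : ↥Γ := ⟨P.toPre.nk k, P.toPre.nk_mem k⟩

/-- the opposite root subgroup -/
noncomputable def Xng (k : ι) : Subgroup ↥Γ := (Xg O Γ k).map (MulAut.conj (nkG P k)).toMonoidHom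

theorem LJ_conj {k : ι} {n d : GL D.Idx K} (hn : C.G.NPerm n (O.wO k))
    (hd : d ∈ (LJ C.G (O.J k) : Subgroup (GL D.Idx K))) :
    n * d * n⁻¹ ∈ (LJ C.G (O.J k) : Subgroup (GL D.Idx K)) := by
  induction hd using Subgroup.closure_induction with
  | one => simp
  | mul a b _ _ ha hb =>
    rw [show n * (a * b) * n⁻¹ = (n * a * n⁻¹) * (n * b * n⁻¹) by group]; exact mul_mem ha hb
  | inv a _ ha => rw [show n * a⁻¹ * n⁻¹ = (n * a * n⁻¹)⁻¹ by group]; exact inv_mem ha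
  | mem y hy =>
    obtain ⟨r, t, hr, rfl⟩ := hy
    obtain ⟨a, ha⟩ := hn r
    rw [ha]
    exact Subgroup.subset_closure ⟨_, _, (C.G.inJ_pw (O.wl_mem k)).2 hr, rfl⟩

theorem X_le_LJ (k : ι) {g : ↥Γ} (hg : g ∈ Xg O Γ k) :
    (g : GL D.Idx K) ∈ (LJ C.G (O.J k) : Subgroup (GL D.Idx K)) :=
  O.Uinv_le_LJ k (Subgroup.mem_inf.1 (Subgroup.mem_subgroupOf.1 hg)).2

theorem L_le_LJ (k : ι) {g : ↥Γ} (hg : g ∈ Xg O Γ k ⊔ Xng P k) :
    (g : GL D.Idx K) ∈ (LJ C.G (O.J k) : Subgroup (GL D.Idx K)) := by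
  have hle : Xg O Γ k ⊔ Xng P k ≤ (LJ C.G (O.J k) : Subgroup (GL D.Idx K)).subgroupOf Γ := by
    refine sup_le (fun x hx => Subgroup.mem_subgroupOf.2 (X_le_LJ P k hx)) ?_
    rintro _ ⟨x, hx, rfl⟩
    exact Subgroup.mem_subgroupOf.2 (LJ_conj P (P.toPre.nk_perm k) (X_le_LJ P k hx))
  exact Subgroup.mem_subgroupOf.1 (hle hg)

theorem exists_n (k : ι) : ∃ n : ↥Γ, (n : GL D.Idx K) ∈ T.Fix ⊓ D.monomialSubgroup K ∧
    C.G.NPerm (n : GL D.Idx K) (O.wO k) ∧ n ∈ Xg O Γ k ⊔ Xng P k := by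
  obtain ⟨x, hx, hx1⟩ := P.X_ne k
  obtain ⟨hxF, hxU⟩ := Subgroup.mem_inf.1 hx
  set n := P.toPre.nk k
  have hnF := P.le (P.toPre.nk_mem k)
  have hw := P.toPre.nk_perm k
  obtain ⟨b, hb, m, hm, hmπ, u, hu, e⟩ := O.rank_one (mul_mem (mul_mem hnF hxF) (inv_mem hnF))
    (LJ_conj P hw (O.Uinv_le_LJ k hxU)) (C.G.conj_Uinv hw x hxU) (fun e => hx1 (conj_eq_one_iff.1 e))
  refine ⟨⟨m, P.N_le hm⟩, hm, hmπ, ?_⟩
  have key : (⟨m, P.N_le hm⟩ : ↥Γ) =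
      (⟨b, P.toPre.X_le k hb⟩ : ↥Γ)⁻¹ * (nkG P k * ⟨x, P.toPre.X_le k hx⟩ * (nkG P k)⁻¹) *
        (⟨u, P.toPre.X_le k hu⟩ : ↥Γ)⁻¹ := Subtype.ext (by
    show m = b⁻¹ * (n * x * n⁻¹) * u⁻¹
    rw [e]; group)
  rw [key]
  refine mul_mem (mul_mem (inv_mem (Subgroup.mem_sup_left (Subgroup.mem_subgroupOf.2 hb)))
    (Subgroup.mem_sup_right ⟨⟨x, P.toPre.X_le k hx⟩, Subgroup.mem_subgroupOf.2 hx, rfl⟩))
    (inv_mem (Subgroup.mem_sup_left (Subgroup.mem_subgroupOf.2 hu)))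

/-- a representative of a fundamental reflection inside the rank-one group -/
noncomputable def nE (k : ι) : ↥Γ := (exists_n P k).choose

theorem nE_mon (k : ι) : (nE P k : GL D.Idx K) ∈ T.Fix ⊓ D.monomialSubgroup K := (exists_n P k).choose_spec.1

theorem nE_perm (k : ι) : C.G.NPerm (nE P k : GL D.Idx K) (O.wO k) := (exists_n P k).choose_spec.2.1

theorem nE_mem (k : ι) : nE P k ∈ Xg O Γ k ⊔ Xng P k := (exists_n P k).choose_spec.2.2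

theorem sq_H (k : ι) : nE P k * nE P k ∈ Hg T Γ := by
  refine Subgroup.mem_subgroupOf.2 (Subgroup.mem_inf.2 ⟨mul_mem (nE_mon P k).1 (nE_mon P k).1, ?_⟩)
  refine C.G.mem_H_of_nPerm_one (mul_mem (nE_mon P k).2 (nE_mon P k).2) ?_
  have := Good.NPerm.mul C.G (nE_perm P k) (nE_perm P k)
  rwa [O.wO_mul_self] at this

theorem nk_ratio (k : ι) : nkG P k * (nE P k)⁻¹ ∈ Hg T Γ := by
  refine Subgroup.mem_subgroupOf.2 (Subgroup.mem_inf.2
    ⟨mul_mem (P.le (P.toPre.nk_mem k)) (inv_mem (nE_mon P k).1), ?_⟩)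
  refine C.G.mem_H_of_nPerm_one (mul_mem (P.toPre.nk_monomial k) (inv_mem (nE_mon P k).2)) ?_
  have := Good.NPerm.mul C.G (P.toPre.nk_perm k) (Good.NPerm.inv C.G (nE_perm P k))
  rwa [mul_inv_cancel] at this

theorem H_conj_N {a : ↥Γ} (ha : (a : GL D.Idx K) ∈ D.monomialSubgroup K) {h : ↥Γ} (hh : h ∈ Hg T Γ) :
    a * h * a⁻¹ ∈ Hg T Γ :=
  Subgroup.mem_subgroupOf.2 (P.conj_H (Subgroup.mem_inf.2 ⟨ha, a.2⟩) (Subgroup.mem_subgroupOf.1 hh))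

theorem H_conj_U {h : ↥Γ} (hh : h ∈ Hg T Γ) {u : ↥Γ} (hu : u ∈ Ug T Γ) : h * u * h⁻¹ ∈ Ug T Γ := by
  obtain ⟨hhF, hhD⟩ := Subgroup.mem_inf.1 (Subgroup.mem_subgroupOf.1 hh)
  obtain ⟨huF, huU⟩ := Subgroup.mem_inf.1 (Subgroup.mem_subgroupOf.1 hu)
  exact Subgroup.mem_subgroupOf.2 (Subgroup.mem_inf.2 ⟨mul_mem (mul_mem hhF huF) (inv_mem hhF),
    (Subgroup.mem_normalizer_iff.1 (C.G.H_normalizes_U (K := K) hhD) _).1 huU⟩)

theorem H_conj_X {h : ↥Γ} (hh : h ∈ Hg T Γ) {k : ι} {u : ↥Γ} (hu : u ∈ Xg O Γ k) : h * u * h⁻¹ ∈ Xg O Γ k := by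
  obtain ⟨hhF, hhD⟩ := Subgroup.mem_inf.1 (Subgroup.mem_subgroupOf.1 hh)
  obtain ⟨huF, huU⟩ := Subgroup.mem_inf.1 (Subgroup.mem_subgroupOf.1 hu)
  exact Subgroup.mem_subgroupOf.2 (Subgroup.mem_inf.2 ⟨mul_mem (mul_mem hhF huF) (inv_mem hhF),
    C.G.Uinv_congr_H hhD _ huU⟩)

theorem H_conj_Xn {h : ↥Γ} (hh : h ∈ Hg T Γ) {k : ι} {u : ↥Γ} (hu : u ∈ Xng P k) : h * u * h⁻¹ ∈ Xng P k := by
  obtain ⟨x, hx, rfl⟩ := hu
  refine ⟨((nkG P k)⁻¹ * h * nkG P k) * x * ((nkG P k)⁻¹ * h * nkG P k)⁻¹, H_conj_X P ?_ hx, ?_⟩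
  · have := H_conj_N P (a := (nkG P k)⁻¹) (inv_mem (P.toPre.nk_monomial k)) hh
    rwa [inv_inv] at this
  · show nkG P k * _ * (nkG P k)⁻¹ = h * (nkG P k * x * (nkG P k)⁻¹) * h⁻¹
    group

theorem H_conj_L {h : ↥Γ} (hh : h ∈ Hg T Γ) {k : ι} {u : ↥Γ} (hu : u ∈ Xg O Γ k ⊔ Xng P k) :
    h * u * h⁻¹ ∈ Xg O Γ k ⊔ Xng P k := by
  have hle : Xg O Γ k ⊔ Xng P k ≤ (Xg O Γ k ⊔ Xng P k).comap (MulAut.conj h).toMonoidHom :=
    sup_le (fun x hx => Subgroup.mem_sup_left (H_conj_X P hh hx))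
      fun x hx => Subgroup.mem_sup_right (H_conj_Xn P hh hx)
  exact hle hu

theorem X_le_U (k : ι) : Xg O Γ k ≤ Ug T Γ := fun x hx => by
  obtain ⟨h1, h2⟩ := Subgroup.mem_inf.1 (Subgroup.mem_subgroupOf.1 hx)
  exact Subgroup.mem_subgroupOf.2 (Subgroup.mem_inf.2 ⟨h1, C.G.Uinv_le _ h2⟩)

theorem V_le_U (k : ι) : Vg O Γ k ≤ Ug T Γ := fun x hx => by
  obtain ⟨h1, h2⟩ := Subgroup.mem_inf.1 (Subgroup.mem_subgroupOf.1 hx)
  exact Subgroup.mem_subgroupOf.2 (Subgroup.mem_inf.2 ⟨h1, C.G.Ukeep_le _ h2⟩)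

theorem U_split (k : ι) (u : ↥Γ) (hu : u ∈ Ug T Γ) :
    ∃ x ∈ Xg O Γ k, ∃ v ∈ Vg O Γ k, u = x * v := by
  obtain ⟨huF, huU⟩ := Subgroup.mem_inf.1 (Subgroup.mem_subgroupOf.1 hu)
  obtain ⟨a, ha, b, hb, e⟩ := C.exists_keep_mul_inv (O.wO k) (inv_mem huU)
  obtain ⟨haF, hbF⟩ := T.fix_split (O.wO_mem k) ha hb (e ▸ inv_mem huF)
  refine ⟨⟨b⁻¹, P.toPre.X_le k (Subgroup.mem_inf.2 ⟨inv_mem hbF, inv_mem hb⟩)⟩,
    Subgroup.mem_subgroupOf.2 (Subgroup.mem_inf.2 ⟨inv_mem hbF, inv_mem hb⟩),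
    ⟨a⁻¹, P.toPre.U_le (Subgroup.mem_inf.2 ⟨inv_mem haF, inv_mem (C.G.Ukeep_le _ ha)⟩)⟩,
    Subgroup.mem_subgroupOf.2 (Subgroup.mem_inf.2 ⟨inv_mem haF, inv_mem ha⟩), Subtype.ext ?_⟩
  show (u : GL D.Idx K) = b⁻¹ * a⁻¹
  rw [← mul_inv_rev, ← e, inv_inv]

theorem V_norm (k : ι) (v : ↥Γ) (hv : v ∈ Vg O Γ k) : nE P k * v * (nE P k)⁻¹ ∈ Vg O Γ k := by
  obtain ⟨hvF, hvU⟩ := Subgroup.mem_inf.1 (Subgroup.mem_subgroupOf.1 hv)
  have hnF := (nE_mon P k).1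
  refine Subgroup.mem_subgroupOf.2 (Subgroup.mem_inf.2 ⟨mul_mem (mul_mem hnF hvF) (inv_mem hnF), ?_⟩)
  refine C.mem_Ukeep_of_conj (nE_perm P k) (C.G.conj_Ukeep (nE_perm P k) _ hvU) ?_
  have hH := Subgroup.mem_inf.1 (Subgroup.mem_subgroupOf.1 (sq_H P k))
  have := (Subgroup.mem_normalizer_iff.1 (C.G.H_normalizes_U (K := K) hH.2) _).1 (C.G.Ukeep_le _ hvU)
  simpa [mul_assoc] using this

theorem L_decomp (k : ι) (g : ↥Γ) (hg : g ∈ Xg O Γ k ⊔ Xng P k) :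
    (∃ x ∈ Xg O Γ k, ∃ h ∈ Hg T Γ ⊓ (Xg O Γ k ⊔ Xng P k), g = x * h) ∨
      ∃ x ∈ Xg O Γ k, ∃ h ∈ Hg T Γ ⊓ (Xg O Γ k ⊔ Xng P k), ∃ x' ∈ Xg O Γ k, g = x * h * nE P k * x' := by
  have hL := L_le_LJ P k hg
  have hgF := P.le g.2
  obtain ⟨v, m, u, π, ⟨hvF, hv⟩, ⟨hmF, hm⟩, hπ, hmπ, ⟨huF, hu⟩, e⟩ := T.fix_bruhat hgF
  have hJ : π ∈ WJ C.G (O.J k) := C.mem_WJ_of_parabolic (T.Fix_le hgF)
    (O.LJ_le_parabolic C rfl k hL _) (Subgroup.mem_sup_left hv) hm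
    (Subgroup.mem_sup_left (C.G.Uinv_le π hu)) hmπ e
  obtain ⟨a, ha, b, hb, rfl⟩ := C.exists_keep_mul_inv (O.wO k) hv
  obtain ⟨haF, hbF⟩ := T.fix_split (O.wO_mem k) ha hb hvF
  have hbX : (⟨b, P.toPre.X_le k (Subgroup.mem_inf.2 ⟨hbF, hb⟩)⟩ : ↥Γ) ∈ Xg O Γ k :=
    Subgroup.mem_subgroupOf.2 (Subgroup.mem_inf.2 ⟨hbF, hb⟩)
  have hwk : C.G.NPerm (C.G.nw (K := K) (O.wl k)) (O.wO k) := C.G.nPerm_nw _
  have hkill : GradedJ C.G (O.J k) (a : Matrix D.Idx D.Idx K) → a = 1 :=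
    C.eq_one_of_graded_keep hwk (fun r hr hin h => (O.wO_pos_iff hr).1 h hin) ha
  rcases O.eq_one_or_wO hπ hJ with h1 | h1
  · subst h1
    have hu1 : u = 1 := by
      have h := C.G.conj_Uinv (Good.NPerm.one C.G) u hu
      simp only [one_mul, inv_one, mul_one] at h
      exact Subgroup.mem_bot.1 (C.G.U_inf_V_eq (K := K) ▸
        Subgroup.mem_inf.2 ⟨C.G.Uinv_le _ hu, h⟩)
    subst hu1
    have hH := C.G.mem_H_of_nPerm_one hm hmπ
    have ha1 : a = 1 := by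
      refine hkill ?_
      rw [show a = (g : GL D.Idx K) * m⁻¹ * b⁻¹ by rw [e]; group]
      simp only [Units.val_mul]
      exact C.G.gradedJ_mul (C.G.gradedJ_mul (C.G.gradedJ_LJ hL) (C.G.gradedJ_H (inv_mem hH)))
        (C.G.gradedJ_LJ (inv_mem (O.Uinv_le_LJ k hb)))
    subst ha1
    have hmΓ : m ∈ Γ := P.H_le (Subgroup.mem_inf.2 ⟨hmF, hH⟩)
    have heq : g = ⟨b, P.toPre.X_le k (Subgroup.mem_inf.2 ⟨hbF, hb⟩)⟩ * ⟨m, hmΓ⟩ := Subtype.ext (by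
      show (g : GL D.Idx K) = b * m
      rw [e, one_mul, mul_one])
    refine Or.inl ⟨_, hbX, _, Subgroup.mem_inf.2
      ⟨Subgroup.mem_subgroupOf.2 (Subgroup.mem_inf.2 ⟨hmF, hH⟩), ?_⟩, heq⟩
    have := mul_mem (inv_mem (Subgroup.mem_sup_left (T := Xng P k) hbX)) hg
    rwa [heq, inv_mul_cancel_left] at this
  · subst h1
    have hh : m * (C.G.nw (K := K) (O.wl k))⁻¹ ∈ D.diagonalSubgroup K := by
      refine C.G.mem_H_of_nPerm_one (mul_mem hm (inv_mem (C.G.nw_mem_monomial _))) ?_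
      have := Good.NPerm.mul C.G hmπ (Good.NPerm.inv C.G hwk)
      rwa [mul_inv_cancel] at this
    have ha1 : a = 1 := by
      refine hkill ?_
      rw [show a = (g : GL D.Idx K) * u⁻¹ * (C.G.nw (O.wl k))⁻¹ * (m * (C.G.nw (O.wl k))⁻¹)⁻¹ * b⁻¹ by
        rw [e]; group]
      simp only [Units.val_mul]
      refine C.G.gradedJ_mul (C.G.gradedJ_mul (C.G.gradedJ_mul (C.G.gradedJ_mul
        (C.G.gradedJ_LJ hL) (C.G.gradedJ_LJ (inv_mem (O.Uinv_le_LJ k hu)))) ?_) ?_) ?_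
      · exact C.G.gradedJ_LJ (inv_mem (C.G.nw_mem_LJ (O.wl_mem k)))
      · exact C.G.gradedJ_H (inv_mem hh)
      · exact C.G.gradedJ_LJ (inv_mem (O.Uinv_le_LJ k hb))
    subst ha1
    have huX : (⟨u, P.toPre.X_le k (Subgroup.mem_inf.2 ⟨huF, hu⟩)⟩ : ↥Γ) ∈ Xg O Γ k :=
      Subgroup.mem_subgroupOf.2 (Subgroup.mem_inf.2 ⟨huF, hu⟩)
    set mG : ↥Γ := ⟨m, P.N_le (Subgroup.mem_inf.2 ⟨hmF, hm⟩)⟩
    have heq : g = ⟨b, P.toPre.X_le k (Subgroup.mem_inf.2 ⟨hbF, hb⟩)⟩ * mG *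
        ⟨u, P.toPre.X_le k (Subgroup.mem_inf.2 ⟨huF, hu⟩)⟩ := Subtype.ext (by
      show (g : GL D.Idx K) = b * m * u
      rw [e, one_mul])
    have hmL : mG ∈ Xg O Γ k ⊔ Xng P k := by
      have := mul_mem (mul_mem (inv_mem (Subgroup.mem_sup_left (T := Xng P k) hbX)) hg)
        (inv_mem (Subgroup.mem_sup_left (T := Xng P k) huX))
      convert this using 1
      rw [heq]; group
    refine Or.inr ⟨_, hbX, mG * (nE P k)⁻¹, Subgroup.mem_inf.2 ⟨Subgroup.mem_subgroupOf.2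
      (Subgroup.mem_inf.2 ⟨mul_mem hmF (inv_mem (nE_mon P k).1), ?_⟩), mul_mem hmL (inv_mem (nE_mem P k))⟩,
      _, huX, ?_⟩
    · refine C.G.mem_H_of_nPerm_one (mul_mem hm (inv_mem (nE_mon P k).2)) ?_
      have := Good.NPerm.mul C.G hmπ (Good.NPerm.inv C.G (nE_perm P k))
      rwa [mul_inv_cancel] at this
    · rw [heq]; group

theorem closure_mon {w : ↥Γ} (hw : w ∈ Subgroup.closure (Set.range (nE P)) ⊔ Hg T Γ) :
    (w : GL D.Idx K) ∈ T.Fix ⊓ D.monomialSubgroup K := by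
  have hle : Subgroup.closure (Set.range (nE P)) ⊔ Hg T Γ ≤
      (T.Fix ⊓ D.monomialSubgroup K).subgroupOf Γ := by
    refine sup_le ((Subgroup.closure_le _).2 ?_) fun x hx => ?_
    · rintro _ ⟨k, rfl⟩
      exact Subgroup.mem_subgroupOf.2 (nE_mon P k)
    · obtain ⟨h1, h2⟩ := Subgroup.mem_inf.1 (Subgroup.mem_subgroupOf.1 hx)
      exact Subgroup.mem_subgroupOf.2 (Subgroup.mem_inf.2 ⟨h1, C.G.H_le_monomial h2⟩)
  exact Subgroup.mem_subgroupOf.1 (hle hw)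

theorem conj_pos {w : ↥Γ} (hw : (w : GL D.Idx K) ∈ T.Fix) {π : Equiv.Perm (Fin D.nroots)}
    (hπ : π ∈ Wp C.G T.p) (hwπ : C.G.NPerm (w : GL D.Idx K) π) {k : ι}
    (hk : ∀ j ∈ O.J k, D.IsPosRoot (π⁻¹ (C.G.simp' j)).val) {x : ↥Γ} (hx : x ∈ Xg O Γ k) :
    w⁻¹ * x * w ∈ Ug T Γ := by
  obtain ⟨hxF, hxU⟩ := Subgroup.mem_inf.1 (Subgroup.mem_subgroupOf.1 hx)
  refine Subgroup.mem_subgroupOf.2 (Subgroup.mem_inf.2 ⟨mul_mem (mul_mem (inv_mem hw) hxF) hw, ?_⟩)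
  have := C.G.conj_Ukeep (Good.NPerm.inv C.G hwπ) _ (P.keep_of_pos (inv_mem hπ) hk hxU)
  simpa [mul_assoc] using this

theorem dich (k : ι) (w : ↥Γ) (hw : w ∈ Subgroup.closure (Set.range (nE P)) ⊔ Hg T Γ) :
    (∀ x ∈ Xg O Γ k, w⁻¹ * x * w ∈ Ug T Γ) ∨
      ∀ x ∈ Xg O Γ k, (nE P k * w)⁻¹ * x * (nE P k * w) ∈ Ug T Γ := by
  obtain ⟨hwF, hwN⟩ := Subgroup.mem_inf.1 (closure_mon P hw)
  obtain ⟨l, hl⟩ := C.G.exists_nPerm hwN
  have hπ := T.mem_Wp_of_fix hwF hwN hl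
  set π := C.G.pw l
  by_cases hpos : ∀ j ∈ O.J k, D.IsPosRoot (π⁻¹ (C.G.simp' j)).val
  · exact Or.inl fun x hx => conj_pos P hwF hπ hl hpos hx
  · right
    obtain ⟨j0, hj0, hneg⟩ : ∃ j ∈ O.J k, ¬ D.IsPosRoot (π⁻¹ (C.G.simp' j)).val := by
      by_contra h
      simp only [not_exists, not_and, not_not] at h
      exact hpos h
    have h1 : ((nE P k * w : ↥Γ) : GL D.Idx K) ∈ T.Fix := by
      rw [Subgroup.coe_mul]; exact mul_mem (nE_mon P k).1 hwF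
    have h2 : C.G.NPerm ((nE P k * w : ↥Γ) : GL D.Idx K) (O.wO k * π) := by
      rw [Subgroup.coe_mul]; exact Good.NPerm.mul C.G (nE_perm P k) hl
    refine fun x hx => conj_pos P h1 (mul_mem (O.wO_mem k) hπ) h2 (fun j hj => ?_) hx
    rw [mul_inv_rev, O.wO_inv, O.neg_iff (inv_mem hπ) hj]
    exact fun h => hneg ((O.sign_orbit (inv_mem hπ) hj hj0).1 h)

theorem map_X {a : ↥Γ} (ha : (a : GL D.Idx K) ∈ T.Fix) {π : Equiv.Perm (Fin D.nroots)}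
    (haπ : C.G.NPerm (a : GL D.Idx K) π) {i x : ι}
    (hcond : ∀ r : Fin D.nroots, D.IsPosRoot r.val → ¬ D.IsPosRoot (O.wO x r).val →
      D.IsPosRoot (π r).val ∧ ¬ D.IsPosRoot (O.wO i (π r)).val) {g : ↥Γ} (hg : g ∈ Xg O Γ x) :
    a * g * a⁻¹ ∈ Xg O Γ i := by
  obtain ⟨hgF, hgU⟩ := Subgroup.mem_inf.1 (Subgroup.mem_subgroupOf.1 hg)
  refine Subgroup.mem_subgroupOf.2 (Subgroup.mem_inf.2 ⟨mul_mem (mul_mem ha hgF) (inv_mem ha), ?_⟩)
  have hle : (Uinv C.G (O.wO x) : Subgroup (GL D.Idx K)) ≤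
      (Uinv C.G (O.wO i) : Subgroup (GL D.Idx K)).comap (MulAut.conj (a : GL D.Idx K)).toMonoidHom := by
    conv_lhs => rw [Uinv]
    rw [Subgroup.closure_le]
    rintro _ ⟨r, t, ⟨hr, hn⟩, rfl⟩
    obtain ⟨c, hc⟩ := haπ r
    show (a : GL D.Idx K) * C.G.xu r t * (a : GL D.Idx K)⁻¹ ∈ (Uinv C.G (O.wO i) : Subgroup (GL D.Idx K))
    rw [hc]
    exact Subgroup.subset_closure ⟨_, _, hcond r hr hn, rfl⟩
  exact hle hgU

theorem list_nperm (l : List ι) :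
    C.G.NPerm (((l.map (nE P)).prod : ↥Γ) : GL D.Idx K) (l.map O.wO).prod ∧
      (((l.map (nE P)).prod : ↥Γ) : GL D.Idx K) ∈ T.Fix ⊓ D.monomialSubgroup K := by
  induction l with
  | nil =>
    simp only [List.map_nil, List.prod_nil, Subgroup.coe_one]
    exact ⟨Good.NPerm.one C.G, one_mem _⟩
  | cons i l ih =>
    simp only [List.map_cons, List.prod_cons, Subgroup.coe_mul]
    exact ⟨Good.NPerm.mul C.G (nE_perm P i) ih.1, mul_mem (nE_mon P i) ih.2⟩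

/-- the condition on the Weyl group behind the braid relations -/
def BraidOK (O : Orbits C.G T.p ι) (M : CoxeterMatrix ι) : Prop :=
  ∀ i j, i ≠ j → M i j ≠ 0 →
    ((altL j i (M i j - 1)).map O.wO).prod * O.wO (if Even (M i j) then i else j) =
      O.wO i * ((altL j i (M i j - 1)).map O.wO).prod ∧
    ∀ r : Fin D.nroots, D.IsPosRoot r.val → ¬ D.IsPosRoot (O.wO (if Even (M i j) then i else j) r).val →
      D.IsPosRoot (((altL j i (M i j - 1)).map O.wO).prod r).val ∧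
        ¬ D.IsPosRoot (O.wO i (((altL j i (M i j - 1)).map O.wO).prod r)).val

theorem braid {M : CoxeterMatrix ι} (hM : BraidOK O M) (i j : ι) (hij : i ≠ j) (hm : M i j ≠ 0) :
    (∀ x ∈ Xg O Γ (if Even (M i j) then i else j) ⊔ Xng P (if Even (M i j) then i else j),
        ((altL j i (M i j - 1)).map (nE P)).prod * x * ((altL j i (M i j - 1)).map (nE P)).prod⁻¹ ∈
          Xg O Γ i ⊔ Xng P i) ∧
      (nE P i)⁻¹ * (((altL j i (M i j - 1)).map (nE P)).prod * nE P (if Even (M i j) then i else j) *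
        ((altL j i (M i j - 1)).map (nE P)).prod⁻¹) ∈ Hg T Γ := by
  obtain ⟨heq, hpos⟩ := hM i j hij hm
  set x0 := if Even (M i j) then i else j
  set l := altL j i (M i j - 1)
  set a := (l.map (nE P)).prod
  set π := (l.map O.wO).prod
  obtain ⟨haπ, haN⟩ := list_nperm P l
  obtain ⟨haF, haM⟩ := Subgroup.mem_inf.1 haN
  refine ⟨?_, ?_⟩
  · have hle : Xg O Γ x0 ⊔ Xng P x0 ≤ (Xg O Γ i ⊔ Xng P i).comap (MulAut.conj a).toMonoidHom := by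
      refine sup_le (fun g hg => Subgroup.mem_sup_left (map_X P haF haπ hpos hg)) ?_
      rintro _ ⟨g, hg, rfl⟩
      refine Subgroup.mem_sup_right ⟨((nkG P i)⁻¹ * a * nkG P x0) * g * ((nkG P i)⁻¹ * a * nkG P x0)⁻¹,
        map_X P (mul_mem (mul_mem (inv_mem (P.le (P.toPre.nk_mem i))) haF) (P.le (P.toPre.nk_mem x0))) ?_ hpos hg,
        ?_⟩
      · have := Good.NPerm.mul C.G (Good.NPerm.mul C.G (Good.NPerm.inv C.G (P.toPre.nk_perm i)) haπ)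
          (P.toPre.nk_perm x0)
        rw [show (O.wO i)⁻¹ * π * O.wO x0 = π by rw [mul_assoc, heq, inv_mul_cancel_left]] at this
        exact this
      · show nkG P i * _ * (nkG P i)⁻¹ = a * (nkG P x0 * g * (nkG P x0)⁻¹) * a⁻¹
        group
    exact fun g hg => hle hg
  · refine Subgroup.mem_subgroupOf.2 (Subgroup.mem_inf.2
      ⟨mul_mem (inv_mem (nE_mon P i).1) (mul_mem (mul_mem haF (nE_mon P x0).1) (inv_mem haF)), ?_⟩)
    refine C.G.mem_H_of_nPerm_one (mul_mem (inv_mem (nE_mon P i).2)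
      (mul_mem (mul_mem haM (nE_mon P x0).2) (inv_mem haM))) ?_
    have := Good.NPerm.mul C.G (Good.NPerm.inv C.G (nE_perm P i))
      (Good.NPerm.mul C.G (Good.NPerm.mul C.G haπ (nE_perm P x0)) (Good.NPerm.inv C.G haπ))
    rw [heq, mul_inv_cancel_right, inv_mul_cancel] at this
    exact this

theorem gen [IsSimpleGroup ↥Γ] [Nonempty ι] : Ug T Γ ⊔ Subgroup.closure (Set.range (nE P)) = ⊤ := by
  set W := Ug T Γ ⊔ Subgroup.closure (Set.range (nE P))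
  set M := Ug T Γ ⊔ ⨆ k, Xng P k
  have hnM : ∀ k, nE P k ∈ M := fun k =>
    sup_le ((X_le_U P k).trans le_sup_left) ((le_iSup (Xng P) k).trans le_sup_right) (nE_mem P k)
  have hMW : M ≤ W := by
    refine sup_le le_sup_left (iSup_le fun k => ?_)
    rintro _ ⟨x, hx, rfl⟩
    have hn : nE P k ∈ W := Subgroup.mem_sup_right (Subgroup.subset_closure ⟨k, rfl⟩)
    have hd : (nE P k)⁻¹ * (nkG P k * (nE P k)⁻¹) * nE P k ∈ Hg T Γ := by
      have := H_conj_N P (a := (nE P k)⁻¹) (inv_mem (nE_mon P k).2) (nk_ratio P k)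
      rwa [inv_inv] at this
    have := mul_mem (mul_mem hn (Subgroup.mem_sup_left (S := Ug T Γ) (H_conj_U P hd (X_le_U P k hx))))
      (inv_mem hn)
    show nkG P k * x * (nkG P k)⁻¹ ∈ W
    convert this using 1
    group
  have hHN : ∀ h ∈ Hg T Γ, h ∈ Subgroup.normalizer (M : Set ↥Γ) := by
    intro h hh
    have key : ∀ h ∈ Hg T Γ, ∀ y ∈ M, h * y * h⁻¹ ∈ M := by
      intro h hh
      have hle : M ≤ M.comap (MulAut.conj h).toMonoidHom :=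
        sup_le (fun y hy => Subgroup.mem_sup_left (H_conj_U P hh hy))
          (iSup_le fun k y hy => Subgroup.mem_sup_right (le_iSup (Xng P) k (H_conj_Xn P hh hy)))
      exact fun y hy => hle hy
    refine Subgroup.mem_normalizer_iff.2 fun y => ⟨key h hh y, fun hy => ?_⟩
    have := key h⁻¹ (inv_mem hh) _ hy
    rwa [inv_inv, show h⁻¹ * (h * y * h⁻¹) * h = y by group] at this
  have htop : Subgroup.normalizer (M : Set ↥Γ) = ⊤ := by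
    rw [eq_top_iff]
    intro g _
    obtain ⟨v, m, u, π, hv, hm, hπ, -, hu, e⟩ := T.fix_bruhat (P.le g.2)
    obtain ⟨d, hd, w, hw, rfl⟩ := P.N_decomp hm
    have hu' : u ∈ T.Fix ⊓ D.posUnipotent K := ⟨hu.1, C.G.Uinv_le _ hu.2⟩
    have hwn : ∃ w' : ↥Γ, (w' : GL D.Idx K) = w ∧ w' ∈ Subgroup.normalizer (M : Set ↥Γ) := by
      have hle : Subgroup.closure (Set.range P.toPre.nk) ≤
          (Subgroup.normalizer (M : Set ↥Γ)).map Γ.subtype := by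
        rw [Subgroup.closure_le]
        rintro _ ⟨k, rfl⟩
        refine ⟨nkG P k, ?_, rfl⟩
        rw [show nkG P k = (nkG P k * (nE P k)⁻¹) * nE P k by group]
        exact mul_mem (hHN _ (nk_ratio P k)) (Subgroup.le_normalizer (hnM k))
      obtain ⟨w', hw', ew⟩ := hle hw
      exact ⟨w', ew, hw'⟩
    obtain ⟨w', ew, hw'⟩ := hwn
    rw [show g = (⟨v, P.toPre.U_le hv⟩ : ↥Γ) * (⟨d, P.H_le hd⟩ * w') * ⟨u, P.toPre.U_le hu'⟩ from
      Subtype.ext (e.trans (by rw [← ew]; rfl))]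
    exact mul_mem (mul_mem (Subgroup.le_normalizer (Subgroup.mem_sup_left (Subgroup.mem_subgroupOf.2 hv)))
      (mul_mem (hHN _ (Subgroup.mem_subgroupOf.2 hd)) hw'))
      (Subgroup.le_normalizer (Subgroup.mem_sup_left (Subgroup.mem_subgroupOf.2 hu')))
  have : M.Normal := Subgroup.normalizer_eq_top_iff.1 htop
  rcases this.eq_bot_or_eq_top with h | h
  · exfalso
    obtain ⟨k⟩ := ‹Nonempty ι›
    obtain ⟨x, hx, hx1⟩ := P.X_ne k
    have hxM : (⟨x, P.toPre.X_le k hx⟩ : ↥Γ) ∈ M :=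
      Subgroup.mem_sup_left (X_le_U P k (Subgroup.mem_subgroupOf.2 hx))
    rw [h, Subgroup.mem_bot] at hxM
    exact hx1 (congrArg Subtype.val hxM)
  · exact top_le_iff.1 (h.symm.le.trans hMW)

/-- the split `(B, N)` data -/
noncomputable def eData [IsSimpleGroup ↥Γ] [Nonempty ι] (p : ℕ) (hU : IsPGroup p (Ug T Γ)) (M : CoxeterMatrix ι)
    (hM : BraidOK O M) (hfaith : ∀ l : List ι, (l.map O.wO).prod = 1 → (l.map M.simple).prod = 1) :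
    EData ↥Γ ι where
  p := p
  U := Ug T Γ
  H := Hg T Γ
  X := Xg O Γ
  Xn := Xng P
  V := Vg O Γ
  n := nE P
  M := M
  U_pgroup := hU
  X_le := X_le_U P
  V_le := V_le_U P
  Xn_pgroup k := (hU.to_le (X_le_U P k)).map _
  U_split := U_split P
  V_norm := V_norm P
  n_mem := nE_mem P
  n_sq := sq_H P
  H_U h hh u hu := H_conj_U P hh hu
  H_L i h hh x hx := H_conj_L P hh hx
  H_comm h hh h' hh' := Subtype.ext (C.G.diagonal_comm (Subgroup.mem_inf.1 (Subgroup.mem_subgroupOf.1 hh)).2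
    (Subgroup.mem_inf.1 (Subgroup.mem_subgroupOf.1 hh')).2)
  n_H i h hh := H_conj_N P (nE_mon P i).2 hh
  L_decomp := L_decomp P
  gen := gen P
  dich := dich P
  H_U_inf h hh hu := by
    have := C.G.eq_one_of_U_H (Subgroup.mem_inf.1 (Subgroup.mem_subgroupOf.1 hu)).2
      (inv_mem (Subgroup.mem_inf.1 (Subgroup.mem_subgroupOf.1 hh)).2) (mul_inv_cancel _)
    exact Subtype.ext this.1
  inter w hw hu := by
    have hwU := Subgroup.mem_inf.1 (Subgroup.mem_subgroupOf.1 hu)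
    refine Subgroup.mem_subgroupOf.2 (Subgroup.mem_inf.2 ⟨hwU.1, ?_⟩)
    exact C.G.B_inf_N (K := K) ▸ Subgroup.mem_inf.2
      ⟨Subgroup.mem_sup_left hwU.2, (Subgroup.mem_inf.1 (closure_mon P hw)).2⟩
  braid := braid P hM
  faithful l hl := by
    refine hfaith l (Good.NPerm.unique C.G (list_nperm P l).1 ?_)
    exact C.G.nPerm_H (Subgroup.mem_inf.1 (Subgroup.mem_subgroupOf.1 hl)).2

end CfsgLib.Lie.Mult.TwEngine
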