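import Cfsg.Agent.Lib.Lie.Mult.Sylow
import Cfsg.Agent.Lib.Lie.SLUniv.SL2

/-!
# Canonical lifts of `p`-elements through a central extension with kernel of order prime to `p`

An element of `p`-power order has exactly one lift of `p`-power order; the lifts of a `p`-subgroup
form a subgroup and conjugation permutes them.
-/

set_option autoImplicit false

namespace CfsgLib.Lie.Mult

open scoped commutatorElement MatrixGroups
open CfsgLib.Lie.SL2Rel CfsgLib.Lie.SL2Rel.Fam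

/-- the order is a power of `p` -/
def IsPEl (p : ℕ) {G : Type*} [Group G] (g : G) : Prop := ∃ k : ℕ, g ^ p ^ k = 1

theorem IsPEl.one (p : ℕ) {G : Type*} [Group G] : IsPEl p (1 : G) := ⟨0, one_pow _⟩

theorem IsPEl.inv {p : ℕ} {G : Type*} [Group G] {g : G} (h : IsPEl p g) : IsPEl p g⁻¹ :=
  h.imp fun k hk => by rw [inv_pow, hk, inv_one]

theorem IsPEl.conj {p : ℕ} {G : Type*} [Group G] {g : G} (h : IsPEl p g) (a : G) :
    IsPEl p (a * g * a⁻¹) :=
  h.imp fun k hk => by rw [conj_pow, hk, mul_one, mul_inv_cancel]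

/-- a central extension with kernel of order prime to `p` -/
structure Setup {Γ G : Type*} [Group Γ] [Finite Γ] [Group G] (τ : Γ →* G) (p : ℕ) : Prop where
  prime : p.Prime
  surj : Function.Surjective τ
  central : τ.ker ≤ Subgroup.center Γ
  cop : ¬ p ∣ Nat.card τ.ker

namespace Setup

variable {Γ G : Type*} [Group Γ] [Finite Γ] [Group G] {τ : Γ →* G} {p : ℕ} (E : Setup τ p)
include E

theorem lift_unique {a b : Γ} (ha : IsPEl p a) (hb : IsPEl p b) (h : τ a = τ b) : a = b := by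
  obtain ⟨k, hk⟩ := ha
  obtain ⟨l, hl⟩ := hb
  have hzk : b⁻¹ * a ∈ τ.ker := by rw [MonoidHom.mem_ker, map_mul, map_inv, h, inv_mul_cancel]
  have hcm : Commute b⁻¹ a := by
    have e := Subgroup.mem_center_iff.1 (E.central hzk) b
    rw [mul_inv_cancel_left] at e
    show b⁻¹ * a = a * b⁻¹
    conv_rhs => rw [e]
    group
  have h1 : (b⁻¹ * a) ^ p ^ (k + l) = 1 := by
    rw [hcm.mul_pow, inv_pow, pow_add, pow_mul a, hk, one_pow, mul_comm (p ^ k), pow_mul b, hl,
      one_pow, inv_one, one_mul]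
  have hcop : (Nat.card τ.ker).Coprime (p ^ (k + l)) :=
    Nat.Coprime.pow_right _ ((Nat.Prime.coprime_iff_not_dvd E.prime).2 E.cop).symm
  have h2 : (⟨b⁻¹ * a, hzk⟩ : τ.ker) = 1 := (powCoprime hcop).injective (Subtype.ext (by
    show (b⁻¹ * a) ^ p ^ (k + l) = (1 : Γ) ^ p ^ (k + l)
    rw [h1, one_pow]))
  exact (inv_mul_eq_one.1 (congrArg Subtype.val h2)).symm

theorem exists_sylow (P : Subgroup G) (hP : IsPGroup p P) :
    ∃ S : Subgroup Γ, IsPGroup p S ∧ S.map τ = P := by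
  haveI := Fact.mk E.prime
  haveI : Finite G := Finite.of_surjective τ E.surj
  set T := P.comap τ
  obtain ⟨S⟩ : Nonempty (Sylow p T) := inferInstance
  let f : ↥T →* ↥P := (τ.comp T.subtype).codRestrict P fun x => x.2
  have hf : Function.Surjective f := fun y => by
    obtain ⟨g, hg⟩ := E.surj y
    exact ⟨⟨g, by show τ g ∈ P; rw [hg]; exact y.2⟩, Subtype.ext hg⟩
  refine ⟨(S : Subgroup T).map T.subtype, S.isPGroup'.map _, ?_⟩
  have htop : (S.mapSurjective hf : Subgroup P) = ⊤ := by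
    obtain ⟨n, hn⟩ := IsPGroup.iff_card.1 hP
    refine Subgroup.eq_top_of_card_eq _ ?_
    rw [Sylow.card_eq_multiplicity, hn, E.prime.factorization_pow, Finsupp.single_eq_same]
  rw [Sylow.coe_mapSurjective] at htop
  rw [Subgroup.map_map, show τ.comp T.subtype = P.subtype.comp f from rfl, ← Subgroup.map_map, htop,
    ← MonoidHom.range_eq_map, Subgroup.range_subtype]

theorem exists_lift {P : Subgroup G} (hP : IsPGroup p P) {x : G} (hx : x ∈ P) :
    ∃ a : Γ, IsPEl p a ∧ τ a = x := by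
  obtain ⟨S, hS, hmap⟩ := E.exists_sylow P hP
  obtain ⟨a, ha, rfl⟩ := hmap.ge hx
  obtain ⟨k, hk⟩ := hS ⟨a, ha⟩
  exact ⟨a, ⟨k, congrArg Subtype.val hk⟩, rfl⟩

theorem isPEl_mul {P : Subgroup G} (hP : IsPGroup p P) {a b : Γ} (ha : τ a ∈ P) (hb : τ b ∈ P)
    (ha' : IsPEl p a) (hb' : IsPEl p b) : IsPEl p (a * b) := by
  obtain ⟨S, hS, hmap⟩ := E.exists_sylow P hP
  obtain ⟨s, hs, es⟩ := hmap.ge ha
  obtain ⟨t, ht, et⟩ := hmap.ge hb
  have hel : ∀ {s : Γ}, s ∈ S → IsPEl p s := fun {s} hs => by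
    obtain ⟨k, hk⟩ := hS ⟨s, hs⟩
    exact ⟨k, congrArg Subtype.val hk⟩
  rw [← E.lift_unique (hel hs) ha' es, ← E.lift_unique (hel ht) hb' et]
  exact hel (mul_mem hs ht)

/-- the lifts of a `p`-subgroup -/
def phat {P : Subgroup G} (hP : IsPGroup p P) : Subgroup Γ where
  carrier := {g | τ g ∈ P ∧ IsPEl p g}
  one_mem' := ⟨by rw [map_one]; exact one_mem P, IsPEl.one p⟩
  mul_mem' := fun ⟨h1, h2⟩ ⟨h3, h4⟩ =>
    ⟨by rw [map_mul]; exact mul_mem h1 h3, E.isPEl_mul hP h1 h3 h2 h4⟩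
  inv_mem' := fun ⟨h1, h2⟩ => ⟨by rw [map_inv]; exact inv_mem h1, h2.inv⟩

theorem phat_map {P : Subgroup G} (hP : IsPGroup p P) : (E.phat hP).map τ = P := by
  refine le_antisymm ?_ fun x hx => ?_
  · rintro _ ⟨g, hg, rfl⟩
    exact hg.1
  · obtain ⟨a, ha, rfl⟩ := E.exists_lift hP hx
    exact ⟨a, ⟨hx, ha⟩, rfl⟩

end Setup

/-- the subgroup generated by the lifts of `p`-power order of the elements of `L` -/
def lhat {Γ G : Type*} [Group Γ] [Group G] (τ : Γ →* G) (p : ℕ) (L : Subgroup G) : Subgroup Γ :=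
  Subgroup.closure {g | τ g ∈ L ∧ IsPEl p g}

theorem lhat_map_le {Γ G : Type*} [Group Γ] [Group G] (τ : Γ →* G) (p : ℕ) (L : Subgroup G) :
    lhat τ p L ≤ L.comap τ :=
  (Subgroup.closure_le _).2 fun _ hg => hg.1

theorem lhat_conj {Γ G : Type*} [Group Γ] [Group G] {τ : Γ →* G} {p : ℕ} {L L' : Subgroup G} {a : Γ}
    (h : ∀ x ∈ L, τ a * x * (τ a)⁻¹ ∈ L') {g : Γ} (hg : g ∈ lhat τ p L) :
    a * g * a⁻¹ ∈ lhat τ p L' := by
  have hle : lhat τ p L ≤ (lhat τ p L').comap (MulAut.conj a).toMonoidHom := by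
    conv_lhs => rw [lhat]
    rw [Subgroup.closure_le]
    rintro x ⟨hx, hx'⟩
    show a * x * a⁻¹ ∈ lhat τ p L'
    exact Subgroup.subset_closure ⟨by rw [map_mul, map_mul, map_inv]; exact h _ hx, hx'.conj a⟩
  exact hle hg

/-- `SL(2, F)` in `G` leaves no room for a kernel prime to the characteristic -/
theorem lhat_inf_ker_of_sl2 {Γ G : Type*} [Group Γ] [Finite Γ] [Group G] {τ : Γ →* G} {p : ℕ}
    (E : Setup τ p) {F : Type*} [Field F] [Fintype F] [CharP F p] (φ : SL(2, F) →* G)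
    (hφ : Function.Injective φ) : lhat τ p φ.range ⊓ τ.ker = ⊥ := by
  haveI := Fact.mk E.prime
  let P : Subgroup (Γ × SL(2, F)) :=
    (τ.comp (MonoidHom.fst Γ _)).eqLocus (φ.comp (MonoidHom.snd Γ _))
  let π : P →* SL(2, F) := (MonoidHom.snd Γ _).comp P.subtype
  have hπ : Function.Surjective π := fun x => by
    obtain ⟨g, hg⟩ := E.surj (φ x)
    exact ⟨⟨(g, x), hg⟩, rfl⟩
  have hc : π.ker ≤ Subgroup.center P := by
    rintro ⟨⟨g, x⟩, hgx⟩ (hx : x = 1)
    subst hx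
    have hg : g ∈ Subgroup.center Γ := E.central (by
      have : τ g = φ 1 := hgx
      rwa [map_one] at this)
    refine Subgroup.mem_center_iff.2 fun y => Subtype.ext (Prod.ext ?_ ?_)
    · exact Subgroup.mem_center_iff.1 hg _
    · show y.1.2 * 1 = 1 * y.1.2
      rw [mul_one, one_mul]
  let U0 : Subgroup SL(2, F) :=
    { carrier := Set.range (upper : F → SL(2, F))
      one_mem' := ⟨0, SLUniv.upper_zero⟩
      mul_mem' := by rintro _ _ ⟨a, rfl⟩ ⟨b, rfl⟩; exact ⟨a + b, SLUniv.upper_add a b⟩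
      inv_mem' := by rintro _ ⟨a, rfl⟩; exact ⟨-a, (SLUniv.upper_inv a).symm⟩ }
  have hU0 : IsPGroup p U0 := fun u => by
    obtain ⟨t, ht⟩ := u.2
    refine ⟨1, Subtype.ext ?_⟩
    show (u : SL(2, F)) ^ p ^ 1 = 1
    have hpow : ∀ n : ℕ, (upper t : SL(2, F)) ^ n = upper ((n : F) * t) := by
      intro n
      induction n with
      | zero => simp [SLUniv.upper_zero]
      | succ n ih => rw [pow_succ, ih, ← SLUniv.upper_add]; push_cast; ring_nf
    rw [← ht, pow_one, hpow, CharP.cast_eq_zero, zero_mul, SLUniv.upper_zero]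
  have hU : IsPGroup p (U0.map φ) := hU0.map φ
  choose a ha using fun t : F =>
    E.exists_lift hU (x := φ (upper t)) (Subgroup.mem_map_of_mem φ ⟨t, rfl⟩)
  let X : F → P := fun t => ⟨(a t, upper t), (ha t).2⟩
  obtain ⟨s, hs⟩ := SLUniv.section_of_lift hπ hc X (fun t => rfl) (fun t u => by
      refine Subtype.ext (Prod.ext ?_ (SLUniv.upper_add t u))
      show a (t + u) = a t * a u
      have hm : ∀ v, τ (a v) ∈ U0.map φ := fun v => by
        rw [(ha v).2]; exact Subgroup.mem_map_of_mem φ ⟨v, rfl⟩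
      exact E.lift_unique (ha _).1 (E.isPEl_mul hU (hm t) (hm u) (ha t).1 (ha u).1)
        (by rw [map_mul, (ha t).2, (ha u).2, (ha _).2, ← map_mul, SLUniv.upper_add]))
    (fun b q hq t => by
      have e2 : (q : Γ × SL(2, F)).2 * upper t * (q : Γ × SL(2, F)).2⁻¹ = upper ((b : F) ^ 2 * t) := by
        rw [show (q : Γ × SL(2, F)).2 = SLUniv.dg b from hq, SLUniv.dg_upper]
      refine Subtype.ext (Prod.ext ?_ e2)
      show q.1.1 * a t * q.1.1⁻¹ = a ((b : F) ^ 2 * t)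
      refine E.lift_unique ((ha t).1.conj _) (ha _).1 ?_
      rw [map_mul, map_mul, map_inv, (ha t).2, (ha _).2, show τ q.1.1 = φ q.1.2 from q.2, ← e2,
        map_mul, map_mul, map_inv])
  let f : SL(2, F) →* Γ := ((MonoidHom.fst Γ _).comp P.subtype).comp s
  have hf : ∀ x, τ (f x) = φ x := fun x => by
    have e1 : τ (f x) = φ (π (s x)) := (s x).2
    rw [e1]
    exact congrArg φ (DFunLike.congr_fun hs x)
  have hle : lhat τ p φ.range ≤ f.range := by
    rw [lhat, Subgroup.closure_le]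
    rintro g ⟨⟨x, hx⟩, k, hk⟩
    refine ⟨x, E.lift_unique ⟨k, ?_⟩ ⟨k, hk⟩ ((hf x).trans hx)⟩
    rw [← map_pow, hφ (show φ (x ^ p ^ k) = φ 1 by rw [map_pow, hx, ← map_pow, hk, map_one, map_one]),
      map_one]
  rw [eq_bot_iff]
  rintro g ⟨hg, hg'⟩
  obtain ⟨x, rfl⟩ := hle hg
  have hg'' : τ (f x) = 1 := hg'
  rw [hf] at hg''
  rw [Subgroup.mem_bot, hφ (hg''.trans (map_one φ).symm), map_one]

end CfsgLib.Lie.Mult
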