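import Cfsg.Agent.Lib.PGroup.StemExtension
import Cfsg.Prelude.Def_KGroupFacts

/-!
# The multiplier is an invariant of the isomorphism type
-/

set_option autoImplicit false

namespace CfsgLib.Lie.Mult

universe u v

theorem hasSchurMultiplier_congr {G G' : Type u} [Group G] [Group G'] (e : G ≃* G') {A : Type v}
    [CommGroup A] (h : Cfsg.HasSchurMultiplier G A) : Cfsg.HasSchurMultiplier G' A := by
  obtain ⟨⟨Γ₀, i₀, i₁, σ₀, hσ₀, ⟨f⟩⟩, hu⟩ := h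
  have hk₀ : (e.toMonoidHom.comp σ₀).ker = σ₀.ker := MonoidHom.ker_comp_of_injective _ _ e.injective
  refine ⟨⟨Γ₀, i₀, i₁, e.toMonoidHom.comp σ₀,
    ⟨e.surjective.comp hσ₀.1, hk₀.le.trans hσ₀.2.1, hk₀.le.trans hσ₀.2.2⟩,
    ⟨(MulEquiv.subgroupCongr hk₀).trans f⟩⟩, fun Γ _ _ σ hσ => ?_⟩
  have hk : (e.symm.toMonoidHom.comp σ).ker = σ.ker :=
    MonoidHom.ker_comp_of_injective _ _ e.symm.injective
  obtain ⟨π, hπ⟩ := hu Γ (e.symm.toMonoidHom.comp σ)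
    ⟨e.symm.surjective.comp hσ.1, hk.le.trans hσ.2.1, hk.le.trans hσ.2.2⟩
  exact ⟨(MulEquiv.subgroupCongr hk).toMonoidHom.comp π, (MulEquiv.subgroupCongr hk).surjective.comp hπ⟩

end CfsgLib.Lie.Mult
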