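import Cfsg.Agent.Lib.Lie.Mult.Canon
import Mathlib.GroupTheory.Coxeter.Basic
import Mathlib.GroupTheory.NoncommPiCoprod

/-!
# The part of the multiplier prime to the characteristic

In a central extension with kernel prime to `p`, the canonical lifts of the `p`-elements of a group
with split `(B, N)` data generate a group with a Bruhat decomposition over the lifted torus, which is
abelian and meets the kernel only where the fundamental tori are dependent.
-/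

set_option autoImplicit false

namespace CfsgLib.Lie.Mult

open scoped commutatorElement

/-- the alternating word of length `m` starting with `i` -/
def altL {ι : Type*} : ι → ι → ℕ → List ι
  | _, _, 0 => []
  | i, j, m + 1 => i :: altL j i m

theorem altL_succ {ι : Type*} : ∀ (i j : ι) (m : ℕ),
    altL i j (m + 1) = altL i j m ++ [if Even m then i else j]
  | i, j, 0 => by simp [altL]
  | i, j, m + 1 => by
    rw [altL, altL_succ j i m, altL]
    by_cases he : Even m <;> simp [Nat.even_add_one, ← Nat.not_even_iff_odd, he]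

theorem mul_pow_eq_alt {ι W : Type*} [Group W] (f : ι → W) (h2 : ∀ i, f i * f i = 1) :
    ∀ (i j : ι) (m : ℕ), (f i * f j) ^ m = ((altL i j m).map f).prod * ((altL j i m).map f).prod⁻¹ := by
  have key : ∀ (m : ℕ) (i j : ι),
      (f i * f j) ^ m = ((altL i j m).map f).prod * ((altL j i m).map f).prod⁻¹ := by
    intro m
    induction m with
    | zero => simp [altL]
    | succ m ih =>
      intro i j
      have hj : (f j)⁻¹ = f j := inv_eq_of_mul_eq_one_right (h2 j)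
      rw [altL, altL, List.map_cons, List.map_cons, List.prod_cons, List.prod_cons, mul_inv_rev, hj,
        show ∀ a b c : W, f i * a * (b * c) = f i * (a * b) * c from fun a b c => by group, ← ih j i]
      have e : ∀ n : ℕ, f i * (f j * f i) ^ n * f j = (f i * f j) ^ (n + 1) := by
        intro n
        induction n with
        | zero => simp
        | succ n ihn => rw [pow_succ (f i * f j) (n + 1), ← ihn, pow_succ]; group
      exact (e m).symm
  exact fun i j m => key m i j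

/-- split `(B, N)` data in characteristic `p` -/
structure EData (G : Type*) [Group G] (ι : Type*) where
  /-- the characteristic -/
  p : ℕ
  /-- the unipotent radical of the Borel subgroup -/
  U : Subgroup G
  /-- the torus -/
  H : Subgroup G
  /-- the root subgroup of a fundamental root -/
  X : ι → Subgroup G
  /-- the root subgroup of its negative -/
  Xn : ι → Subgroup G
  /-- the complement in `U` -/
  V : ι → Subgroup G
  /-- representatives of the fundamental reflections -/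
  n : ι → G
  /-- the Coxeter matrix of the Weyl group -/
  M : CoxeterMatrix ι
  U_pgroup : IsPGroup p U
  X_le : ∀ i, X i ≤ U
  V_le : ∀ i, V i ≤ U
  Xn_pgroup : ∀ i, IsPGroup p (Xn i)
  U_split : ∀ i, ∀ u ∈ U, ∃ x ∈ X i, ∃ v ∈ V i, u = x * v
  V_norm : ∀ i, ∀ v ∈ V i, n i * v * (n i)⁻¹ ∈ V i
  n_mem : ∀ i, n i ∈ X i ⊔ Xn i
  n_sq : ∀ i, n i * n i ∈ H
  H_U : ∀ h ∈ H, ∀ u ∈ U, h * u * h⁻¹ ∈ U
  H_L : ∀ i, ∀ h ∈ H, ∀ x ∈ X i ⊔ Xn i, h * x * h⁻¹ ∈ X i ⊔ Xn i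
  H_comm : ∀ h ∈ H, ∀ h' ∈ H, Commute h h'
  n_H : ∀ i, ∀ h ∈ H, n i * h * (n i)⁻¹ ∈ H
  L_decomp : ∀ i, ∀ g ∈ X i ⊔ Xn i, (∃ x ∈ X i, ∃ h ∈ H ⊓ (X i ⊔ Xn i), g = x * h) ∨
    ∃ x ∈ X i, ∃ h ∈ H ⊓ (X i ⊔ Xn i), ∃ x' ∈ X i, g = x * h * n i * x'
  gen : U ⊔ Subgroup.closure (Set.range n) = ⊤
  dich : ∀ i, ∀ w ∈ Subgroup.closure (Set.range n) ⊔ H,
    (∀ x ∈ X i, w⁻¹ * x * w ∈ U) ∨ ∀ x ∈ X i, (n i * w)⁻¹ * x * (n i * w) ∈ U
  H_U_inf : ∀ h ∈ H, h ∈ U → h = 1
  inter : ∀ w ∈ Subgroup.closure (Set.range n) ⊔ H, w ∈ U → w ∈ H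
  braid : ∀ i j, i ≠ j → M i j ≠ 0 →
    (∀ x ∈ X (if Even (M i j) then i else j) ⊔ Xn (if Even (M i j) then i else j),
        ((altL j i (M i j - 1)).map n).prod * x * ((altL j i (M i j - 1)).map n).prod⁻¹ ∈
          X i ⊔ Xn i) ∧
      (n i)⁻¹ * (((altL j i (M i j - 1)).map n).prod * n (if Even (M i j) then i else j) *
        ((altL j i (M i j - 1)).map n).prod⁻¹) ∈ H
  faithful : ∀ l : List ι, (l.map n).prod ∈ H → (l.map M.simple).prod = 1

namespace EData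

variable {G ι : Type*} [Group G] (D : EData G ι) {Γ : Type*} [Group Γ] [Finite Γ] {τ : Γ →* G}

/-- the lifted rank-one group -/
def Lh (τ : Γ →* G) (i : ι) : Subgroup Γ := lhat τ D.p (D.X i ⊔ D.Xn i)

/-- the lifted fundamental torus -/
def Hi (τ : Γ →* G) (i : ι) : Subgroup Γ := D.Lh τ i ⊓ D.H.comap τ

/-- the lifted torus -/
def Hh (τ : Γ →* G) : Subgroup Γ := ⨆ i, D.Hi τ i

omit [Finite Γ] in
theorem Lh_conj {i : ι} {a : Γ} (h : τ a ∈ D.H) {g : Γ} (hg : g ∈ D.Lh τ i) :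
    a * g * a⁻¹ ∈ D.Lh τ i :=
  lhat_conj (fun x hx => D.H_L i _ h x hx) hg

omit [Finite Γ] in
theorem Hh_le : D.Hh τ ≤ D.H.comap τ := iSup_le fun _ => inf_le_right

variable (E : Setup τ D.p)
include E

theorem Lh_map (i : ι) : (D.Lh τ i).map τ = D.X i ⊔ D.Xn i := by
  refine le_antisymm ?_ (sup_le ?_ ?_)
  · rintro _ ⟨g, hg, rfl⟩
    exact lhat_map_le τ D.p _ hg
  · intro x hx
    obtain ⟨a, ha, rfl⟩ := E.exists_lift (D.U_pgroup.to_le (D.X_le i)) hx
    exact ⟨a, Subgroup.subset_closure ⟨Subgroup.mem_sup_left hx, ha⟩, rfl⟩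
  · intro x hx
    obtain ⟨a, ha, rfl⟩ := E.exists_lift (D.Xn_pgroup i) hx
    exact ⟨a, Subgroup.subset_closure ⟨Subgroup.mem_sup_right hx, ha⟩, rfl⟩

/-- the lift of a fundamental reflection -/
noncomputable def nh (i : ι) : Γ := ((D.Lh_map E i).ge (D.n_mem i)).choose

theorem nh_mem (i : ι) : D.nh E i ∈ D.Lh τ i := ((D.Lh_map E i).ge (D.n_mem i)).choose_spec.1

theorem nh_val (i : ι) : τ (D.nh E i) = D.n i := ((D.Lh_map E i).ge (D.n_mem i)).choose_spec.2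

/-- the lifted monomial group -/
noncomputable def Nh : Subgroup Γ := Subgroup.closure (Set.range (D.nh E)) ⊔ D.Hh τ

theorem nh_conj_Hh (i : ι) {a : Γ} (ha : a ∈ D.Lh τ i) (ha' : ∀ h ∈ D.H, τ a * h * (τ a)⁻¹ ∈ D.H)
    {g : Γ} (hg : g ∈ D.Hh τ) : a * g * a⁻¹ ∈ D.Hh τ := by
  have hle : D.Hh τ ≤ (D.Hh τ).comap (MulAut.conj a).toMonoidHom := by
    refine iSup_le fun j g hg => ?_
    obtain ⟨hg1, hg2⟩ := hg
    show a * g * a⁻¹ ∈ D.Hh τ
    have h1 : a * (g * a⁻¹ * g⁻¹) ∈ D.Hi τ i := by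
      refine ⟨mul_mem ha (D.Lh_conj hg2 (inv_mem ha)), ?_⟩
      show τ (a * (g * a⁻¹ * g⁻¹)) ∈ D.H
      rw [show τ (a * (g * a⁻¹ * g⁻¹)) = τ a * τ g * (τ a)⁻¹ * (τ g)⁻¹ by
        simp only [map_mul, map_inv]; group]
      exact mul_mem (ha' _ hg2) (inv_mem hg2)
    rw [show a * g * a⁻¹ = a * (g * a⁻¹ * g⁻¹) * g by group]
    exact mul_mem (le_iSup (D.Hi τ) i h1) (le_iSup (D.Hi τ) j ⟨hg1, hg2⟩)
  exact hle hg

theorem Nh_map {m : Γ} (hm : m ∈ D.Nh E) : τ m ∈ Subgroup.closure (Set.range D.n) ⊔ D.H := by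
  have hle : D.Nh E ≤ (Subgroup.closure (Set.range D.n) ⊔ D.H).comap τ := by
    refine sup_le ((Subgroup.closure_le _).2 ?_)
      (D.Hh_le.trans (Subgroup.comap_mono le_sup_right))
    rintro _ ⟨i, rfl⟩
    show τ (D.nh E i) ∈ Subgroup.closure (Set.range D.n) ⊔ D.H
    rw [D.nh_val E]
    exact Subgroup.mem_sup_left (Subgroup.subset_closure ⟨i, rfl⟩)
  exact hle hm

/-- lifts of `U` -/
noncomputable def Uh : Subgroup Γ := E.phat D.U_pgroup

/-- the Bruhat set -/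
noncomputable def Y : Set Γ := {g | ∃ a ∈ D.Uh E, ∃ m ∈ D.Nh E, ∃ b ∈ D.Uh E, g = a * m * b}

theorem Y_Uh {a g : Γ} (ha : a ∈ D.Uh E) (hg : g ∈ D.Y E) : a * g ∈ D.Y E := by
  obtain ⟨a', ha', m, hm, b, hb, rfl⟩ := hg
  exact ⟨a * a', mul_mem ha ha', m, hm, b, hb, by group⟩

theorem Hh_Uh {h u : Γ} (hh : h ∈ D.Hh τ) (hu : u ∈ D.Uh E) : h * u * h⁻¹ ∈ D.Uh E :=
  ⟨by rw [map_mul, map_mul, map_inv]; exact D.H_U _ (D.Hh_le hh) _ hu.1, hu.2.conj h⟩

theorem Y_nh (i : ι) (hbot : D.Lh τ i ⊓ τ.ker = ⊥) {g : Γ} (hg : g ∈ D.Y E) :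
    D.nh E i * g ∈ D.Y E := by
  obtain ⟨a, ha, m, hm, b, hb, rfl⟩ := hg
  obtain ⟨ha1, ha2⟩ := ha
  obtain ⟨x, hx, v, hv, e⟩ := D.U_split i _ (inv_mem ha1)
  obtain ⟨xh, hxh, ex⟩ := (E.phat_map D.U_pgroup).ge (D.X_le i (inv_mem hx))
  obtain ⟨vh, hvh, ev⟩ := (E.phat_map D.U_pgroup).ge (D.V_le i (inv_mem hv))
  have hav : a = vh * xh := by
    refine E.lift_unique ha2 (mul_mem hvh hxh).2 ?_
    rw [map_mul, ex, ev, ← mul_inv_rev, ← e, inv_inv]
  have hv' : D.nh E i * vh * (D.nh E i)⁻¹ ∈ D.Uh E :=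
    ⟨by rw [map_mul, map_mul, map_inv, D.nh_val E, ev]; exact D.V_le i (D.V_norm i _ (inv_mem hv)),
      hvh.2.conj _⟩
  have hnm : D.nh E i ∈ D.Nh E := Subgroup.mem_sup_left (Subgroup.subset_closure ⟨i, rfl⟩)
  suffices hs : D.nh E i * xh * m * b ∈ D.Y E by
    rw [show D.nh E i * (a * m * b) = D.nh E i * vh * (D.nh E i)⁻¹ * (D.nh E i * xh * m * b) by
      rw [hav]; group]
    exact D.Y_Uh E hv' hs
  have hxi : τ xh ∈ D.X i := by rw [ex]; exact inv_mem hx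
  rcases D.dich i _ (D.Nh_map E hm) with h | h
  · refine ⟨1, one_mem _, D.nh E i * m, mul_mem hnm hm, m⁻¹ * xh * m * b, mul_mem ?_ hb, by group⟩
    exact ⟨by rw [map_mul, map_mul, map_inv]; exact h _ hxi, by simpa using hxh.2.conj m⁻¹⟩
  · set m₂ := D.nh E i * m
    have hm₂ : m₂ ∈ D.Nh E := mul_mem hnm hm
    set l := D.nh E i * xh * (D.nh E i)⁻¹
    have hl : l ∈ D.Lh τ i :=
      mul_mem (mul_mem (D.nh_mem E i) (Subgroup.subset_closure ⟨Subgroup.mem_sup_left hxi, hxh.2⟩))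
        (inv_mem (D.nh_mem E i))
    rw [show D.nh E i * xh * m * b = l * m₂ * b by simp only [l, m₂]; group]
    have hX : ∀ y ∈ D.X i, ∃ yh ∈ D.Uh E, τ yh = y ∧ yh ∈ D.Lh τ i := fun y hy => by
      obtain ⟨yh, h1, h2⟩ := (E.phat_map D.U_pgroup).ge (D.X_le i hy)
      exact ⟨yh, h1, h2, Subgroup.subset_closure ⟨Subgroup.mem_sup_left (by rw [h2]; exact hy), h1.2⟩⟩
    have heq : ∀ {u v : Γ}, u ∈ D.Lh τ i → v ∈ D.Lh τ i → τ u = τ v → u = v := by
      intro u v hu hv huv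
      have : v⁻¹ * u ∈ D.Lh τ i ⊓ τ.ker := Subgroup.mem_inf.2
        ⟨mul_mem (inv_mem hv) hu, MonoidHom.mem_ker.2 (by rw [map_mul, map_inv, huv, inv_mul_cancel])⟩
      rw [hbot, Subgroup.mem_bot] at this
      exact (inv_mul_eq_one.1 this).symm
    have hHi : ∀ h ∈ D.H ⊓ (D.X i ⊔ D.Xn i), ∃ hh ∈ D.Hh τ, τ hh = h ∧ hh ∈ D.Lh τ i := fun h hh => by
      obtain ⟨hl', h1, h2⟩ := (D.Lh_map E i).ge hh.2
      exact ⟨hl', le_iSup (D.Hi τ) i ⟨h1, by show τ hl' ∈ D.H; rw [h2]; exact hh.1⟩, h2, h1⟩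
    rcases D.L_decomp i _ (lhat_map_le τ D.p _ hl) with ⟨y, hy, hh, hhm, e1⟩ | ⟨y, hy, hh, hhm, y', hy', e1⟩
    · obtain ⟨yh, hyh, eyh, hyL⟩ := hX y hy
      obtain ⟨th, hth, eth, htL⟩ := hHi hh hhm
      rw [heq hl (mul_mem hyL htL) (by rw [e1, map_mul, eyh, eth])]
      exact ⟨yh, hyh, th * m₂, mul_mem (Subgroup.mem_sup_right hth) hm₂, b, hb, by group⟩
    · obtain ⟨yh, hyh, eyh, hyL⟩ := hX y hy
      obtain ⟨th, hth, eth, htL⟩ := hHi hh hhm
      obtain ⟨zh, hzh, ezh, hzL⟩ := hX y' hy'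
      rw [heq hl (mul_mem (mul_mem (mul_mem hyL htL) (D.nh_mem E i)) hzL)
        (by rw [e1, map_mul, map_mul, map_mul, eyh, eth, ezh, D.nh_val E])]
      refine ⟨yh, hyh, th * D.nh E i * m₂, mul_mem (mul_mem (Subgroup.mem_sup_right hth) hnm) hm₂,
        m₂⁻¹ * zh * m₂ * b, mul_mem ?_ hb, by group⟩
      refine ⟨?_, by simpa using hzh.2.conj m₂⁻¹⟩
      rw [map_mul, map_mul, map_inv, ezh, map_mul, D.nh_val E]
      exact h _ hy'

variable (hsplit : ∀ i, D.Lh τ i ⊓ τ.ker = ⊥)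
include hsplit

theorem Nh_mem_Hh {m : Γ} (hm : m ∈ D.Nh E) (hH : τ m ∈ D.H) : m ∈ D.Hh τ := by
  classical
  set N' := D.Nh E
  let K : Subgroup N' := (D.Hh τ).subgroupOf N'
  have hn : ∀ (i : ι) {g : Γ}, g ∈ D.Hh τ →
      D.nh E i * g * (D.nh E i)⁻¹ ∈ D.Hh τ ∧ (D.nh E i)⁻¹ * g * D.nh E i ∈ D.Hh τ := by
    intro i g hg
    have h1 : D.nh E i * g * (D.nh E i)⁻¹ ∈ D.Hh τ :=
      D.nh_conj_Hh E i (D.nh_mem E i) (fun h hh => by rw [D.nh_val E]; exact D.n_H i h hh) hg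
    refine ⟨h1, ?_⟩
    have h2 : D.nh E i * D.nh E i ∈ D.Hi τ i :=
      ⟨mul_mem (D.nh_mem E i) (D.nh_mem E i), by
        show τ (D.nh E i * D.nh E i) ∈ D.H
        rw [map_mul, D.nh_val E]; exact D.n_sq i⟩
    have h3 := le_iSup (D.Hi τ) i h2
    rw [show (D.nh E i)⁻¹ * g * D.nh E i = (D.nh E i * D.nh E i)⁻¹ *
      (D.nh E i * g * (D.nh E i)⁻¹) * (D.nh E i * D.nh E i) by group]
    exact mul_mem (mul_mem (inv_mem h3) h1) h3
  haveI hK : K.Normal := by
    have hle : N' ≤ Subgroup.normalizer (D.Hh τ : Set Γ) := by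
      refine sup_le ((Subgroup.closure_le _).2 ?_) Subgroup.le_normalizer
      rintro _ ⟨i, rfl⟩
      refine Subgroup.mem_normalizer_iff.2 fun g => ⟨fun hg => (hn i hg).1, fun hg => ?_⟩
      have := (hn i hg).2
      simpa [mul_assoc] using this
    exact Subgroup.normal_subgroupOf_of_le_normalizer hle
  have hnm : ∀ i, D.nh E i ∈ N' := fun i => Subgroup.mem_sup_left (Subgroup.subset_closure ⟨i, rfl⟩)
  let a : ι → N' ⧸ K := fun i => QuotientGroup.mk ⟨D.nh E i, hnm i⟩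
  have ha2 : ∀ i, a i * a i = 1 := fun i => by
    refine (QuotientGroup.eq_one_iff _).2 ?_
    exact le_iSup (D.Hi τ) i ⟨mul_mem (D.nh_mem E i) (D.nh_mem E i), by
      show τ (D.nh E i * D.nh E i) ∈ D.H
      rw [map_mul, D.nh_val E]; exact D.n_sq i⟩
  have hprod : ∀ l : List ι, ∃ g : N', (l.map a).prod = QuotientGroup.mk g ∧
      τ (g : Γ) = (l.map D.n).prod := by
    intro l
    induction l with
    | nil => exact ⟨1, rfl, by simp⟩
    | cons i l ih =>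
      obtain ⟨g, h1, h2⟩ := ih
      refine ⟨⟨D.nh E i, hnm i⟩ * g, ?_, ?_⟩
      · rw [List.map_cons, List.prod_cons, h1]; rfl
      · rw [List.map_cons, List.prod_cons, Subgroup.coe_mul, map_mul, h2, D.nh_val E]
  have hrel : D.M.IsLiftable a := by
    intro i j
    by_cases hij : i = j
    · subst hij
      rw [D.M.diagonal i, pow_one]
      exact ha2 i
    by_cases h0 : D.M i j = 0
    · rw [h0, pow_zero]
    obtain ⟨hb1, hb2⟩ := D.braid i j hij h0
    obtain ⟨Pg, hP1, hP2⟩ := hprod (altL j i (D.M i j - 1))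
    set x := if Even (D.M i j) then i else j
    have hmem : (D.nh E i)⁻¹ * ((Pg : Γ) * D.nh E x * (Pg : Γ)⁻¹) ∈ D.Hi τ i := by
      refine Subgroup.mem_inf.2 ⟨mul_mem (inv_mem (D.nh_mem E i))
        (lhat_conj (fun y hy => by rw [hP2]; exact hb1 y hy) (D.nh_mem E x)), ?_⟩
      show τ ((D.nh E i)⁻¹ * ((Pg : Γ) * D.nh E x * (Pg : Γ)⁻¹)) ∈ D.H
      rw [map_mul, map_mul, map_mul, map_inv, map_inv, hP2, D.nh_val E, D.nh_val E]
      exact hb2
    have e : a i * QuotientGroup.mk Pg = QuotientGroup.mk Pg * a x := by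
      have : (QuotientGroup.mk ((⟨D.nh E i, hnm i⟩ : N')⁻¹ * (Pg * ⟨D.nh E x, hnm x⟩ * Pg⁻¹)) :
          N' ⧸ K) = 1 := (QuotientGroup.eq_one_iff _).2 (le_iSup (D.Hi τ) i hmem)
      rw [QuotientGroup.mk_mul, QuotientGroup.mk_inv, QuotientGroup.mk_mul, QuotientGroup.mk_mul,
        QuotientGroup.mk_inv, inv_mul_eq_one] at this
      show a i * _ = _ * a x
      rw [show a i = QuotientGroup.mk ⟨D.nh E i, hnm i⟩ from rfl, this, inv_mul_cancel_right]
    rw [mul_pow_eq_alt a ha2, mul_inv_eq_one]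
    obtain ⟨m', hm'⟩ : ∃ m', D.M i j = m' + 1 := ⟨D.M i j - 1, by omega⟩
    have hx : (if Even m' then j else i) = x := by
      simp only [x, hm', Nat.even_add_one]
      by_cases he : Even m' <;> simp [he]
    rw [hm', altL, altL_succ j i m', List.map_cons, List.prod_cons, List.map_append, List.prod_append,
      List.map_cons, List.map_nil, List.prod_cons, List.prod_nil, mul_one, hx]
    rw [hm', Nat.add_sub_cancel] at hP1
    rw [hP1]
    exact e
  let f : D.M.Group →* N' ⧸ K := D.M.toCoxeterSystem.lift ⟨a, hrel⟩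
  have hf : ∀ i, f (D.M.simple i) = a i := fun i => by
    have := D.M.toCoxeterSystem.lift_apply_simple hrel i
    rwa [D.M.toCoxeterSystem_simple] at this
  have hcov : ∀ g : N', ∃ w, f w = QuotientGroup.mk g := by
    have hle : N' ≤ ((f.range).comap (QuotientGroup.mk' K)).map N'.subtype := by
      refine sup_le ((Subgroup.closure_le _).2 ?_) fun g hg => ?_
      · rintro _ ⟨i, rfl⟩
        exact ⟨⟨D.nh E i, hnm i⟩, ⟨D.M.simple i, hf i⟩, rfl⟩
      · refine ⟨⟨g, Subgroup.mem_sup_right hg⟩, ⟨1, ?_⟩, rfl⟩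
        rw [map_one]
        exact ((QuotientGroup.eq_one_iff (N := K) (⟨g, Subgroup.mem_sup_right hg⟩ : N')).2 hg).symm
    intro g
    obtain ⟨g', hg', e⟩ := hle g.2
    rw [Subtype.ext e] at hg'
    exact hg'
  obtain ⟨w, hw⟩ := hcov ⟨m, hm⟩
  obtain ⟨l, rfl⟩ := D.M.toCoxeterSystem.wordProd_surjective w
  have hfw : f (D.M.toCoxeterSystem.wordProd l) = (l.map a).prod := by
    rw [CoxeterSystem.wordProd, map_list_prod, List.map_map]
    congr 1
    exact List.map_congr_left fun i _ => by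
      rw [Function.comp_apply, D.M.toCoxeterSystem_simple]; exact hf i
  obtain ⟨g, hg1, hg2⟩ := hprod l
  rw [hfw, hg1, QuotientGroup.eq] at hw
  have hgH : τ (g : Γ) ∈ D.H := by
    have h1 : τ ((g : Γ)⁻¹ * m) ∈ D.H := D.Hh_le (τ := τ) hw
    rw [map_mul, map_inv] at h1
    have := mul_mem hH (inv_mem h1)
    simpa using this
  have hone := D.faithful l (hg2 ▸ hgH)
  have hwp : D.M.toCoxeterSystem.wordProd l = 1 := by
    rw [CoxeterSystem.wordProd, ← hone]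
    congr 1
  have hg0 : (QuotientGroup.mk g : N' ⧸ K) = 1 := by rw [← hg1, ← hfw, hwp, map_one]
  have hgK : (g : Γ) ∈ D.Hh τ := (QuotientGroup.eq_one_iff g).1 hg0
  have := mul_mem hgK (show (g : Γ)⁻¹ * m ∈ D.Hh τ from hw)
  rwa [mul_inv_cancel_left] at this

/-- the kernel of a stem extension lies in the lifted torus -/
theorem ker_le_Hh (hstem : Cfsg.IsStemExtension τ) : τ.ker ≤ D.Hh τ := by
  have hY : ∀ g ∈ Subgroup.closure ((D.Uh E : Set Γ) ∪ Set.range (D.nh E)), g ∈ D.Y E := by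
    intro g hg
    have : ∀ y ∈ D.Y E, g * y ∈ D.Y E := by
      rw [← Subgroup.mem_toSubmonoid, Subgroup.closure_toSubmonoid_of_finite] at hg
      induction hg using Submonoid.closure_induction with
      | mem x hx =>
        rcases hx with hx | ⟨i, rfl⟩
        · exact fun y hy => D.Y_Uh E hx hy
        · exact fun y hy => D.Y_nh E i (hsplit i) hy
      | one => exact fun y hy => by rwa [one_mul]
      | mul x x' _ _ ihx ihx' => exact fun y hy => by rw [mul_assoc]; exact ihx _ (ihx' y hy)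
    simpa using this 1 ⟨1, one_mem _, 1, one_mem _, 1, one_mem _, by group⟩
  have htop : Subgroup.closure ((D.Uh E : Set Γ) ∪ Set.range (D.nh E)) = ⊤ := by
    refine CfsgLib.Schur.eq_top_of_map_eq_top hstem (top_le_iff.1 ?_)
    rw [← D.gen]
    refine sup_le (fun u hu => ?_) ((Subgroup.closure_le _).2 ?_)
    · obtain ⟨a, ha, rfl⟩ := (E.phat_map D.U_pgroup).ge hu
      exact ⟨a, Subgroup.subset_closure (Or.inl ha), rfl⟩
    · rintro _ ⟨i, rfl⟩
      exact ⟨_, Subgroup.subset_closure (Or.inr ⟨i, rfl⟩), D.nh_val E i⟩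
  intro z hz
  obtain ⟨a, ha, m, hm, b, hb, rfl⟩ := hY z (htop.ge (Subgroup.mem_top z))
  rw [MonoidHom.mem_ker, map_mul, map_mul] at hz
  have hmU : τ m ∈ D.U := by
    rw [show τ m = (τ a)⁻¹ * (τ a * τ m * τ b) * (τ b)⁻¹ by group, hz, mul_one]
    exact mul_mem (inv_mem ha.1) (inv_mem hb.1)
  have hmH := D.inter _ (D.Nh_map E hm) hmU
  have hmh := D.Nh_mem_Hh E hsplit hm hmH
  have hab : IsPEl D.p (b * a) := E.isPEl_mul D.U_pgroup hb.1 ha.1 hb.2 ha.2
  have hba : τ (b * a) = (τ m)⁻¹ := by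
    refine eq_inv_of_mul_eq_one_right ?_
    rw [map_mul]
    calc τ m * (τ b * τ a) = (τ a)⁻¹ * (τ a * τ m * τ b) * τ a := by group
      _ = 1 := by rw [hz, mul_one, inv_mul_cancel]
  have hzc : a * m * b ∈ Subgroup.center Γ :=
    E.central (by rw [MonoidHom.mem_ker, map_mul, map_mul]; exact hz)
  have e : a * m * b = m * (b * a) := by
    calc a * m * b = a⁻¹ * (a * m * b) * a⁻¹⁻¹ := by
          rw [Subgroup.mem_center_iff.1 hzc a⁻¹, mul_inv_cancel_right]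
      _ = _ := by group
  rw [e]
  suffices hone : b * a = 1 by rw [hone, mul_one]; exact hmh
  refine E.lift_unique hab (IsPEl.one _) ?_
  rw [map_one]
  rw [hba, inv_eq_one]
  exact D.H_U_inf _ hmH hmU

end EData

end CfsgLib.Lie.Mult
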