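import Cfsg.Agent.Lib.Lie.Mult.EngineTorus

/-!
# The size of the kernel in terms of the fundamental tori
-/

set_option autoImplicit false

namespace CfsgLib.Lie.Mult

namespace EData

variable {G ι : Type*} [Group G] (D : EData G ι) {Γ : Type*} [Group Γ] [Finite Γ] {τ : Γ →* G}
  (E : Setup τ D.p) (hsplit : ∀ i, D.Lh τ i ⊓ τ.ker = ⊥)
include E hsplit

/-- when the fundamental tori generate the torus, the kernel is bounded by their dependence -/
theorem card_ker_dvd [Fintype ι] (hstem : Cfsg.IsStemExtension τ)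
    (hgen : D.H ≤ ⨆ i, D.H ⊓ (D.X i ⊔ D.Xn i)) :
    Nat.card τ.ker * Nat.card D.H ∣ ∏ i, Nat.card ↥(D.H ⊓ (D.X i ⊔ D.Xn i)) := by
  classical
  haveI : Finite G := Finite.of_surjective τ E.surj
  have hc : Pairwise fun i j => ∀ x y : Γ, x ∈ D.Hi τ i → y ∈ D.Hi τ j → Commute x y :=
    fun i j _ x y hx hy => D.Hi_commute E hsplit hx hy
  have hcG : Pairwise fun i j => ∀ x y : G, x ∈ D.H ⊓ (D.X i ⊔ D.Xn i) →
      y ∈ D.H ⊓ (D.X j ⊔ D.Xn j) → Commute x y :=
    fun i j _ x y hx hy => D.H_comm _ hx.1 _ hy.1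
  let ψ := Subgroup.noncommPiCoprod (H := fun i => D.Hi τ i) hc
  let r : ∀ i, D.Hi τ i →* ↥(D.H ⊓ (D.X i ⊔ D.Xn i)) := fun i =>
    (τ.comp (D.Hi τ i).subtype).codRestrict _ fun x =>
      Subgroup.mem_inf.2 ⟨(Subgroup.mem_inf.1 x.2).2,
        lhat_map_le τ D.p _ (Subgroup.mem_inf.1 x.2).1⟩
  let φ := Subgroup.noncommPiCoprod (H := fun i => D.H ⊓ (D.X i ⊔ D.Xn i)) hcG
  let R : (∀ i, D.Hi τ i) →* ∀ i, ↥(D.H ⊓ (D.X i ⊔ D.Xn i)) :=
    { toFun := fun f i => r i (f i)
      map_one' := funext fun i => map_one (r i)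
      map_mul' := fun f g => funext fun i => map_mul (r i) (f i) (g i) }
  have hR : τ.comp ψ = φ.comp R := by
    refine MonoidHom.pi_ext fun i x => ?_
    have e : R (Pi.mulSingle i x) = Pi.mulSingle i (r i x) := funext fun j => by
      by_cases h : j = i
      · subst h; simp [R]
      · simp [R, Pi.mulSingle_eq_of_ne h]
    simp only [MonoidHom.comp_apply, ψ, φ, e, Subgroup.noncommPiCoprod_mulSingle]
    rfl
  have hRi : Function.Injective R := by
    refine (injective_iff_map_eq_one R).2 fun f hf => funext fun i => Subtype.ext ?_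
    have h : (f i : Γ) ∈ D.Lh τ i ⊓ τ.ker := Subgroup.mem_inf.2
      ⟨(Subgroup.mem_inf.1 (f i).2).1, MonoidHom.mem_ker.2 (congrArg Subtype.val (congrFun hf i))⟩
    rwa [hsplit i, Subgroup.mem_bot] at h
  -- the kernel is an image of the kernel below
  have hsurj : τ.ker ≤ (φ.comp R).ker.map ψ := by
    intro z hz
    have hmem := D.ker_le_Hh E hsplit hstem hz
    rw [Hh, ← Subgroup.noncommPiCoprod_range (hcomm := hc)] at hmem
    obtain ⟨f, rfl⟩ := hmem
    exact ⟨f, by rw [SetLike.mem_coe, MonoidHom.mem_ker, ← hR]; exact hz, rfl⟩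
  have h1 : Nat.card τ.ker ∣ Nat.card φ.ker := by
    refine (Subgroup.card_dvd_of_le hsurj).trans (((φ.comp R).ker.card_map_dvd ψ).trans ?_)
    rw [← MonoidHom.comap_ker]
    exact Subgroup.card_comap_dvd_of_injective φ.ker R hRi
  have h2 : Nat.card D.H ∣ Nat.card φ.range := by
    refine Subgroup.card_dvd_of_le ?_
    rwa [Subgroup.noncommPiCoprod_range]
  rw [← Nat.card_pi, Subgroup.card_eq_card_quotient_mul_card_subgroup φ.ker,
    Nat.card_congr (QuotientGroup.quotientKerEquivRange φ).toEquiv, mul_comm (Nat.card φ.range)]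
  exact mul_dvd_mul h1 h2

end EData

end CfsgLib.Lie.Mult
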