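import Cfsg.Agent.Lib.Lie.Mult.Engine

/-!
# The lifted torus: abelian, and faithful when the fundamental tori are independent
-/

set_option autoImplicit false

namespace CfsgLib.Lie.Mult

open scoped commutatorElement

namespace EData

variable {G ι : Type*} [Group G] (D : EData G ι) {Γ : Type*} [Group Γ] [Finite Γ] {τ : Γ →* G}
  (E : Setup τ D.p) (hsplit : ∀ i, D.Lh τ i ⊓ τ.ker = ⊥)
include E hsplit

theorem Hi_commute {i j : ι} {x y : Γ} (hx : x ∈ D.Hi τ i) (hy : y ∈ D.Hi τ j) : Commute x y := by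
  rw [← commutatorElement_eq_one_iff_commute]
  have hx' := Subgroup.mem_inf.1 hx
  have hy' := Subgroup.mem_inf.1 hy
  have h1 : ⁅x, y⁆ ∈ D.Lh τ j ⊓ τ.ker := by
    refine Subgroup.mem_inf.2 ⟨?_, ?_⟩
    · rw [commutatorElement_def]
      exact mul_mem (D.Lh_conj hx'.2 hy'.1) (inv_mem hy'.1)
    · rw [MonoidHom.mem_ker, map_commutatorElement, commutatorElement_eq_one_iff_commute]
      exact D.H_comm _ hx'.2 _ hy'.2
  rwa [hsplit j, Subgroup.mem_bot] at h1

/-- independent fundamental tori leave no kernel in a stem extension -/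
theorem ker_eq_bot [Fintype ι] (hstem : Cfsg.IsStemExtension τ)
    (hind : iSupIndep fun i => D.H ⊓ (D.X i ⊔ D.Xn i)) : τ.ker = ⊥ := by
  classical
  have hc : Pairwise fun i j => ∀ x y : Γ, x ∈ D.Hi τ i → y ∈ D.Hi τ j → Commute x y :=
    fun i j _ x y hx hy => D.Hi_commute E hsplit hx hy
  have hcG : Pairwise fun i j => ∀ x y : G, x ∈ D.H ⊓ (D.X i ⊔ D.Xn i) →
      y ∈ D.H ⊓ (D.X j ⊔ D.Xn j) → Commute x y :=
    fun i j _ x y hx hy => D.H_comm _ hx.1 _ hy.1
  let ψ := Subgroup.noncommPiCoprod (H := fun i => D.Hi τ i) hc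
  let r : ∀ i, D.Hi τ i →* ↥(D.H ⊓ (D.X i ⊔ D.Xn i)) := fun i =>
    (τ.comp (D.Hi τ i).subtype).codRestrict _ fun x =>
      Subgroup.mem_inf.2 ⟨(Subgroup.mem_inf.1 x.2).2,
        lhat_map_le τ D.p _ (Subgroup.mem_inf.1 x.2).1⟩
  let φ := Subgroup.noncommPiCoprod (H := fun i => D.H ⊓ (D.X i ⊔ D.Xn i)) hcG
  let R : (∀ i, D.Hi τ i) →* ∀ i, ↥(D.H ⊓ (D.X i ⊔ D.Xn i)) :=
    { toFun := fun f i => r i (f i)
      map_one' := funext fun i => map_one (r i)
      map_mul' := fun f g => funext fun i => map_mul (r i) (f i) (g i) }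
  have hR : τ.comp ψ = φ.comp R := by
    refine MonoidHom.pi_ext fun i x => ?_
    have e : R (Pi.mulSingle i x) = Pi.mulSingle i (r i x) := funext fun j => by
      by_cases h : j = i
      · subst h; simp [R]
      · simp [R, Pi.mulSingle_eq_of_ne h]
    simp only [MonoidHom.comp_apply, ψ, φ, e, Subgroup.noncommPiCoprod_mulSingle]
    rfl
  rw [eq_bot_iff]
  intro z hz
  have hmem := D.ker_le_Hh E hsplit hstem hz
  rw [Hh, ← Subgroup.noncommPiCoprod_range (hcomm := hc)] at hmem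
  obtain ⟨f, rfl⟩ := hmem
  have h1 : φ (R f) = 1 := by rw [← MonoidHom.comp_apply, ← hR]; exact hz
  have hinj : Function.Injective φ := Subgroup.injective_noncommPiCoprod_of_iSupIndep hind
  have hf : f = 1 := funext fun i => by
    have h2 : R f i = (1 : ∀ i, ↥(D.H ⊓ (D.X i ⊔ D.Xn i))) i :=
      congrFun (hinj (h1.trans (map_one φ).symm)) i
    have h3 : (f i : Γ) ∈ D.Lh τ i ⊓ τ.ker := Subgroup.mem_inf.2
      ⟨(Subgroup.mem_inf.1 (f i).2).1, MonoidHom.mem_ker.2 (congrArg Subtype.val h2)⟩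
    rw [hsplit i, Subgroup.mem_bot] at h3
    exact Subtype.ext h3
  rw [hf, map_one, Subgroup.mem_bot]

end EData

end CfsgLib.Lie.Mult
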