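import Cfsg.Agent.Lib.Lie.Mult.Suzuki

/-!
# Splitting central extensions of a layered unipotent group

A group generated by layers with a central series is given, together with commuting operators of which
one moves every layer.  Lifts of the layers are built from the top: the commutators with the moving
operator give a normal complement of the kernel at each step, as soon as the pairings between the layers
and the layer in question vanish.
-/

set_option autoImplicit false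
set_option maxHeartbeats 400000

namespace CfsgLib.Lie.Mult.Ladder

open scoped commutatorElement
open CfsgLib.Lie

variable {G : Type*} [Group G]

/-- the subgroup generated by the layers from `k` on -/
def tail (F : ℕ → Set G) (n k : ℕ) : Subgroup G := Subgroup.closure {g | ∃ j, k ≤ j ∧ j < n ∧ g ∈ F j}

theorem normalizer_of_le [Finite G] {H : Subgroup G} {x : G} (h : ∀ w ∈ H, x * w * x⁻¹ ∈ H) :
    x ∈ Subgroup.normalizer (H : Set G) := by
  have hle : H.map (MulAut.conj x).toMonoidHom ≤ H := by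
    rintro _ ⟨w, hw, rfl⟩
    exact h w hw
  have heq := Subgroup.eq_of_le_of_card_ge hle
    (Nat.card_congr (Subgroup.equivMapOfInjective _ _ (MulAut.conj x).injective).toEquiv).le
  refine Subgroup.mem_normalizer_iff.2 fun w => ⟨h w, fun hw => ?_⟩
  rw [← heq] at hw
  obtain ⟨v, hv, e⟩ := hw
  have : v = w := by simpa using e
  exact this ▸ hv

/-- layers with a central series and commuting operators -/
structure Layers (F : ℕ → Set G) (n : ℕ) (Hs : Set G) : Prop where
  comm : ∀ i j, i < n → j < n → ∀ g ∈ F i, ∀ v ∈ F j, ⁅g, v⁆ ∈ tail F n (max i j + 1)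
  Hcomm : ∀ a ∈ Hs, ∀ b ∈ Hs, a * b = b * a
  Hinv : ∀ a ∈ Hs, ∀ j, j < n → ∀ v ∈ F j, a * v * a⁻¹ ∈ tail F n j

variable {F : ℕ → Set G} {n : ℕ} {Hs : Set G}

theorem tail_anti {k l : ℕ} (h : k ≤ l) : tail F n l ≤ tail F n k :=
  Subgroup.closure_mono fun _ ⟨j, hj, hjn, hg⟩ => ⟨j, h.trans hj, hjn, hg⟩

theorem mem_tail {k j : ℕ} (h : k ≤ j) (hj : j < n) {g : G} (hg : g ∈ F j) : g ∈ tail F n k :=
  Subgroup.subset_closure ⟨j, h, hj, hg⟩

theorem tail_top {k : ℕ} (h : n ≤ k) : tail F n k = ⊥ := by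
  rw [tail, Subgroup.closure_eq_bot_iff]
  rintro g ⟨j, hj, hjn, -⟩
  omega

section

variable [Finite G] (D : Layers F n Hs)
include D

theorem U_norm {k : ℕ} {x : G} (hx : x ∈ tail F n 0) : x ∈ Subgroup.normalizer (tail F n k : Set G) := by
  refine (Subgroup.closure_le _).2 ?_ hx
  rintro g ⟨i, -, hin, hg⟩
  refine normalizer_of_le fun w hw => ?_
  refine (Subgroup.closure_le ((tail F n k).comap (MulAut.conj g).toMonoidHom)).2 ?_ hw
  rintro v ⟨j, hj, hjn, hv⟩
  show g * v * g⁻¹ ∈ tail F n k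
  rw [show g * v * g⁻¹ = ⁅g, v⁆ * v by rw [commutatorElement_def]; group]
  exact mul_mem (tail_anti (by omega) (D.comm i j hin hjn g hg v hv)) (mem_tail hj hjn hv)

theorem U_conj {k : ℕ} {x w : G} (hx : x ∈ tail F n 0) (hw : w ∈ tail F n k) : x * w * x⁻¹ ∈ tail F n k :=
  (Subgroup.mem_normalizer_iff.1 (U_norm D hx) w).1 hw

theorem H_conj {k : ℕ} {a w : G} (ha : a ∈ Hs) (hw : w ∈ tail F n k) : a * w * a⁻¹ ∈ tail F n k := by
  refine (Subgroup.closure_le ((tail F n k).comap (MulAut.conj a).toMonoidHom)).2 ?_ hw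
  rintro v ⟨j, hj, hjn, hv⟩
  exact tail_anti hj (D.Hinv a ha j hjn v hv)

theorem comm_tail {k : ℕ} {g v : G} (hg : g ∈ tail F n 0) (hv : v ∈ tail F n k) :
    ⁅g, v⁆ ∈ tail F n (k + 1) := by
  induction hg using Subgroup.closure_induction generalizing v with
  | mem g hgm =>
    obtain ⟨i, -, hin, hgi⟩ := hgm
    induction hv using Subgroup.closure_induction with
    | mem v hvm =>
      obtain ⟨j, hj, hjn, hvj⟩ := hvm
      exact tail_anti (by omega) (D.comm i j hin hjn g hgi v hvj)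
    | one => simp
    | mul a b ha _ iha ihb =>
      rw [show ⁅g, a * b⁆ = ⁅g, a⁆ * (a * ⁅g, b⁆ * a⁻¹) by simp only [commutatorElement_def]; group]
      exact mul_mem iha (U_conj D (tail_anti (Nat.zero_le _) ha) ihb)
    | inv a ha iha =>
      rw [show ⁅g, a⁻¹⁆ = a⁻¹ * ⁅g, a⁆⁻¹ * a⁻¹⁻¹ by simp only [commutatorElement_def]; group]
      exact U_conj D (inv_mem (tail_anti (Nat.zero_le _) ha)) (inv_mem iha)
  | one => simp
  | mul a b ha _ iha ihb =>
    rw [show ⁅a * b, v⁆ = a * ⁅b, v⁆ * a⁻¹ * ⁅a, v⁆ by simp only [commutatorElement_def]; group]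
    exact mul_mem (U_conj D ha (ihb hv)) (iha hv)
  | inv a ha iha =>
    rw [show ⁅a⁻¹, v⁆ = a⁻¹ * ⁅a, v⁆⁻¹ * a⁻¹⁻¹ by simp only [commutatorElement_def]; group]
    exact U_conj D (inv_mem ha) (inv_mem (iha hv))

end

/-- a normal complement of the kernel over a tail -/
structure Lift {P : Type*} [Group P] (p : P →* G) (F : ℕ → Set G) (n : ℕ) (Hs : Set G) (k : ℕ) where
  N : Subgroup P
  img : ∀ x ∈ N, p x ∈ tail F n k
  onto : ∀ g ∈ tail F n k, ∃ x ∈ N, p x = g
  inf : ∀ x ∈ N, p x = 1 → x = 1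
  norm : ∀ a, p a ∈ tail F n 0 ∨ p a ∈ Hs → ∀ x ∈ N, a * x * a⁻¹ ∈ N

variable {P : Type*} [Group P] {p : P →* G} {k : ℕ} (S : Lift p F n Hs (k + 1))

/-- the component in the kernel -/
noncomputable def kp (x : P) : P :=
  open Classical in if h : p x ∈ tail F n (k + 1) then x * (S.onto _ h).choose⁻¹ else 1

theorem kp_ker (x : P) : p (kp S x) = 1 := by
  unfold kp
  split
  · next h => rw [map_mul, map_inv, (S.onto _ h).choose_spec.2, mul_inv_cancel]
  · exact map_one p

theorem kp_spec {x : P} (h : p x ∈ tail F n (k + 1)) : (kp S x)⁻¹ * x ∈ S.N := by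
  unfold kp
  rw [dif_pos h, show (x * (S.onto _ h).choose⁻¹)⁻¹ * x = (S.onto _ h).choose by group]
  exact (S.onto _ h).choose_spec.1

theorem kp_eq {x z : P} (hz : p z = 1) (h : z⁻¹ * x ∈ S.N) : kp S x = z := by
  have hx : p x ∈ tail F n (k + 1) := by
    have := S.img _ h
    rwa [map_mul, map_inv, hz, inv_one, one_mul] at this
  have h1 := mul_mem h (inv_mem (kp_spec S hx))
  rw [show z⁻¹ * x * ((kp S x)⁻¹ * x)⁻¹ = z⁻¹ * kp S x by group] at h1
  exact (inv_mul_eq_one.1 (S.inf _ h1 (by rw [map_mul, map_inv, hz, kp_ker, inv_one, one_mul]))).symm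

theorem kp_of_mem {x : P} (h : x ∈ S.N) : kp S x = 1 := kp_eq S (map_one p) (by rwa [inv_one, one_mul])

theorem mem_of_kp {x : P} (h : p x ∈ tail F n (k + 1)) (e : kp S x = 1) : x ∈ S.N := by
  have := kp_spec S h
  rwa [e, inv_one, one_mul] at this

variable (hc : p.ker ≤ Subgroup.center P)
include hc

theorem kp_central (x : P) (g : P) : g * kp S x * g⁻¹ = kp S x :=
  SLUniv.central_of_eq_one hc (kp_ker S x) g

theorem kp_mem_center (x : P) : kp S x ∈ Subgroup.center P := hc (kp_ker S x)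

theorem kp_mul {x y : P} (hx : p x ∈ tail F n (k + 1)) (hy : p y ∈ tail F n (k + 1)) :
    kp S (x * y) = kp S x * kp S y := by
  refine kp_eq S (by rw [map_mul, kp_ker, kp_ker, one_mul]) ?_
  have e := Subgroup.mem_center_iff.1 (inv_mem (kp_mem_center S hc y)) ((kp S x)⁻¹ * x)
  have : (kp S x * kp S y)⁻¹ * (x * y) = ((kp S x)⁻¹ * x) * ((kp S y)⁻¹ * y) := by
    calc _ = (kp S y)⁻¹ * ((kp S x)⁻¹ * x) * y := by group
      _ = ((kp S x)⁻¹ * x) * (kp S y)⁻¹ * y := by rw [e]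
      _ = _ := by group
  rw [this]
  exact mul_mem (kp_spec S hx) (kp_spec S hy)

theorem kp_conj {x a : P} (ha : p a ∈ tail F n 0 ∨ p a ∈ Hs) (hx : p x ∈ tail F n (k + 1)) :
    kp S (a * x * a⁻¹) = kp S x := by
  refine kp_eq S (kp_ker S x) ?_
  have := S.norm a ha _ (kp_spec S hx)
  rwa [show a * ((kp S x)⁻¹ * x) * a⁻¹ = (a * (kp S x)⁻¹ * a⁻¹) * (a * x * a⁻¹) by group,
    SLUniv.central_of_eq_one hc (by rw [map_inv, kp_ker, inv_one]) a] at this

variable [Finite G] (D : Layers F n Hs)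
include D

omit hc in
theorem comm_img {a e : P} (ha : p a ∈ tail F n 0) (he : p e ∈ tail F n k) :
    p ⁅a, e⁆ ∈ tail F n (k + 1) := by rw [map_commutatorElement]; exact comm_tail D ha he

theorem pair_right {a e e' : P} (ha : p a ∈ tail F n 0) (he : p e ∈ tail F n k) (he' : p e' ∈ tail F n k) :
    kp S ⁅a, e * e'⁆ = kp S ⁅a, e⁆ * kp S ⁅a, e'⁆ := by
  rw [show ⁅a, e * e'⁆ = ⁅a, e⁆ * (e * ⁅a, e'⁆ * e⁻¹) by simp only [commutatorElement_def]; group,
    kp_mul S hc (comm_img D ha he) (by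
      rw [map_mul, map_mul, map_inv]
      exact U_conj D (tail_anti (Nat.zero_le _) he) (comm_img D ha he')),
    kp_conj S hc (Or.inl (tail_anti (Nat.zero_le _) he)) (comm_img D ha he')]

theorem pair_left {a a' e : P} (ha : p a ∈ tail F n 0) (ha' : p a' ∈ tail F n 0) (he : p e ∈ tail F n k) :
    kp S ⁅a * a', e⁆ = kp S ⁅a, e⁆ * kp S ⁅a', e⁆ := by
  rw [show ⁅a * a', e⁆ = a * ⁅a', e⁆ * a⁻¹ * ⁅a, e⁆ by simp only [commutatorElement_def]; group,
    kp_mul S hc (by
      rw [map_mul, map_mul, map_inv]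
      exact U_conj D ha (comm_img D ha' he)) (comm_img D ha he),
    kp_conj S hc (Or.inl ha) (comm_img D ha' he)]
  exact (Subgroup.mem_center_iff.1 (kp_mem_center S hc _) _)

omit D [Finite G] in
theorem pair_lift_right {a e : P} (ha : p a ∈ tail F n 0 ∨ p a ∈ Hs) (he : p e ∈ tail F n (k + 1)) :
    ⁅a, e⁆ ∈ S.N := by
  obtain ⟨x, hx, ex⟩ := S.onto _ he
  rw [SLUniv.comm_congr hc (rfl : p a = p a) ex.symm, commutatorElement_def]
  exact mul_mem (S.norm a ha x hx) (inv_mem hx)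

omit D [Finite G] in
theorem pair_lift_left {a e : P} (he : p e ∈ tail F n 0) (ha : p a ∈ tail F n (k + 1)) : ⁅a, e⁆ ∈ S.N := by
  rw [← commutatorElement_inv]
  exact inv_mem (pair_lift_right S hc (Or.inl he) ha)

/-- an operator fixing an element kills its pairing with the layer it moves -/
theorem crux_fix {L : G → P} (hL : ∀ g, p (L g) = g) {g h : G} (hg : g ∈ tail F n 0) (hh : h ∈ Hs)
    (hgh : h * g = g * h) (hk : k < n) (hmove : ∀ v ∈ F k, ∃ w ∈ tail F n k, ⁅h, w⁆⁻¹ * v ∈ tail F n (k + 1)) :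
    ∀ v ∈ F k, ⁅L g, L v⁆ ∈ S.N := by
  intro v hv
  have hvk : v ∈ tail F n k := mem_tail le_rfl hk hv
  refine mem_of_kp S (comm_img D (by rwa [hL]) (by rwa [hL])) ?_
  obtain ⟨w, hw, hwv⟩ := hmove v hv
  have hga : p (L g) ∈ tail F n 0 := by rwa [hL]
  have hcw : p (L h * L w * (L h)⁻¹) ∈ tail F n k := by
    rw [map_mul, map_mul, map_inv, hL, hL]; exact H_conj D hh hw
  have hinv : kp S ⁅L g, L h * L w * (L h)⁻¹⁆ = kp S ⁅L g, L w⁆ := by
    have hwp : p (L w) ∈ tail F n k := by rwa [hL]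
    rw [← kp_conj S hc (x := ⁅L g, L w⁆) (a := L h) (Or.inr (by rwa [hL])) (comm_img D hga hwp)]
    congr 1
    rw [conjugate_commutatorElement]
    refine SLUniv.comm_congr hc ?_ rfl
    rw [map_mul, map_mul, map_inv, hL, hL, hgh, mul_inv_cancel_right]
  have hcomm : kp S ⁅L g, ⁅L h, L w⁆⁆ = 1 := by
    rw [show ⁅L h, L w⁆ = L h * L w * (L h)⁻¹ * (L w)⁻¹ from commutatorElement_def _ _,
      pair_right S hc D hga hcw (by rw [map_inv, hL]; exact inv_mem hw), hinv,
      ← pair_right S hc D hga (by rwa [hL]) (by rw [map_inv, hL]; exact inv_mem hw), mul_inv_cancel,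
      commutatorElement_one_right, kp_of_mem S (one_mem _)]
  have hc2 : p ⁅L h, L w⁆ ∈ tail F n k := by
    rw [map_commutatorElement, hL, hL, commutatorElement_def]
    exact mul_mem (H_conj D hh hw) (inv_mem hw)
  have hr : p (⁅L h, L w⁆⁻¹ * L v) ∈ tail F n (k + 1) := by
    rw [map_mul, map_inv, map_commutatorElement, hL, hL, hL]; exact hwv
  rw [show ⁅L g, L v⁆ = ⁅L g, ⁅L h, L w⁆ * (⁅L h, L w⁆⁻¹ * L v)⁆ by rw [mul_inv_cancel_left],
    pair_right S hc D hga hc2 (tail_anti (Nat.le_succ _) hr), hcomm, one_mul,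
    kp_of_mem S (pair_lift_right S hc (Or.inl hga) hr)]

/-- a layer with all scalars does not pair with itself -/
theorem crux_self {L : G → P} (hL : ∀ g, p (L g) = g) {K : Type*} [Field K] [Fintype K]
    (hq : 4 < Fintype.card K) {f : K → G} (hf : ∀ x, f x ∈ tail F n k)
    (hadd : ∀ x y, (f (x + y))⁻¹ * (f x * f y) ∈ tail F n (k + 1))
    (hscal : ∀ c : K, c ≠ 0 → ∃ h ∈ Hs, ∀ x, (f (c * x))⁻¹ * (h * f x * h⁻¹) ∈ tail F n (k + 1))
    (t u : K) : ⁅L (f t), L (f u)⁆ ∈ S.N := by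
  have h0 : ∀ x, p (L (f x)) ∈ tail F n 0 := fun x => by rw [hL]; exact tail_anti (Nat.zero_le _) (hf x)
  have hk : ∀ x, p (L (f x)) ∈ tail F n k := fun x => by rw [hL]; exact hf x
  have congR : ∀ {a e e' : P}, p a ∈ tail F n 0 → p e ∈ tail F n k → p (e⁻¹ * e') ∈ tail F n (k + 1) →
      kp S ⁅a, e'⁆ = kp S ⁅a, e⁆ := fun {a e e'} ha he hd => by
    rw [show e' = e * (e⁻¹ * e') by group, pair_right S hc D ha he (tail_anti (Nat.le_succ _) hd),
      kp_of_mem S (pair_lift_right S hc (Or.inl ha) hd), mul_one]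
  have congL : ∀ {a a' e : P}, p a ∈ tail F n k → p e ∈ tail F n k → p (a⁻¹ * a') ∈ tail F n (k + 1) →
      kp S ⁅a', e⁆ = kp S ⁅a, e⁆ := fun {a a' e} ha he hd => by
    rw [show a' = a * (a⁻¹ * a') by group, pair_left S hc D (tail_anti (Nat.zero_le _) ha)
      (tail_anti (Nat.zero_le _) hd) he,
      kp_of_mem S (pair_lift_left S hc (tail_anti (Nat.zero_le _) he) hd), mul_one]
  refine mem_of_kp S (comm_img D (h0 t) (hk u)) ?_
  refine pairing_eq_one (f := fun t u => kp S ⁅L (f t), L (f u)⁆) hq (fun _ _ => kp_mem_center S hc _) ?_ ?_ ?_ t u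
  · intro t t' u
    show kp S ⁅L (f (t + t')), L (f u)⁆ = _
    rw [← pair_left S hc D (h0 t) (h0 t') (hk u)]
    refine (congL (hk _) (hk u) ?_).symm
    rw [map_mul, map_inv, map_mul, hL, hL, hL]; exact hadd t t'
  · intro t u u'
    show kp S ⁅L (f t), L (f (u + u'))⁆ = _
    rw [← pair_right S hc D (h0 t) (hk u) (hk u')]
    refine (congR (h0 t) (hk _) ?_).symm
    rw [map_mul, map_inv, map_mul, hL, hL, hL]; exact hadd u u'
  · intro c hc' t u
    obtain ⟨h, hh, he⟩ := hscal c hc'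
    have hconj : ∀ x, p (L h * L (f x) * (L h)⁻¹) ∈ tail F n k := fun x => by
      rw [map_mul, map_mul, map_inv, hL, hL]; exact H_conj D hh (hf x)
    have hd : ∀ x, p ((L (f (c * x)))⁻¹ * (L h * L (f x) * (L h)⁻¹)) ∈ tail F n (k + 1) := fun x => by
      rw [map_mul, map_inv, map_mul, map_mul, map_inv, hL, hL, hL]; exact he x
    show kp S ⁅L (f (c * t)), L (f (c * u))⁆ = kp S ⁅L (f t), L (f u)⁆
    rw [← kp_conj S hc (a := L h) (Or.inr (by rwa [hL])) (comm_img D (h0 t) (hk u)),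
      conjugate_commutatorElement, congL (hk (c * t)) (hconj u) (hd t), congR (h0 (c * t)) (hk (c * u)) (hd u)]

/-- the next lift -/
theorem step {L : G → P} (hL : ∀ g, p (L g) = g) [Finite P] (hk : k < n) {h : G} (hh : h ∈ Hs)
    (hmove : ∀ v ∈ F k, ∃ w ∈ tail F n k, ⁅h, w⁆⁻¹ * v ∈ tail F n (k + 1))
    (crux : ∀ i, i ≤ k → ∀ g ∈ F i, ∀ v ∈ F k, ⁅L g, L v⁆ ∈ S.N) : Nonempty (Lift p F n Hs k) := by
  -- all pairings with the layer are trivial
  have hall : ∀ a e, p a ∈ tail F n 0 → p e ∈ tail F n k → ⁅a, e⁆ ∈ S.N := by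
    intro a e ha he
    refine mem_of_kp S (comm_img D ha he) ?_
    have key : ∀ g ∈ tail F n 0, ∀ v ∈ tail F n k, kp S ⁅L g, L v⁆ = 1 := by
      intro g hg
      induction hg using Subgroup.closure_induction with
      | mem g hgm =>
        obtain ⟨i, -, hin, hgi⟩ := hgm
        intro v hv
        have hg0 : p (L g) ∈ tail F n 0 := by rw [hL]; exact mem_tail (Nat.zero_le _) hin hgi
        induction hv using Subgroup.closure_induction with
        | mem v hvm =>
          obtain ⟨j, hj, hjn, hvj⟩ := hvm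
          refine kp_of_mem S ?_
          rcases eq_or_lt_of_le hj with rfl | hlt
          · rcases Nat.lt_or_ge k i with hi | hi
            · exact pair_lift_left S hc (by rw [hL]; exact mem_tail (Nat.zero_le _) hjn hvj)
                (by rw [hL]; exact mem_tail hi hin hgi)
            · exact crux i hi g hgi v hvj
          · exact pair_lift_right S hc (Or.inl hg0) (by rw [hL]; exact mem_tail hlt hjn hvj)
        | one =>
          rw [SLUniv.comm_congr hc (rfl : p (L g) = p (L g)) (show p (L 1) = p 1 by rw [hL, map_one]),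
            commutatorElement_one_right, kp_of_mem S (one_mem _)]
        | mul x y hx hy ihx ihy =>
          rw [SLUniv.comm_congr hc (rfl : p (L g) = p (L g))
            (show p (L (x * y)) = p (L x * L y) by rw [map_mul, hL, hL, hL]),
            pair_right S hc D hg0 (by rw [hL]; exact hx) (by rw [hL]; exact hy), ihx, ihy, one_mul]
        | inv x hx ihx =>
          have := pair_right S hc D hg0 (e := L x) (e' := L x⁻¹) (by rw [hL]; exact hx)
            (by rw [hL]; exact inv_mem hx)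
          rw [SLUniv.comm_congr hc (rfl : p (L g) = p (L g))
            (show p (L x * L x⁻¹) = p 1 by rw [map_mul, hL, hL, mul_inv_cancel, map_one]),
            commutatorElement_one_right, kp_of_mem S (one_mem _), ihx, one_mul] at this
          exact this.symm
      | one =>
        intro v _
        rw [SLUniv.comm_congr hc (show p (L 1) = p 1 by rw [hL, map_one]) (rfl : p (L v) = p (L v)),
          commutatorElement_one_left, kp_of_mem S (one_mem _)]
      | mul x y hx hy ihx ihy =>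
        intro v hv
        rw [SLUniv.comm_congr hc (show p (L (x * y)) = p (L x * L y) by rw [map_mul, hL, hL, hL])
          (rfl : p (L v) = p (L v)), pair_left S hc D (by rw [hL]; exact hx) (by rw [hL]; exact hy)
          (by rw [hL]; exact hv), ihx v hv, ihy v hv, one_mul]
      | inv x hx ihx =>
        intro v hv
        have := pair_left S hc D (a := L x) (a' := L x⁻¹) (e := L v) (by rw [hL]; exact hx)
          (by rw [hL]; exact inv_mem hx) (by rw [hL]; exact hv)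
        rw [SLUniv.comm_congr hc (show p (L x * L x⁻¹) = p 1 by rw [map_mul, hL, hL, mul_inv_cancel, map_one])
          (rfl : p (L v) = p (L v)), commutatorElement_one_left, kp_of_mem S (one_mem _), ihx v hv,
          one_mul] at this
        exact this.symm
    rw [SLUniv.comm_congr hc (hL (p a)).symm (hL (p e)).symm]
    exact key _ ha _ he
  have hcw : ∀ e, p e ∈ tail F n k → p ⁅L h, e⁆ ∈ tail F n k := fun e he => by
    rw [map_commutatorElement, hL, commutatorElement_def]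
    exact mul_mem (H_conj D hh he) (inv_mem he)
  have h0 : ∀ e, p e ∈ tail F n k → p e ∈ tail F n 0 := fun e he => tail_anti (Nat.zero_le _) he
  have hN0 : ∀ x ∈ S.N, p x ∈ tail F n 0 := fun x hx => tail_anti (Nat.zero_le _) (S.img x hx)
  -- conjugation by the layer moves the commutators with the operator inside the lift
  have hconj : ∀ e e', p e ∈ tail F n k → p e' ∈ tail F n k →
      (⁅L h, e⁆ * ⁅L h, e'⁆)⁻¹ * ⁅L h, e * e'⁆ ∈ S.N := fun e e' he he' => by
    rw [show (⁅L h, e⁆ * ⁅L h, e'⁆)⁻¹ * ⁅L h, e * e'⁆ = ⁅L h, e'⁆⁻¹ * ⁅e, ⁅L h, e'⁆⁆ * ⁅L h, e'⁆⁻¹⁻¹ by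
      simp only [commutatorElement_def]; group]
    refine S.norm _ (Or.inl ?_) _ (hall _ _ (h0 e he) (hcw e' he'))
    rw [map_inv]; exact inv_mem (h0 _ (hcw e' he'))
  let M : Subgroup P :=
    { carrier := {x | ∃ e, p e ∈ tail F n k ∧ ⁅L h, e⁆⁻¹ * x ∈ S.N}
      one_mem' := ⟨1, by rw [map_one]; exact one_mem _, by simp⟩
      mul_mem' := by
        rintro x y ⟨e, he, hx⟩ ⟨e', he', hy⟩
        refine ⟨e * e', by rw [map_mul]; exact mul_mem he he', ?_⟩
        rw [show ⁅L h, e * e'⁆⁻¹ * (x * y) = ((⁅L h, e⁆ * ⁅L h, e'⁆)⁻¹ * ⁅L h, e * e'⁆)⁻¹ *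
            (⁅L h, e'⁆⁻¹ * (⁅L h, e⁆⁻¹ * x) * ⁅L h, e'⁆⁻¹⁻¹ * (⁅L h, e'⁆⁻¹ * y)) by group]
        refine mul_mem (inv_mem (hconj e e' he he')) (mul_mem (S.norm _ (Or.inl ?_) _ hx) hy)
        rw [map_inv]; exact inv_mem (h0 _ (hcw e' he'))
      inv_mem' := by
        rintro x ⟨e, he, hx⟩
        refine ⟨e⁻¹, by rw [map_inv]; exact inv_mem he, ?_⟩
        have h1 := hconj e e⁻¹ he (by rw [map_inv]; exact inv_mem he)
        rw [mul_inv_cancel, commutatorElement_one_right, mul_one] at h1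
        rw [show ⁅L h, e⁻¹⁆⁻¹ * x⁻¹ = (⁅L h, e⁆ * ⁅L h, e⁻¹⁆)⁻¹ * (⁅L h, e⁆ * (⁅L h, e⁆⁻¹ * x)⁻¹ * ⁅L h, e⁆⁻¹) by
          group]
        exact mul_mem h1 (S.norm _ (Or.inl (h0 _ (hcw e he))) _ (inv_mem hx)) }
  have himg : ∀ x ∈ M, p x ∈ tail F n k := by
    rintro x ⟨e, he, hx⟩
    rw [show x = ⁅L h, e⁆ * (⁅L h, e⁆⁻¹ * x) by group, map_mul]
    exact mul_mem (hcw e he) (tail_anti (Nat.le_succ _) (S.img _ hx))
  have hNM : S.N ≤ M := fun x hx => ⟨1, by rw [map_one]; exact one_mem _, by simpa using hx⟩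
  have honto : ∀ g ∈ tail F n k, ∃ x ∈ M, p x = g := by
    intro g hg
    induction hg using Subgroup.closure_induction with
    | mem v hvm =>
      obtain ⟨j, hj, hjn, hv⟩ := hvm
      rcases eq_or_lt_of_le hj with rfl | hlt
      · obtain ⟨w, hw, hwv⟩ := hmove v hv
        obtain ⟨y, hy, ey⟩ := S.onto _ hwv
        refine ⟨⁅L h, L w⁆ * y, ⟨L w, by rwa [hL], by rwa [inv_mul_cancel_left]⟩, ?_⟩
        rw [map_mul, map_commutatorElement, hL, hL, ey, mul_inv_cancel_left]
      · obtain ⟨y, hy, ey⟩ := S.onto v (mem_tail hlt hjn hv)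
        exact ⟨y, hNM hy, ey⟩
    | one => exact ⟨1, one_mem _, map_one p⟩
    | mul a b _ _ iha ihb =>
      obtain ⟨x, hx, rfl⟩ := iha
      obtain ⟨y, hy, rfl⟩ := ihb
      exact ⟨x * y, mul_mem hx hy, map_mul p x y⟩
    | inv a _ iha =>
      obtain ⟨x, hx, rfl⟩ := iha
      exact ⟨x⁻¹, inv_mem hx, map_inv p x⟩
  -- the operator is injective modulo the next tail
  let Q := ↥(tail F n k) ⧸ (tail F n (k + 1)).subgroupOf (tail F n k)
  let ψ : Q → Q := Quotient.lift
    (fun v : ↥(tail F n k) => (QuotientGroup.mk (⟨⁅h, (v : G)⁆, by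
      rw [commutatorElement_def]; exact mul_mem (H_conj D hh v.2) (inv_mem v.2)⟩ : ↥(tail F n k)) : Q))
    (fun v v' hvv => by
      have hd : (v : G)⁻¹ * (v' : G) ∈ tail F n (k + 1) := Subgroup.mem_subgroupOf.1 (QuotientGroup.leftRel_apply.1 hvv)
      refine QuotientGroup.eq.2 (Subgroup.mem_subgroupOf.2 ?_)
      show ⁅h, (v : G)⁆⁻¹ * ⁅h, (v' : G)⁆ ∈ tail F n (k + 1)
      rw [show ⁅h, (v : G)⁆⁻¹ * ⁅h, (v' : G)⁆ =
        (v : G) * (h * ((v : G)⁻¹ * v') * h⁻¹ * ((v : G)⁻¹ * v')⁻¹) * (v : G)⁻¹ by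
          simp only [commutatorElement_def]; group]
      exact U_conj D (tail_anti (Nat.zero_le _) v.2) (mul_mem (H_conj D hh hd) (inv_mem hd)))
  have hsurj : Function.Surjective ψ := by
    rintro ⟨v⟩
    obtain ⟨x, ⟨e, he, hx⟩, ex⟩ := honto v v.2
    refine ⟨QuotientGroup.mk ⟨p e, he⟩, QuotientGroup.eq.2 (Subgroup.mem_subgroupOf.2 ?_)⟩
    show ⁅h, p e⁆⁻¹ * (v : G) ∈ tail F n (k + 1)
    have := S.img _ hx
    rwa [map_mul, map_inv, map_commutatorElement, hL, ex] at this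
  have hinj : Function.Injective ψ := Finite.injective_iff_surjective.2 hsurj
  refine ⟨⟨M, himg, honto, ?_, ?_⟩⟩
  · rintro x ⟨e, he, hx⟩ hx1
    have hd : ⁅h, p e⁆ ∈ tail F n (k + 1) := by
      have := S.img _ hx
      rw [map_mul, map_inv, map_commutatorElement, hL, hx1, mul_one] at this
      exact inv_mem_iff.1 this
    have he1 : p e ∈ tail F n (k + 1) := by
      have h1 : ψ (QuotientGroup.mk ⟨p e, he⟩) = ψ (QuotientGroup.mk 1) := by
        refine QuotientGroup.eq.2 (Subgroup.mem_subgroupOf.2 ?_)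
        show ⁅h, p e⁆⁻¹ * ⁅h, (1 : G)⁆ ∈ tail F n (k + 1)
        rw [commutatorElement_one_right, mul_one]
        exact inv_mem hd
      have h2 := Subgroup.mem_subgroupOf.1 (QuotientGroup.eq.1 (hinj h1))
      simpa using h2
    have hm := mul_mem (pair_lift_right S hc (a := L h) (Or.inr (by rwa [hL])) he1) hx
    rw [mul_inv_cancel_left] at hm
    exact S.inf x hm hx1
  · rintro a (ha | ha) x hxM
    · obtain ⟨e, he, hx⟩ := hxM
      refine ⟨e, he, ?_⟩
      have hx' := himg x ⟨e, he, hx⟩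
      rw [show a * x * a⁻¹ = ⁅a, x⁆ * x by simp only [commutatorElement_def]; group,
        show ⁅L h, e⁆⁻¹ * (⁅a, x⁆ * x) = ⁅L h, e⁆⁻¹ * ⁅a, x⁆ * ⁅L h, e⁆⁻¹⁻¹ * (⁅L h, e⁆⁻¹ * x) by group]
      refine mul_mem (S.norm _ (Or.inl ?_) _ (hall a x ha hx')) hx
      rw [map_inv]; exact inv_mem (h0 _ (hcw e he))
    · obtain ⟨e, he, hx⟩ := hxM
      refine ⟨a * e * a⁻¹, by rw [map_mul, map_mul, map_inv]; exact H_conj D ha he, ?_⟩
      have e1 : ⁅L h, a * e * a⁻¹⁆ = a * ⁅L h, e⁆ * a⁻¹ := by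
        rw [conjugate_commutatorElement]
        refine SLUniv.comm_congr hc ?_ rfl
        rw [map_mul, map_mul, map_inv, hL, D.Hcomm (p a) ha h hh, mul_inv_cancel_right]
      rw [e1, show (a * ⁅L h, e⁆ * a⁻¹)⁻¹ * (a * x * a⁻¹) = a * (⁅L h, e⁆⁻¹ * x) * a⁻¹ by group]
      exact S.norm a (Or.inr ha) _ hx

omit S in
/-- no kernel element in the derived group of the preimage -/
theorem inter [Finite P] {L : G → P} (hL : ∀ g, p (L g) = g)
    (hmove : ∀ k, k < n → ∃ h ∈ Hs, ∀ v ∈ F k, ∃ w ∈ tail F n k, ⁅h, w⁆⁻¹ * v ∈ tail F n (k + 1))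
    (crux : ∀ k, k < n → ∀ S : Lift p F n Hs (k + 1), ∀ i, i ≤ k → ∀ g ∈ F i, ∀ v ∈ F k, ⁅L g, L v⁆ ∈ S.N)
    {z : P} (hz : z ∈ p.ker) (hz' : z ∈ ⁅(tail F n 0).comap p, (tail F n 0).comap p⁆) : z = 1 := by
  have all : ∀ j, j ≤ n → Nonempty (Lift p F n Hs (n - j)) := by
    intro j
    induction j with
    | zero =>
      intro _
      refine ⟨⟨⊥, fun x hx => ?_, fun g hg => ⟨1, one_mem _, ?_⟩, fun x hx _ => Subgroup.mem_bot.1 hx,
        fun a _ x hx => ?_⟩⟩
      · rw [Subgroup.mem_bot.1 hx, map_one]; exact one_mem _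
      · rw [Nat.sub_zero, tail_top le_rfl, Subgroup.mem_bot] at hg
        rw [map_one, hg]
      · rw [Subgroup.mem_bot] at hx ⊢
        rw [hx, mul_one, mul_inv_cancel]
    | succ j ih =>
      intro hj
      obtain ⟨T⟩ := ih (Nat.le_of_succ_le hj)
      obtain ⟨k, hk⟩ : ∃ k, n - j = k + 1 := ⟨n - j - 1, by omega⟩
      rw [hk] at T
      obtain ⟨h, hh, hm⟩ := hmove k (by omega)
      rw [show n - (j + 1) = k by omega]
      exact step T hc D hL (by omega) hh hm (crux k (by omega) T)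
  obtain ⟨T⟩ := all n le_rfl
  rw [Nat.sub_self] at T
  refine T.inf z ?_ hz
  refine (Subgroup.commutator_le.2 fun a ha b hb => ?_ : ⁅(tail F n 0).comap p, (tail F n 0).comap p⁆ ≤ T.N) hz'
  obtain ⟨x, hx, ex⟩ := T.onto _ ha
  obtain ⟨y, hy, ey⟩ := T.onto _ hb
  rw [SLUniv.comm_congr hc ex.symm ey.symm, commutatorElement_def]
  exact mul_mem (mul_mem (mul_mem hx hy) (inv_mem hx)) (inv_mem hy)

omit S D [Finite G] in
/-- commuting elements, the second moved by an operator fixing the first, have commuting lifts -/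
theorem commute_of_scaled {L : G → P} (hL : ∀ g, p (L g) = g) {K : Type*} [Field K] {g h : G} {b : K → G}
    (hb : ∀ x y, b (x + y) = b x * b y) (hgb : ∀ x, g * b x = b x * g) (hgh : h * g = g * h) {l : K}
    (hl : l ≠ 1) (hhb : ∀ x, h * b x * h⁻¹ = b (l * x)) (x : K) : Commute (L g) (L (b x)) := by
  have hcen : ∀ x, ⁅L g, L (b x)⁆ ∈ Subgroup.center P := fun x =>
    SLUniv.comm_central hc (by rw [hL, hL]; exact hgb x)
  have hadd : ∀ x y, ⁅L g, L (b (x + y))⁆ = ⁅L g, L (b x)⁆ * ⁅L g, L (b y)⁆ := fun x y => by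
    rw [SLUniv.comm_congr hc (rfl : p (L g) = p (L g))
      (show p (L (b (x + y))) = p (L (b x) * L (b y)) by rw [map_mul, hL, hL, hL, hb]),
      show ⁅L g, L (b x) * L (b y)⁆ = ⁅L g, L (b x)⁆ * (L (b x) * ⁅L g, L (b y)⁆ * (L (b x))⁻¹) by
        simp only [commutatorElement_def]; group,
      Subgroup.mem_center_iff.1 (hcen y) (L (b x)), mul_inv_cancel_right]
  have hinv : ∀ x, ⁅L g, L (b (l * x))⁆ = ⁅L g, L (b x)⁆ := fun x => by
    rw [← SLUniv.central_of_eq_one hc (z := ⁅L g, L (b x)⁆)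
      (by rw [map_commutatorElement, hL, hL, commutatorElement_eq_one_iff_mul_comm]; exact hgb x) (L h),
      conjugate_commutatorElement]
    refine SLUniv.comm_congr hc ?_ ?_
    · rw [map_mul, map_mul, map_inv, hL, hL, hgh, mul_inv_cancel_right]
    · rw [map_mul, map_mul, map_inv, hL, hL, hL, hhb]
  refine commutatorElement_eq_one_iff_commute.1 ?_
  have hx : x = (l - 1) * (x / (l - 1)) := by field_simp [sub_ne_zero.2 hl]
  have h2 := hadd ((l - 1) * (x / (l - 1))) (x / (l - 1))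
  rw [show (l - 1) * (x / (l - 1)) + x / (l - 1) = l * (x / (l - 1)) by ring, hinv] at h2
  rw [hx]
  exact right_eq_mul.1 h2

end CfsgLib.Lie.Mult.Ladder
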