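import Cfsg.Agent.Lib.PGroup.StemExtension
import Mathlib.GroupTheory.GroupAction.Quotient

/-!
# Multipliers through point stabilisers

A group acts transitively on a set with perfect point stabilisers.  In a stem extension the derived group of
the preimage of a stabiliser carries lifts of the stabiliser, unique up to the part of the kernel it contains.
If lifts seen from two points agree and the midpoints of a point and the base point are connected, the covering
set has an invariant section, so the kernel lies in the lift of one stabiliser.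
-/

set_option autoImplicit false

namespace CfsgLib.Lie.Mult.StabStep

open scoped commutatorElement
open MulAction (stabilizer)

variable {G X : Type*} [Group G] [MulAction G X]

variable (G) in
/-- the stabiliser of two points -/
abbrev J (u v : X) : Subgroup G := stabilizer G u ⊓ stabilizer G v

variable (G) in
/-- the stabiliser of two points is perfect -/
def PP (u v : X) : Prop := J G u v ≤ ⁅J G u v, J G u v⁆

variable (G) in
/-- elements of a two point stabiliser whose lifts are seen to agree -/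
def good (u v : X) : Set G :=
  {k | k ∈ ⁅J G u v, J G u v⁆ ∨ (k ∈ J G u v ∧ ∃ z, PP G u z ∧ PP G z v ∧ k ∈ stabilizer G z)}

/-- the conditions on the action; `M x w` says that `w` is a midpoint of the base point `a` and `x` -/
structure Geo (G : Type*) {X : Type*} [Group G] [MulAction G X] (M : X → X → Prop) (a : X) : Prop where
  trans : ∀ x, ∃ g : G, g • a = x
  perf : stabilizer G a ≤ ⁅stabilizer G a, stabilizer G a⁆
  agree : ∀ u v : X, J G u v ≤ Subgroup.closure (good G u v)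
  exists_mid : ∀ x, ∃ w, M x w
  move : ∀ x w, M x w → ∃ g ∈ stabilizer G w, g • a = x
  mid_stab : ∀ (g : G) x w, g ∈ stabilizer G w → M x w → M (g • x) w
  mid_base : ∀ (g : G) x w, g ∈ stabilizer G a → M x w → M (g • x) (g • w)
  conn : ∀ x w w', M x w → M x w' →
    Relation.ReflTransGen (fun u v => M x v ∧ ∃ g ∈ J G u v, g • a = x) w w'
  gen : ∃ k : G, Subgroup.closure ((stabilizer G a : Set G) ∪ {k}) = ⊤ ∧
    ∀ x, ∃ w, M x w ∧ k ∈ stabilizer G w

variable {M : X → X → Prop} {a : X} (H : Geo G M a) {Γ : Type*} [Group Γ] {τ : Γ →* G}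

/-- the lift of a stabiliser -/
def D (τ : Γ →* G) (x : X) : Subgroup Γ :=
  ⁅(stabilizer G x).comap τ, (stabilizer G x).comap τ⁆

theorem D_le (x : X) : D τ x ≤ (stabilizer G x).comap τ := by
  rw [D, Subgroup.commutator_le]
  intro g hg h hh
  rw [commutatorElement_def]
  exact mul_mem (mul_mem (mul_mem hg hh) (inv_mem hg)) (inv_mem hh)

theorem D_conj (γ : Γ) {x : X} {d : Γ} (hd : d ∈ D τ x) : γ * d * γ⁻¹ ∈ D τ (τ γ • x) := by
  have hle : ((stabilizer G x).comap τ).map (MulAut.conj γ).toMonoidHom ≤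
      (stabilizer G (τ γ • x)).comap τ := by
    rintro _ ⟨b, hb, rfl⟩
    show τ (γ * b * γ⁻¹) ∈ stabilizer G (τ γ • x)
    rw [MulAction.mem_stabilizer_iff, map_mul, map_mul, map_inv, mul_smul, mul_smul, inv_smul_smul,
      MulAction.mem_stabilizer_iff.1 (show τ b ∈ stabilizer G x from hb)]
  have h1 : ((D τ x).map (MulAut.conj γ).toMonoidHom) ≤ D τ (τ γ • x) := by
    rw [D, Subgroup.map_commutator]
    exact Subgroup.commutator_mono hle hle
  exact h1 ⟨d, hd, rfl⟩

theorem exists_mem (hτ : Function.Surjective τ) {S : Subgroup G} {g : G} (hg : g ∈ ⁅S, S⁆) :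
    ∃ d ∈ ⁅S.comap τ, S.comap τ⁆, τ d = g := by
  have : g ∈ (⁅S.comap τ, S.comap τ⁆).map τ := by
    rw [Subgroup.map_commutator, Subgroup.map_comap_eq_self_of_surjective hτ]
    exact hg
  exact this

theorem mem_D_left {u v : X} {d : Γ} (h : d ∈ ⁅(J G u v).comap τ, (J G u v).comap τ⁆) : d ∈ D τ u :=
  Subgroup.commutator_mono (Subgroup.comap_mono inf_le_left) (Subgroup.comap_mono inf_le_left) h

theorem mem_D_right {u v : X} {d : Γ} (h : d ∈ ⁅(J G u v).comap τ, (J G u v).comap τ⁆) : d ∈ D τ v :=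
  Subgroup.commutator_mono (Subgroup.comap_mono inf_le_right) (Subgroup.comap_mono inf_le_right) h

/-- the distinguished point over `x` seen from `w` -/
def Over (τ : Γ →* G) (a x w : X) (p : Γ ⧸ D τ a) : Prop :=
  ∃ d ∈ D τ w, τ d • a = x ∧ (QuotientGroup.mk d : Γ ⧸ D τ a) = p

/-- a point seen from all midpoints -/
def Sec (τ : Γ →* G) (M : X → X → Prop) (a x : X) (p : Γ ⧸ D τ a) : Prop := ∀ w, M x w → Over τ a x w p

include H

theorem perf_at (x : X) : stabilizer G x ≤ ⁅stabilizer G x, stabilizer G x⁆ := by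
  obtain ⟨g, rfl⟩ := H.trans x
  rw [MulAction.stabilizer_smul_eq_stabilizer_map_conj, ← Subgroup.map_commutator]
  exact Subgroup.map_mono H.perf

variable (hτ : Cfsg.IsStemExtension τ)
include hτ

theorem kernel_part {x : X} {z : Γ} (hz : z ∈ D τ x) (hk : τ z = 1) (y : X) : z ∈ D τ y := by
  obtain ⟨g, hg⟩ := H.trans y
  obtain ⟨g₀, hg₀⟩ := H.trans x
  obtain ⟨γ, hγ⟩ := hτ.1 (g * g₀⁻¹)
  have h := D_conj γ hz
  rw [hγ, ← hg₀, mul_smul, inv_smul_smul, hg] at h
  have hc := Subgroup.mem_center_iff.1 (hτ.2.1 hk) γ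
  rwa [hc, mul_inv_cancel_right] at h

theorem D_eq_mod {w : X} {d d' : Γ} (hd : d ∈ D τ w) (hd' : d' ∈ D τ w) (e : τ d = τ d') :
    d⁻¹ * d' ∈ D τ a :=
  kernel_part H hτ (mul_mem (inv_mem hd) hd') (by rw [map_mul, map_inv, e, inv_mul_cancel]) a

/-- lifts of an element seen from two points agree -/
theorem agree_lifts {u v : X} {d d' : Γ} (hd : d ∈ D τ u) (hd' : d' ∈ D τ v) (e : τ d = τ d') :
    d⁻¹ * d' ∈ D τ a := by
  have hker : ∀ {z : Γ}, τ z = 1 → ∀ y, y * z = z * y := fun {z} hz y => Subgroup.mem_center_iff.1 (hτ.2.1 hz) y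
  have hk : τ d ∈ J G u v := Subgroup.mem_inf.2 ⟨D_le u hd, e ▸ D_le v hd'⟩
  obtain ⟨d₁, h₁, d₁', h₁', e₁, e₁', hz⟩ : ∃ d₁ ∈ D τ u, ∃ d₁' ∈ D τ v,
      τ d₁ = τ d ∧ τ d₁' = τ d ∧ d₁⁻¹ * d₁' ∈ D τ a := by
    have h := H.agree u v hk
    generalize τ d = k₀ at h ⊢
    induction h using Subgroup.closure_induction with
    | mem k hk =>
      rcases hk with hk | ⟨hk, z, p1, p2, hkz⟩
      · obtain ⟨f, hf, hfe⟩ := exists_mem hτ.1 hk
        exact ⟨f, mem_D_left hf, f, mem_D_right hf, hfe, hfe, by rw [inv_mul_cancel]; exact one_mem _⟩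
      · obtain ⟨f, hf, hfe⟩ := exists_mem hτ.1 (p1 (Subgroup.mem_inf.2 ⟨hk.1, hkz⟩))
        obtain ⟨f', hf', hfe'⟩ := exists_mem hτ.1 (p2 (Subgroup.mem_inf.2 ⟨hkz, hk.2⟩))
        exact ⟨f, mem_D_left hf, f', mem_D_right hf', hfe, hfe',
          D_eq_mod H hτ (mem_D_right hf) (mem_D_left hf') (hfe.trans hfe'.symm)⟩
    | one => exact ⟨1, one_mem _, 1, one_mem _, map_one τ, map_one τ, by simp⟩
    | mul g h _ _ ihg ihh =>
      obtain ⟨f, hf, f', hf', e1, e1', z1⟩ := ihg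
      obtain ⟨b, hb, b', hb', e2, e2', z2⟩ := ihh
      refine ⟨f * b, mul_mem hf hb, f' * b', mul_mem hf' hb', by rw [map_mul, e1, e2],
        by rw [map_mul, e1', e2'], ?_⟩
      have hc := hker (z := f⁻¹ * f') (by rw [map_mul, map_inv, e1, e1', inv_mul_cancel]) b⁻¹
      rw [show (f * b)⁻¹ * (f' * b') = b⁻¹ * (f⁻¹ * f') * b' by group, hc, mul_assoc]
      exact mul_mem z1 z2
    | inv g _ ihg =>
      obtain ⟨f, hf, f', hf', e1, e1', z1⟩ := ihg
      refine ⟨f⁻¹, inv_mem hf, f'⁻¹, inv_mem hf', by rw [map_inv, e1], by rw [map_inv, e1'], ?_⟩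
      have hz : τ (f⁻¹ * f')⁻¹ = 1 := by rw [map_inv, map_mul, map_inv, e1, e1', inv_mul_cancel, inv_one]
      rw [show f⁻¹⁻¹ * f'⁻¹ = f * (f⁻¹ * f')⁻¹ * f⁻¹ by group, hker hz f, mul_inv_cancel_right]
      exact inv_mem z1
  have a1 := D_eq_mod H hτ hd h₁ e₁.symm
  have a2 := D_eq_mod H hτ h₁' hd' (by rw [e₁', e])
  have := mul_mem (mul_mem a1 hz) a2
  rwa [show d⁻¹ * d₁ * (d₁⁻¹ * d₁') * (d₁'⁻¹ * d') = d⁻¹ * d' by group] at this

theorem exists_over {x w : X} (hw : M x w) : ∃ p, Over τ a x w p := by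
  obtain ⟨g, hg, hga⟩ := H.move x w hw
  obtain ⟨d, hd, hde⟩ := exists_mem (S := stabilizer G w) hτ.1 (perf_at H w hg)
  exact ⟨_, d, hd, by rw [hde, hga], rfl⟩

theorem over_unique {x w : X} {p p' : Γ ⧸ D τ a} (hp : Over τ a x w p) (hp' : Over τ a x w p') : p = p' := by
  obtain ⟨d, hd, hda, rfl⟩ := hp
  obtain ⟨d', hd', hda', rfl⟩ := hp'
  refine QuotientGroup.eq.2 ?_
  have hm : τ (d⁻¹ * d') ∈ stabilizer G a := by
    rw [MulAction.mem_stabilizer_iff, map_mul, map_inv, mul_smul, hda', ← hda, inv_smul_smul]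
  obtain ⟨e, he, hee⟩ := exists_mem (S := stabilizer G a) hτ.1 (perf_at H a hm)
  have := mul_mem he (agree_lifts H hτ (u := a) he (mul_mem (inv_mem hd) hd') hee)
  rwa [mul_inv_cancel_left] at this

theorem over_all {x w w' : X} (hw : M x w) (hw' : M x w') {p : Γ ⧸ D τ a} (hp : Over τ a x w p) :
    Over τ a x w' p := by
  induction H.conn x w w' hw hw' with
  | refl => exact hp
  | @tail b c hab hbc ih =>
    obtain ⟨hc, g, hg, hga⟩ := hbc
    have hb : M x b := by
      rcases hab.cases_tail with h | ⟨_, -, h⟩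
      · exact h ▸ hw
      · exact h.1
    obtain ⟨d, hd, hde⟩ := exists_mem (S := stabilizer G b) hτ.1 (perf_at H b hg.1)
    obtain ⟨d', hd', hde'⟩ := exists_mem (S := stabilizer G c) hτ.1 (perf_at H c hg.2)
    have e := over_unique H hτ (ih hb) (p' := QuotientGroup.mk d) ⟨d, hd, by rw [hde, hga], rfl⟩
    exact ⟨d', hd', by rw [hde', hga],
      (QuotientGroup.eq.2 (agree_lifts H hτ hd hd' (hde.trans hde'.symm))).symm.trans e.symm⟩

theorem sec_exists (x : X) : ∃ p, Sec τ M a x p := by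
  obtain ⟨w, hw⟩ := H.exists_mid x
  obtain ⟨p, hp⟩ := exists_over H hτ hw
  exact ⟨p, fun w' hw' => over_all H hτ hw hw' hp⟩

theorem sec_unique {x : X} {p p' : Γ ⧸ D τ a} (hp : Sec τ M a x p) (hp' : Sec τ M a x p') : p = p' := by
  obtain ⟨w, hw⟩ := H.exists_mid x
  exact over_unique H hτ (hp w hw) (hp' w hw)

/-- moving a point by the lift of the stabiliser of the base point -/
theorem sec_of_D_a {x : X} {p : Γ ⧸ D τ a} (hp : Sec τ M a x p) {γ : Γ} (hγ : γ ∈ D τ a) :
    Sec τ M a (τ γ • x) (γ • p) := by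
  obtain ⟨w, hw⟩ := H.exists_mid x
  obtain ⟨d, hd, hda, rfl⟩ := hp w hw
  have ha : τ γ ∈ stabilizer G a := D_le a hγ
  refine fun w' hw' => over_all H hτ (H.mid_base _ x w ha hw) hw' ⟨γ * d * γ⁻¹, D_conj γ hd, ?_, ?_⟩
  · have ha' : (τ γ)⁻¹ • a = a := inv_smul_eq_iff.2 (MulAction.mem_stabilizer_iff.1 ha).symm
    rw [map_mul, map_mul, map_inv, mul_smul, mul_smul, ha', hda]
  · show (QuotientGroup.mk (γ * d * γ⁻¹) : Γ ⧸ D τ a) = QuotientGroup.mk (γ * d)
    exact QuotientGroup.eq.2 (by simpa [mul_assoc] using hγ)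

theorem sec_of_witness {x w : X} {p : Γ ⧸ D τ a} (hp : Sec τ M a x p) {γ : Γ} (hγ : γ ∈ D τ w)
    (hw : M x w) : Sec τ M a (τ γ • x) (γ • p) := by
  obtain ⟨d, hd, hda, rfl⟩ := hp w hw
  refine fun w' hw' => over_all H hτ (H.mid_stab _ x w (D_le w hγ) hw) hw' ⟨γ * d, mul_mem hγ hd, ?_, rfl⟩
  rw [map_mul, mul_smul, hda]

/-- the whole kernel lies in the lift of a stabiliser -/
theorem ker_le [Finite Γ] : τ.ker ≤ D τ a := by
  classical
  choose s hs using sec_exists H hτ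
  have key : ∀ γ : Γ, (∀ x, Sec τ M a (τ γ • x) (γ • s x)) ↔ ∀ x, γ • s x = s (τ γ • x) := fun γ =>
    ⟨fun h x => sec_unique H hτ (h x) (hs _), fun h x => by rw [h]; exact hs _⟩
  let S : Subgroup Γ :=
    { carrier := {γ | ∀ x, γ • s x = s (τ γ • x)}
      one_mem' := fun x => by simp
      mul_mem' := fun {γ δ} hγ hδ x => by rw [mul_smul, hδ, hγ, map_mul, mul_smul]
      inv_mem' := fun {γ} hγ x => by
        rw [inv_smul_eq_iff, hγ, map_inv, smul_inv_smul] }
  have htop : S = ⊤ := by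
    refine CfsgLib.Schur.eq_top_of_map_eq_top hτ (top_le_iff.1 ?_)
    obtain ⟨k, hgen, hk⟩ := H.gen
    rw [← hgen, Subgroup.closure_le]
    rintro g (hg | rfl)
    · obtain ⟨e, he, hee⟩ := exists_mem (S := stabilizer G a) hτ.1 (H.perf hg)
      exact ⟨e, (key e).1 fun x => sec_of_D_a H hτ (hs x) he, hee⟩
    · obtain ⟨w₀, -, hk₀⟩ := hk a
      obtain ⟨d, hd, hde⟩ := exists_mem (S := stabilizer G w₀) hτ.1 (perf_at H w₀ hk₀)
      refine ⟨d, (key d).1 fun x => ?_, hde⟩
      obtain ⟨w, hw, hkw⟩ := hk x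
      obtain ⟨d', hd', hde'⟩ := exists_mem (S := stabilizer G w) hτ.1 (perf_at H w hkw)
      have hz : d⁻¹ * d' ∈ D τ a := agree_lifts H hτ hd hd' (hde.trans hde'.symm)
      have hz1 : τ (d⁻¹ * d') = 1 := by rw [map_mul, map_inv, hde, hde', inv_mul_cancel]
      have he : d' • s x = d • s x := by
        generalize s x = p
        induction p using QuotientGroup.induction_on with
        | H γ =>
          show (QuotientGroup.mk (d' * γ) : Γ ⧸ D τ a) = QuotientGroup.mk (d * γ)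
          refine (QuotientGroup.eq.2 ?_).symm
          rw [show (d * γ)⁻¹ * (d' * γ) = γ⁻¹ * (d⁻¹ * d' * γ) by group,
            ← Subgroup.mem_center_iff.1 (hτ.2.1 hz1) γ, inv_mul_cancel_left]
          exact hz
      have h := sec_of_witness H hτ (hs x) hd' hw
      rwa [hde', ← hde, he] at h
  intro z hz
  have hz1 : τ z = 1 := hz
  have hsec : Sec τ M a a (QuotientGroup.mk 1 : Γ ⧸ D τ a) := fun w _ => ⟨1, one_mem _, by simp, rfl⟩
  have e : z • s a = s a := by
    rw [(htop.ge (Subgroup.mem_top z) : ∀ x, z • s x = s (τ z • x)), hz1, one_smul]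
  rw [sec_unique H hτ (hs a) hsec] at e
  have e' : (QuotientGroup.mk (z * 1) : Γ ⧸ D τ a) = QuotientGroup.mk 1 := e
  have := QuotientGroup.eq.1 e'.symm
  simpa using this

/-- the multiplier is bounded by the multiplier of the stabiliser -/
theorem exists_stab_ext [Finite Γ] {G₀ : Type*} [Group G₀] (e : ↥(stabilizer G a) ≃* G₀) :
    ∃ (Δ : Subgroup Γ) (σ : ↥Δ →* G₀), Cfsg.IsStemExtension σ ∧ Nat.card σ.ker = Nat.card τ.ker := by
  set σ : ↥(D τ a) →* G₀ := e.toMonoidHom.comp ((τ.comp (D τ a).subtype).codRestrict _ fun d => D_le (τ := τ) a d.2)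
    with hσdef
  have hmem : ∀ d : ↥(D τ a), d ∈ σ.ker ↔ τ d = 1 := fun d => by
    rw [MonoidHom.mem_ker, hσdef]
    show e _ = 1 ↔ _
    rw [EmbeddingLike.map_eq_one_iff]
    exact ⟨fun h => congrArg Subtype.val h, fun h => Subtype.ext h⟩
  have hsurj : Function.Surjective σ := by
    refine e.surjective.comp fun g => ?_
    obtain ⟨d, hd, hde⟩ := exists_mem (S := stabilizer G a) hτ.1 (H.perf g.2)
    exact ⟨⟨d, hd⟩, Subtype.ext hde⟩
  have hcen : σ.ker ≤ Subgroup.center _ := fun d hd => Subgroup.mem_center_iff.2 fun f =>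
    Subtype.ext (Subgroup.mem_center_iff.1 (hτ.2.1 ((hmem d).1 hd)) f.1)
  have hperf : D τ a ≤ ⁅D τ a, D τ a⁆ := by
    refine (Subgroup.commutator_le.2 fun p hp q hq => ?_)
    obtain ⟨f, hf, hfe⟩ := exists_mem (S := stabilizer G a) hτ.1 (H.perf (show τ p ∈ _ from hp))
    obtain ⟨g, hg, hge⟩ := exists_mem (S := stabilizer G a) hτ.1 (H.perf (show τ q ∈ _ from hq))
    have c1 : f⁻¹ * p ∈ Subgroup.center Γ := hτ.2.1 (show τ _ = 1 by rw [map_mul, map_inv, hfe, inv_mul_cancel])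
    have c2 : g⁻¹ * q ∈ Subgroup.center Γ := hτ.2.1 (show τ _ = 1 by rw [map_mul, map_inv, hge, inv_mul_cancel])
    have e1 : ⁅p, q⁆ = ⁅f, g⁆ := by
      obtain ⟨z, hz, rfl⟩ : ∃ z ∈ Subgroup.center Γ, p = f * z := ⟨_, c1, (mul_inv_cancel_left f p).symm⟩
      obtain ⟨z', hz', rfl⟩ : ∃ z ∈ Subgroup.center Γ, q = g * z := ⟨_, c2, (mul_inv_cancel_left g q).symm⟩
      simp only [commutatorElement_def, mul_inv_rev]
      have h1 := Subgroup.mem_center_iff.1 hz
      have h2 := Subgroup.mem_center_iff.1 hz'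
      calc f * z * (g * z') * (z⁻¹ * f⁻¹) * (z'⁻¹ * g⁻¹)
          = f * (z * (g * z')) * z⁻¹ * f⁻¹ * z'⁻¹ * g⁻¹ := by group
        _ = f * g * z' * f⁻¹ * z'⁻¹ * g⁻¹ := by rw [← h1]; group
        _ = f * g * (z' * f⁻¹) * z'⁻¹ * g⁻¹ := by group
        _ = _ := by rw [← h2]; group
    rw [e1]
    exact Subgroup.commutator_mem_commutator hf hg
  have hker : τ.ker ≤ D τ a := ker_le H hτ
  have hstem : Cfsg.IsStemExtension σ := by
    refine ⟨hsurj, hcen, fun d _ => ?_⟩
    have h1 : d.1 ∈ (commutator ↥(D τ a)).map (D τ a).subtype := by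
      rw [commutator_def, Subgroup.map_commutator, ← MonoidHom.range_eq_map, Subgroup.range_subtype]
      exact hperf d.2
    obtain ⟨f, hf, hfe⟩ := h1
    rwa [← Subtype.ext hfe]
  refine ⟨_, σ, hstem, (Nat.card_congr ?_).symm⟩
  exact
    { toFun := fun z => ⟨⟨z.1, hker z.2⟩, (hmem _).2 z.2⟩
      invFun := fun d => ⟨d.1.1, (hmem d.1).1 d.2⟩
      left_inv := fun z => rfl
      right_inv := fun d => rfl }

include H hτ in
/-- the bound passes from the stabiliser -/
theorem card_ker_le [Finite Γ] {G₀ : Type*} [Group G₀] (e : ↥(stabilizer G a) ≃* G₀) {b : ℕ}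
    (hb : ∀ (Δ : Subgroup Γ) (σ : ↥Δ →* G₀), Cfsg.IsStemExtension σ → Nat.card σ.ker ≤ b) :
    Nat.card τ.ker ≤ b := by
  obtain ⟨Δ, σ, hσ, hc⟩ := exists_stab_ext H hτ e
  exact hc ▸ hb Δ σ hσ

end CfsgLib.Lie.Mult.StabStep
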