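import Cfsg.Agent.Lib.Lie.Mult.Sylow
import Cfsg.Agent.Lib.Lie.SLUniv.Basic
import Cfsg.Agent.Lib.Classical.SLNormalized
import Cfsg.Agent.Lib.Lie.Chev.Tw.Ree.SylowOdd
import Cfsg.Agent.Lib.Lie.Chev.Tw.Ree.Tori.Main

/-!
# The multiplier of the small Ree groups

Sylow subgroups for primes above three are cyclic.  Every involution has centraliser `2 × PSL₂(q)`,
a product with a perfect second factor, so lifts of commuting elements commute once one of them is an
involution.  The torus leaves no room for a kernel element in the derived group of the preimage of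
the unipotent group.
-/

set_option autoImplicit false
set_option maxRecDepth 100000
set_option linter.unusedSectionVars false

namespace CfsgLib.Lie.Mult

open CfsgLib.Lie.Chev CfsgLib.Lie.Chev.TG2 Cfsg.Lie
open scoped commutatorElement MatrixGroups

section Calc

variable {P : Type*} [Group P]

theorem bracket_mul_right {a b c : P} (h : ⁅a, c⁆ ∈ Subgroup.center P) :
    ⁅a, b * c⁆ = ⁅a, b⁆ * ⁅a, c⁆ := by
  calc ⁅a, b * c⁆ = ⁅a, b⁆ * (b * ⁅a, c⁆ * b⁻¹) := by simp only [commutatorElement_def]; group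
    _ = _ := by rw [Subgroup.mem_center_iff.1 h b, mul_inv_cancel_right]

theorem bracket_mul_left {a b c : P} (h : ⁅b, c⁆ ∈ Subgroup.center P) :
    ⁅a * b, c⁆ = ⁅a, c⁆ * ⁅b, c⁆ := by
  calc ⁅a * b, c⁆ = a * ⁅b, c⁆ * a⁻¹ * ⁅a, c⁆ := by simp only [commutatorElement_def]; group
    _ = _ := by rw [Subgroup.mem_center_iff.1 h a, mul_inv_cancel_right,
        ← Subgroup.mem_center_iff.1 h ⁅a, c⁆]

variable {F : Type*} [Field F]

theorem mul_map_zero {f : F → P} (h : ∀ x y, f (x + y) = f x * f y) : f 0 = 1 := by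
  have := h 0 0
  rw [add_zero] at this
  exact right_eq_mul.1 this

/-- in characteristic three an additive map which is even vanishes -/
theorem eq_one_of_even [CharP F 3] {f : F → P} (h : ∀ x y, f (x + y) = f x * f y)
    (he : ∀ x, f (-x) = f x) (x : F) : f x = 1 := by
  have h2 : f x * f x = 1 := by
    nth_rewrite 1 [← he x]
    rw [← h, neg_add_cancel, mul_map_zero h]
  have h3 : f x * f x * f x = 1 := by
    rw [← h, ← h, show x + x + x = (3 : F) * x by ring,
      show (3 : F) = 0 from (by exact_mod_cast CharP.cast_eq_zero F 3), zero_mul, mul_map_zero h]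
  rwa [h2, one_mul] at h3

/-- a central biadditive pairing invariant under all scalars is trivial -/
theorem pairing_eq_one_three [CharP F 3] {x : F} (hx0 : x ≠ 0) (hx1 : x ≠ 1) (hx2 : x ≠ -1)
    {f : F → F → P} (hcen : ∀ t u, f t u ∈ Subgroup.center P)
    (addL : ∀ t t' u, f (t + t') u = f t u * f t' u) (addR : ∀ t u u', f t (u + u') = f t u * f t u')
    (inv : ∀ (c : F), c ≠ 0 → ∀ t u, f (c * t) (c * u) = f t u) (t u : F) : f t u = 1 := by
  have h3 : (3 : F) = 0 := by exact_mod_cast CharP.cast_eq_zero F 3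
  have h1x : 1 + x ≠ 0 := fun e => hx2 (eq_neg_of_add_eq_zero_right e)
  have key : ∀ t u, f t (x * u) * f (x * t) u * f t u = 1 := by
    intro t u
    have h := inv (1 + x) h1x t u
    rw [add_mul, add_mul, one_mul, one_mul, addL, addR, addR, inv x hx0] at h
    rw [mul_assoc, mul_eq_left] at h
    rw [mul_assoc]
    exact h
  have key2 : ∀ t u, f ((x ^ 2 + x + 1) * t) u = 1 := by
    intro t u
    have h := key (x * t) u
    rw [inv x hx0] at h
    rw [show (x ^ 2 + x + 1) * t = x * (x * t) + x * t + t by ring, addL, addL, ← h]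
    rw [Subgroup.mem_center_iff.1 (hcen t u) (f (x * (x * t)) u * f (x * t) u), mul_assoc]
  have hne : x ^ 2 + x + 1 ≠ 0 := by
    rw [show x ^ 2 + x + 1 = (x - 1) ^ 2 by linear_combination x * h3]
    exact pow_ne_zero 2 (sub_ne_zero.2 hx1)
  rw [← mul_div_cancel₀ t hne, key2]

end Calc

variable {K : Type*} [Field K] [Fintype K] [CharP K 3] {θ : K ≃+* K} {m : ℕ} (R : Ree θ m)
  {P : Type*} [Group P] {p : P →* ↥(twistedG2 K (3 ^ m))} (hp : Function.Surjective p)
  (hc : p.ker ≤ Subgroup.center P)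

include R in
theorem exists_gen_point (hm : 1 ≤ m) : ∃ x : K, x ≠ 0 ∧ x ≠ 1 ∧ x ≠ -1 ∧ θ.symm x ≠ x ^ 3 := by
  classical
  by_contra hall
  push Not at hall
  have hsub : (Finset.univ : Finset K) ⊆ {0, 1, -1} := by
    intro x _
    simp only [Finset.mem_insert, Finset.mem_singleton]
    by_contra h
    push Not at h
    obtain ⟨h0, h1, h2⟩ := h
    have e := hall x h0 h1 h2
    have e2 : θ.symm (θ.symm x) = (x ^ 3) ^ 3 := by rw [e, map_pow, e]
    rw [R.cu (θ.symm x), θ.apply_symm_apply] at e2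
    have e3 : (x ^ 3 - x) ^ 3 = 0 := by
      linear_combination -e2 + (x ^ 5 - x ^ 7) * (CharP.cast_eq_zero K 3 : ((3 : ℕ) : K) = 0)
    have e4 : x ^ 3 - x = 0 := pow_eq_zero_iff (by norm_num : (3 : ℕ) ≠ 0) |>.1 e3
    rcases mul_eq_zero.1 (show x * ((x - 1) * (x + 1)) = 0 by linear_combination e4) with h | h
    · exact h0 h
    · rcases mul_eq_zero.1 h with h | h
      exacts [h1 (sub_eq_zero.1 h), h2 (eq_neg_of_add_eq_zero_left h)]
  have h := (Finset.card_le_card hsub).trans Finset.card_le_three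
  rw [Finset.card_univ, R.big] at h
  have : 3 ^ 3 ≤ 3 ^ (2 * m + 1) := Nat.pow_le_pow_right (by norm_num) (by omega)
  omega

section Two

include R hp hc

/-- lifts of commuting elements commute if one of them is an involution -/
theorem ree_commute_of_invol (hm : 1 ≤ m) {a b : P} (ha : p a * p a = 1) (hab : Commute (p a) (p b)) :
    Commute a b := by
  classical
  by_cases h1 : p a = 1
  · exact (Subgroup.mem_center_iff.1 (hc (MonoidHom.mem_ker.2 h1)) b).symm
  obtain ⟨c, hcc⟩ := exists_conj_invol R ha h1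
  obtain ⟨c', rfl⟩ := hp c
  suffices h : Commute (c'⁻¹ * a * c') (c'⁻¹ * b * c') by
    have h' : c' * (c'⁻¹ * a * c' * (c'⁻¹ * b * c')) * c'⁻¹ =
        c' * (c'⁻¹ * b * c' * (c'⁻¹ * a * c')) * c'⁻¹ := by rw [h.eq]
    show a * b = b * a
    simpa [mul_assoc] using h'
  have ha' : p (c'⁻¹ * a * c') = ia R := by rw [map_mul, map_mul, map_inv, ← hcc]; group
  have hb' : p (c'⁻¹ * b * c') ∈ (zHom R).range := by
    rw [← centralizer_eq R, Subgroup.mem_centralizer_singleton_iff, ← ha', ← map_mul, ← map_mul,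
      show c'⁻¹ * b * c' * (c'⁻¹ * a * c') = c'⁻¹ * (b * a) * c' by group,
      show c'⁻¹ * a * c' * (c'⁻¹ * b * c') = c'⁻¹ * (a * b) * c' by group]
    simp only [map_mul, map_inv, hab.eq]
  obtain ⟨⟨n, y⟩, hy⟩ := hb'
  obtain ⟨g, rfl⟩ := QuotientGroup.mk_surjective y
  choose L hL using hp
  set a' := c'⁻¹ * a * c'
  have hcen : ∀ g : SL(2, K), ⁅a', L (cHom R g)⁆ ∈ Subgroup.center P := fun g =>
    SLUniv.comm_central hc (by rw [ha', hL]; exact ia_commute R g)
  let ψ : SL(2, K) →* Subgroup.center P :=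
    MonoidHom.mk' (fun g => ⟨⁅a', L (cHom R g)⁆, hcen g⟩) fun x y => Subtype.ext (by
      show ⁅a', L (cHom R (x * y))⁆ = ⁅a', L (cHom R x)⁆ * ⁅a', L (cHom R y)⁆
      rw [← bracket_mul_right (hcen y)]
      exact SLUniv.comm_congr hc rfl (by rw [map_mul p, hL, hL, hL, map_mul]))
  have hperf : commutator SL(2, K) = ⊤ :=
    (CfsgLib.Classical.sl_perfect_and_psl_simple le_rfl (by
      rintro ⟨-, h⟩
      rw [R.big] at h
      have : 3 ^ 3 ≤ 3 ^ (2 * m + 1) := Nat.pow_le_pow_right (by norm_num) (by omega)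
      omega)).1
  have hψ : ψ g = 1 := by
    have hab : ∀ x y : Subgroup.center P, Commute x y := fun x y =>
      Subtype.ext (Subgroup.mem_center_iff.1 y.2 x)
    have hle : commutator SL(2, K) ≤ ψ.ker := by
      rw [commutator_def, Subgroup.commutator_le]
      intro x _ y _
      rw [MonoidHom.mem_ker, map_commutatorElement, commutatorElement_eq_one_iff_commute]
      exact hab _ _
    exact hle (hperf ▸ Subgroup.mem_top g)
  have h2 : Commute a' (L (cHom R g)) :=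
    commutatorElement_eq_one_iff_commute.1 (congrArg Subtype.val hψ)
  have e : p (c'⁻¹ * b * c') = invHom (ia R) (ia_sq R) n * cHom R g := hy.symm
  rcases mult_cases n with rfl | rfl
  · rw [map_one, one_mul] at e
    exact SLUniv.commute_congr hc rfl (e.trans (hL _).symm) h2
  · rw [invHom_gen] at e
    exact SLUniv.commute_congr hc rfl (b' := a' * L (cHom R g)) (by rw [map_mul p a', ha', hL]; exact e)
      ((Commute.refl a').mul_right h2)

end Two

section Three

include R hp hc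

/-- kernel elements in the derived group of the preimage of the unipotent group are trivial -/
theorem ree_preimage (hm : 1 ≤ m) {z : P} (hz : z ∈ p.ker)
    (hz' : z ∈ ⁅R.gp.gU.comap p, R.gp.gU.comap p⁆) : z = 1 := by
  obtain ⟨x₀, hx0, hx1, hx2, hx3⟩ := exists_gen_point R hm
  have h3 : (3 : K) = 0 := by exact_mod_cast CharP.cast_eq_zero K 3
  choose L hL using fun t u v : K => hp (pe R t u v)
  choose H hH using fun b : Kˣ => hp (he R b)
  have hconj : ∀ (b : Kˣ) (t u v : K), p (H b * L t u v * (H b)⁻¹) =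
      p (L ((wHom θ b : K) * t) ((chiHom θ b : K) * u) ((b : K) * v)) := fun b t u v => by
    rw [map_mul, map_mul, map_inv, hH, hL, hL, he_conj]
  have cmul : ∀ {x : P} (y : P), x ∈ Subgroup.center P → y * x * y⁻¹ = x := fun y hx => by
    rw [Subgroup.mem_center_iff.1 hx y, mul_inv_cancel_right]
  have tmul : ∀ u v u' v' : K, pe R 0 u v * pe R 0 u' v' = pe R 0 (u + u') (v + v') := fun u v u' v' => by
    rw [pe_mul]; congr 1 <;> simp
  have tsplit : ∀ t u v : K, pe R t 0 0 * pe R 0 u v = pe R t u v := fun t u v => by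
    rw [pe_mul]; congr 1 <;> simp
  have tcomm : ∀ u v u' v' : K, Commute (pe R 0 u v) (pe R 0 u' v') := fun u v u' v' => by
    show _ * _ = _ * _
    rw [tmul, tmul, add_comm u, add_comm v]
  have tcen : ∀ t u v v' : K, Commute (pe R t u v) (pe R 0 0 v') := fun t u v v' => by
    show _ * _ = _ * _
    rw [pe_mul, pe_mul]; congr 1 <;> simp [add_comm]
  -- the torus element of order two
  have hneg : (wHom θ (-1) : K) = -1 ∧ (chiHom θ (-1) : K) = 1 := by
    rw [wHom_val, chiHom_val]; simp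
  have hone : (wHom θ 1 : K) = 1 := by rw [map_one, Units.val_one]
  have hchi : ∀ a : K, a ≠ 0 → ∃ b : Kˣ, (chiHom θ b : K) = a ^ 2 := fun a ha =>
    chi_range_sq θ R.cu R.pw ha
  have hw : ∀ c : K, c ≠ 0 → ∃ b : Kˣ, (wHom θ b : K) = c := fun c hc' => by
    obtain ⟨b, hb⟩ := w_surjective θ R.cu (Units.mk0 c hc')
    exact ⟨b, by rw [hb, Units.val_mk0]⟩
  -- the abelian layer: first the two coordinates separately
  let f₂ : K → K → P := fun u u' => ⁅L 0 u 0, L 0 u' 0⁆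
  have f₂cen : ∀ u u', f₂ u u' ∈ Subgroup.center P := fun u u' =>
    SLUniv.comm_central hc (by rw [hL, hL]; exact tcomm _ _ _ _)
  have f₂R : ∀ a u u', f₂ a (u + u') = f₂ a u * f₂ a u' := fun a u u' => by
    simp only [f₂]
    rw [← bracket_mul_right (f₂cen a u')]
    exact SLUniv.comm_congr hc rfl (by rw [map_mul p, hL, hL, hL, tmul, add_zero])
  have f₂L : ∀ a a' u, f₂ (a + a') u = f₂ a u * f₂ a' u := fun a a' u => by
    simp only [f₂]
    rw [← bracket_mul_left (f₂cen a' u)]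
    exact SLUniv.comm_congr hc (by rw [map_mul p, hL, hL, hL, tmul, add_zero]) rfl
  have f₂inv : ∀ (b : Kˣ) u u', f₂ ((chiHom θ b : K) * u) ((chiHom θ b : K) * u') = f₂ u u' :=
    fun b u u' => by
    rw [← cmul (H b) (f₂cen u u')]
    simp only [f₂]
    rw [conjugate_commutatorElement]
    exact (SLUniv.comm_congr hc (by rw [hconj, mul_zero, mul_zero]) (by rw [hconj, mul_zero, mul_zero])).symm
  let f₃ : K → K → P := fun v v' => ⁅L 0 0 v, L 0 0 v'⁆
  have f₃cen : ∀ v v', f₃ v v' ∈ Subgroup.center P := fun v v' =>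
    SLUniv.comm_central hc (by rw [hL, hL]; exact tcomm _ _ _ _)
  have f₃R : ∀ a u u', f₃ a (u + u') = f₃ a u * f₃ a u' := fun a u u' => by
    simp only [f₃]
    rw [← bracket_mul_right (f₃cen a u')]
    exact SLUniv.comm_congr hc rfl (by rw [map_mul p, hL, hL, hL, tmul, add_zero])
  have f₃L : ∀ a a' u, f₃ (a + a') u = f₃ a u * f₃ a' u := fun a a' u => by
    simp only [f₃]
    rw [← bracket_mul_left (f₃cen a' u)]
    exact SLUniv.comm_congr hc (by rw [map_mul p, hL, hL, hL, tmul, add_zero]) rfl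
  let f₁ : K → K → P := fun u v => ⁅L 0 u 0, L 0 0 v⁆
  have f₁cen : ∀ u v, f₁ u v ∈ Subgroup.center P := fun u v =>
    SLUniv.comm_central hc (by rw [hL, hL]; exact tcomm _ _ _ _)
  have f₁R : ∀ a u u', f₁ a (u + u') = f₁ a u * f₁ a u' := fun a u u' => by
    simp only [f₁]
    rw [← bracket_mul_right (f₁cen a u')]
    exact SLUniv.comm_congr hc rfl (by rw [map_mul p, hL, hL, hL, tmul, add_zero])
  have f₁one : ∀ u v, f₁ u v = 1 := fun u => eq_one_of_even (f₁R u) fun v => by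
    rw [← cmul (H (-1)) (f₁cen u v)]
    simp only [f₁]
    rw [conjugate_commutatorElement]
    exact (SLUniv.comm_congr hc (by rw [hconj, mul_zero, mul_zero, hneg.2, one_mul])
      (by rw [hconj, mul_zero, mul_zero, Units.val_neg, Units.val_one, neg_one_mul])).symm
  have f₃one : ∀ v v', f₃ v v' = 1 := pairing_eq_one_three hx0 hx1 hx2 f₃cen f₃L f₃R fun c hc' t u => by
    rw [← cmul (H (Units.mk0 c hc')) (f₃cen t u)]
    simp only [f₃]
    rw [conjugate_commutatorElement]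
    exact (SLUniv.comm_congr hc (by rw [hconj, mul_zero, mul_zero, Units.val_mk0])
      (by rw [hconj, mul_zero, mul_zero, Units.val_mk0])).symm
  have f₂one : ∀ u u', f₂ u u' = 1 := by
    refine pairing_eq_one_three hx0 hx1 hx2 f₂cen f₂L f₂R ?_
    have hsq : ∀ a : K, a ≠ 0 → ∀ t u, f₂ (a ^ 2 * t) (a ^ 2 * u) = f₂ t u := fun a ha t u => by
      obtain ⟨b, hb⟩ := hchi a ha
      rw [← hb, f₂inv]
    have hnn : ∀ t u, f₂ (-t) (-u) = f₂ t u := fun t u => by
      have e1 : ∀ t u, f₂ (-t) u = (f₂ t u)⁻¹ := fun t u => by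
        have h0 : f₂ 0 u = 1 := mul_map_zero (f := fun t => f₂ t u) fun a a' => f₂L a a' u
        rw [eq_inv_iff_mul_eq_one, ← f₂L, neg_add_cancel, h0]
      have e2 : ∀ t u, f₂ t (-u) = (f₂ t u)⁻¹ := fun t u => by
        rw [eq_inv_iff_mul_eq_one, ← f₂R, neg_add_cancel, mul_map_zero (f₂R t)]
      rw [e1, e2, inv_inv]
    intro c hc' t u
    rcases exists_sign_square R (Units.mk0 c hc') with ⟨y, hy | hy⟩
    · have e : c = (y : K) ^ 2 := by
        simpa [pow_two] using congrArg Units.val hy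
      rw [e, hsq _ y.ne_zero]
    · have e : c = -((y : K) ^ 2) := by
        simpa [pow_two] using congrArg Units.val hy
      rw [e, neg_mul, neg_mul, hnn, hsq _ y.ne_zero]
  have hsplit2 : ∀ u v, p (L 0 u v) = p (L 0 u 0 * L 0 0 v) := fun u v => by
    rw [map_mul, hL, hL, hL, tmul, add_zero, zero_add]
  have hUU : ∀ u v u' v', Commute (L 0 u v) (L 0 u' v') := fun u v u' v' => by
    refine SLUniv.commute_congr hc (hsplit2 u v) (hsplit2 u' v') ?_
    have a1 := commutatorElement_eq_one_iff_commute.1 (f₂one u u')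
    have a2 := commutatorElement_eq_one_iff_commute.1 (f₁one u v')
    have a3 := commutatorElement_eq_one_iff_commute.1 (f₁one u' v)
    have a4 := commutatorElement_eq_one_iff_commute.1 (f₃one v v')
    exact (a1.mul_right a2).mul_left (a3.symm.mul_right a4)
  -- lifts of the central layer commute with all lifts
  let δ : K → K → P := fun t v => ⁅L t 0 0, L 0 0 v⁆
  have δcen : ∀ t v, δ t v ∈ Subgroup.center P := fun t v =>
    SLUniv.comm_central hc (by rw [hL, hL]; exact tcen _ _ _ _)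
  have δR : ∀ a u u', δ a (u + u') = δ a u * δ a u' := fun a u u' => by
    simp only [δ]
    rw [← bracket_mul_right (δcen a u')]
    exact SLUniv.comm_congr hc rfl (by rw [map_mul p, hL, hL, hL, tmul, add_zero])
  have δL : ∀ a a' u, δ (a + a') u = δ a u * δ a' u := fun a a' u => by
    simp only [δ]
    rw [← bracket_mul_left (δcen a' u)]
    obtain ⟨A, B, e⟩ : ∃ A B, pe R a 0 0 * pe R a' 0 0 = pe R (a + a') 0 0 * pe R 0 A B := by
      rw [pe_mul]; exact ⟨_, _, (tsplit _ _ _).symm⟩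
    have hbr : ⁅L 0 A B, L 0 0 u⁆ = 1 := commutatorElement_eq_one_iff_commute.2 (hUU _ _ _ _)
    calc ⁅L (a + a') 0 0, L 0 0 u⁆ = ⁅L (a + a') 0 0 * L 0 A B, L 0 0 u⁆ := by
          rw [bracket_mul_left (hbr ▸ one_mem _), hbr, mul_one]
      _ = _ := SLUniv.comm_congr hc (by rw [map_mul p, map_mul p, hL, hL, hL, hL, e]) rfl
  have δinv : ∀ (b : Kˣ) t v, δ ((wHom θ b : K) * t) ((b : K) * v) = δ t v := fun b t v => by
    rw [← cmul (H b) (δcen t v)]
    simp only [δ]
    rw [conjugate_commutatorElement]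
    exact (SLUniv.comm_congr hc (by rw [hconj, mul_zero, mul_zero]) (by rw [hconj, mul_zero, mul_zero])).symm
  have δscale : ∀ (b : Kˣ) v, δ (wHom θ b : K) v = δ 1 (((b⁻¹ : Kˣ) : K) * v) := fun b v => by
    rw [← δinv b 1 (((b⁻¹ : Kˣ) : K) * v), mul_one, Units.mul_inv_cancel_left]
  have δone : ∀ t v, δ t v = 1 := by
    set b₁ : Kˣ := (Units.mk0 x₀ hx0)⁻¹ with hb₁
    set T := (wHom θ b₁ : K) with hT
    have hTval : T * x₀ ^ 2 = θ.symm x₀ := by
      rw [hT, wHom_val, hb₁, Units.val_inv_eq_inv_val, Units.val_mk0, map_inv₀, inv_inv]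
      field_simp
    have hT0 : T ≠ 0 := Units.ne_zero _
    have hb₁val : ((b₁⁻¹ : Kˣ) : K) = x₀ := by rw [hb₁, inv_inv, Units.val_mk0]
    obtain ⟨e, he0, hee⟩ : ∃ e : K, e ≠ 0 ∧ ∀ v, δ 1 (e * v) = 1 := by
      by_cases hT1 : 1 + T = 0
      · refine ⟨1 + x₀, fun e => hx2 (eq_neg_of_add_eq_zero_right e), fun v => ?_⟩
        have h := δscale b₁ v
        rw [hb₁val, ← hT, eq_neg_of_add_eq_zero_right hT1] at h
        rw [add_mul, one_mul, δR, ← h, ← δL, add_neg_cancel]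
        exact mul_map_zero (f := fun t => δ t v) fun a a' => δL a a' v
      · obtain ⟨b₂, hb₂⟩ := hw _ hT1
        refine ⟨((b₂⁻¹ : Kˣ) : K) - (1 + x₀), fun e => ?_, fun v => ?_⟩
        · rw [sub_eq_zero] at e
          have hx4 : (1 : K) + x₀ ≠ 0 := fun e => hx2 (eq_neg_of_add_eq_zero_right e)
          have hb₂' : b₂ = (Units.mk0 (1 + x₀) hx4)⁻¹ := by
            rw [← inv_inj, inv_inv]; exact Units.ext e
          have h := congrArg (fun w : K => w) hb₂
          rw [hb₂', wHom_val, Units.val_inv_eq_inv_val, Units.val_mk0, map_inv₀, inv_inv, map_add,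
            map_one] at h
          field_simp at h
          have h4 : (θ.symm x₀ - x₀ ^ 3) * (1 - x₀) = 0 := by
            linear_combination -(x₀ ^ 2) * h - (1 + x₀) ^ 2 * hTval - (x₀ * θ.symm x₀ + x₀ ^ 3) * h3
          rcases mul_eq_zero.1 h4 with h5 | h5
          exacts [hx3 (sub_eq_zero.1 h5), hx1 (sub_eq_zero.1 h5).symm]
        · have h := δL 1 T v
          rw [← hb₂, δscale, δscale, hb₁val] at h
          have hneg' : ∀ w, δ 1 (-w) = (δ 1 w)⁻¹ := fun w => by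
            rw [eq_inv_iff_mul_eq_one, ← δR, neg_add_cancel, mul_map_zero (δR 1)]
          rw [sub_mul, sub_eq_add_neg, δR, h, hneg', add_mul, one_mul, δR, mul_inv_cancel]
    have g1 : ∀ v, δ 1 v = 1 := fun v => by rw [← mul_div_cancel₀ v he0]; exact hee _
    intro t v
    by_cases ht : t = 0
    · subst ht; exact mul_map_zero (f := fun t => δ t v) fun a a' => δL a a' v
    · obtain ⟨b, hb⟩ := hw t ht
      rw [← hb, δscale, g1]
  have hVC : ∀ t u v v', Commute (L t u v) (L 0 0 v') := fun t u v v' => by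
    refine SLUniv.commute_congr hc (a' := L t 0 0 * L 0 u v) (b' := L 0 0 v')
      (by rw [map_mul, hL, hL, hL, tsplit]) rfl ?_
    exact (commutatorElement_eq_one_iff_commute.1 (δone t v')).mul_left (hUU _ _ _ _)
  -- equivariant lifts of the abelian layer
  set b₀ : Kˣ := Units.mk0 x₀ hx0 with hb₀
  have hd : ((b₀ : K) - 1) ≠ 0 := sub_ne_zero.2 hx1
  have hd' : ((chiHom θ b₀ : K) - 1) ≠ 0 := by
    intro e
    rw [sub_eq_zero, chiHom_val, hb₀, Units.val_mk0, mul_inv_eq_one₀ hx0, R.cu] at e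
    rcases theta_cube_eq θ R.cu hx0 e with h | h
    exacts [hx1 h, hx2 h]
  set β : K := (b₀ : K) - 1 with hβ
  set α : K := (chiHom θ b₀ : K) - 1 with hα
  let W : K → K → P := fun u v => ⁅H b₀, L 0 (u / α) (v / β)⁆
  have hW : ∀ u v, p (W u v) = pe R 0 u v := fun u v => by
    rw [map_commutatorElement, hH, hL, commutatorElement_def, he_conj, mul_zero, mul_inv_eq_iff_eq_mul,
      tmul]
    congr 1
    · rw [show (chiHom θ b₀ : K) = α + 1 by rw [hα]; ring]; field_simp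
    · rw [show (b₀ : K) = β + 1 by rw [hβ]; ring]; field_simp
  have hWL : ∀ u v u' v', Commute (L 0 u v) (W u' v') := fun u v u' v' =>
    SLUniv.commute_congr hc rfl (b' := L 0 u' v') (by rw [hW, hL]) (hUU _ _ _ _)
  have hWadd : ∀ u v u' v', W (u + u') (v + v') = W u v * W u' v' := fun u v u' v' => by
    calc W (u + u') (v + v') = ⁅H b₀, L 0 (u / α) (v / β) * L 0 (u' / α) (v' / β)⁆ :=
          SLUniv.comm_congr hc rfl (by rw [map_mul p, hL, hL, hL, tmul, add_div, add_div])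
      _ = W u v * (L 0 (u / α) (v / β) * W u' v' * (L 0 (u / α) (v / β))⁻¹) := by
          simp only [W, commutatorElement_def]; group
      _ = _ := by rw [(hWL _ _ _ _).eq, mul_inv_cancel_right]
  have hWequi : ∀ (b : Kˣ) u v,
      H b * W u v * (H b)⁻¹ = W ((chiHom θ b : K) * u) ((b : K) * v) := fun b u v => by
    simp only [W]
    rw [conjugate_commutatorElement]
    refine SLUniv.comm_congr hc ?_ ?_
    · rw [map_mul, map_mul, map_inv, hH, hH, ← map_inv (he R), ← map_mul, ← map_mul,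
        mul_comm b b₀, mul_inv_cancel_right]
    · rw [hconj, mul_zero, mul_div_assoc, mul_div_assoc]
  let Wh : Multiplicative (K × K) →* P :=
    { toFun := fun x => W x.toAdd.1 x.toAdd.2
      map_one' := by
        have h := hWadd 0 0 0 0
        simp only [add_zero] at h
        exact right_eq_mul.1 h
      map_mul' := fun x y => hWadd _ _ _ _ }
  have hN : ∀ u v, W u v ∈ Wh.range := fun u v => ⟨Multiplicative.ofAdd (u, v), rfl⟩
  have hker : ∀ k ∈ p.ker, k ∈ Wh.range → k = 1 := by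
    rintro _ hk ⟨x, rfl⟩
    rw [MonoidHom.mem_ker, show p (Wh x) = pe R 0 x.toAdd.1 x.toAdd.2 from hW _ _, ← pe_zero R] at hk
    obtain ⟨-, e1, e2⟩ := pe_inj R hk
    rw [show x = 1 from Prod.ext e1 e2, map_one]
  -- first coordinate against the abelian layer
  let ε : K → K → P := fun t u => ⁅L t 0 0, W u 0⁆ * (W 0 (t * u))⁻¹
  have hbr : ∀ t u, p ⁅L t 0 0, W u 0⁆ = pe R 0 0 (t * u) := fun t u => by
    rw [map_commutatorElement, hL, hW, commutatorElement_def, mul_inv_eq_iff_eq_mul,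
      mul_inv_eq_iff_eq_mul, pe_mul, pe_mul, pe_mul]
    congr 1 <;> simp <;> ring
  have εcen : ∀ t u, ε t u ∈ Subgroup.center P := fun t u => hc (by
    rw [MonoidHom.mem_ker, map_mul, map_inv, hbr, hW, mul_inv_cancel])
  have hWz : ∀ t u v v', Commute (L t u v) (W 0 v') := fun t u v v' =>
    SLUniv.commute_congr hc rfl (b' := L 0 0 v') (by rw [hW, hL]) (hVC _ _ _ _)
  have εL : ∀ a a' u, ε (a + a') u = ε a u * ε a' u := fun a a' u => by
    obtain ⟨A, B, e⟩ : ∃ A B, pe R a 0 0 * pe R a' 0 0 = pe R (a + a') 0 0 * pe R 0 A B := by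
      rw [pe_mul]; exact ⟨_, _, (tsplit _ _ _).symm⟩
    have h1 : ⁅L (a + a') 0 0 * L 0 A B, W u 0⁆ = ⁅L (a + a') 0 0, W u 0⁆ := by
      calc _ = L (a + a') 0 0 * ⁅L 0 A B, W u 0⁆ * (L (a + a') 0 0)⁻¹ * ⁅L (a + a') 0 0, W u 0⁆ := by
            simp only [commutatorElement_def]; group
        _ = _ := by
            rw [commutatorElement_eq_one_iff_commute.2 (hWL _ _ _ _), mul_one, mul_inv_cancel, one_mul]
    have h2 : ⁅L a 0 0 * L a' 0 0, W u 0⁆ = ⁅L a' 0 0, W u 0⁆ * ⁅L a 0 0, W u 0⁆ := by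
      calc _ = L a 0 0 * ⁅L a' 0 0, W u 0⁆ * (L a 0 0)⁻¹ * ⁅L a 0 0, W u 0⁆ := by
            simp only [commutatorElement_def]; group
        _ = _ := by
            have : Commute (L a 0 0) ⁅L a' 0 0, W u 0⁆ :=
              SLUniv.commute_congr hc rfl (b' := W 0 (a' * u)) (by rw [hbr, hW]) (hWz _ _ _ _)
            rw [this.eq, mul_inv_cancel_right]
    have h3' : ⁅L (a + a') 0 0, W u 0⁆ = ⁅L a' 0 0, W u 0⁆ * ⁅L a 0 0, W u 0⁆ := by
      rw [← h1, ← h2]
      exact SLUniv.comm_congr hc (by rw [map_mul p, map_mul p, hL, hL, hL, hL, e]) rfl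
    have hz1 := Subgroup.mem_center_iff.1 (εcen a u) ⁅L a' 0 0, W u 0⁆
    simp only [ε] at hz1 ⊢
    rw [h3', show W 0 ((a + a') * u) = W 0 (a' * u) * W 0 (a * u) by
      rw [← hWadd, add_zero, ← add_mul, add_comm a'], mul_inv_rev, ← mul_assoc,
      mul_assoc ⁅L a' 0 0, W u 0⁆, hz1, mul_assoc]
  have εone : ∀ t u, ε t u = 1 := fun t u => eq_one_of_even (f := fun t => ε t u)
    (fun a a' => εL a a' u) (fun t => by
      rw [← cmul (H (-1)) (εcen t u)]
      show _ = H (-1) * (⁅L t 0 0, W u 0⁆ * (W 0 (t * u))⁻¹) * (H (-1))⁻¹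
      rw [show H (-1) * (⁅L t 0 0, W u 0⁆ * (W 0 (t * u))⁻¹) * (H (-1))⁻¹ =
        H (-1) * ⁅L t 0 0, W u 0⁆ * (H (-1))⁻¹ * (H (-1) * W 0 (t * u) * (H (-1))⁻¹)⁻¹ by group,
        conjugate_commutatorElement, hWequi, hWequi, hneg.2, one_mul, one_mul, mul_zero,
        Units.val_neg, Units.val_one, neg_one_mul, ← neg_mul]
      show ⁅L (-t) 0 0, W u 0⁆ * (W 0 (-t * u))⁻¹ = _
      congr 1
      exact SLUniv.comm_congr hc
        (by rw [hconj, hneg.1, mul_zero, mul_zero, neg_one_mul]) rfl) t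
  have hnorm : ∀ t : K, ∀ n ∈ Wh.range, L t 0 0 * n * (L t 0 0)⁻¹ ∈ Wh.range := by
    rintro t _ ⟨x, rfl⟩
    show L t 0 0 * W x.toAdd.1 x.toAdd.2 * (L t 0 0)⁻¹ ∈ _
    set u := x.toAdd.1
    set v := x.toAdd.2
    rw [show W u v = W u 0 * W 0 v by rw [← hWadd, add_zero, zero_add],
      show L t 0 0 * (W u 0 * W 0 v) * (L t 0 0)⁻¹ =
        ⁅L t 0 0, W u 0⁆ * W u 0 * (L t 0 0 * W 0 v * (L t 0 0)⁻¹) by
          simp only [commutatorElement_def]; group,
      (hWz _ _ _ _).eq, mul_inv_cancel_right, mul_inv_eq_one.1 (εone t u)]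
    exact mul_mem (mul_mem (hN _ _) (hN _ _)) (hN _ _)
  -- the first coordinate against itself
  have hex : ∀ t t', ∃ A B, p ⁅L t 0 0, L t' 0 0⁆ = pe R 0 A B := fun t t' => by
    rw [map_commutatorElement, hL, hL]
    obtain ⟨a, b, e⟩ : ∃ a b, pe R t 0 0 * pe R t' 0 0 = pe R (t + t') a b := ⟨_, _, pe_mul R _ _ _ _ _ _⟩
    obtain ⟨a', b', e'⟩ : ∃ a b, pe R t' 0 0 * pe R t 0 0 = pe R (t + t') a b :=
      ⟨_, _, (pe_mul R _ _ _ _ _ _).trans (by rw [add_comm t'])⟩
    refine ⟨a - a', b - b' + (t + t') * (a - a'), ?_⟩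
    rw [commutatorElement_def, mul_inv_eq_iff_eq_mul, mul_inv_eq_iff_eq_mul, mul_assoc, e', e, pe_mul]
    congr 1 <;> simp <;> ring
  choose A B hAB using hex
  let ζ : K → K → P := fun t t' => ⁅L t 0 0, L t' 0 0⁆ * (W (A t t') (B t t'))⁻¹
  have ζcen : ∀ t t', ζ t t' ∈ Subgroup.center P := fun t t' => hc (by
    rw [MonoidHom.mem_ker, map_mul, map_inv, hAB, hW, mul_inv_cancel])
  have ζmem : ∀ t t', (ζ t t')⁻¹ * ⁅L t 0 0, L t' 0 0⁆ ∈ Wh.range := fun t t' => by
    have e : (ζ t t')⁻¹ * ⁅L t 0 0, L t' 0 0⁆ = W (A t t') (B t t') := by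
      simp only [ζ, mul_inv_rev, inv_inv, inv_mul_cancel_right]
    rw [e]; exact hN _ _
  have ζuniq : ∀ t t', ∀ k ∈ Subgroup.center P, p k = 1 → k⁻¹ * ⁅L t 0 0, L t' 0 0⁆ ∈ Wh.range →
      k = ζ t t' := fun t t' k _ hk hmem => by
    have h1 : (ζ t t')⁻¹ * k ∈ Wh.range := by
      have := mul_mem (ζmem t t') (inv_mem hmem)
      rwa [show (ζ t t')⁻¹ * ⁅L t 0 0, L t' 0 0⁆ * (k⁻¹ * ⁅L t 0 0, L t' 0 0⁆)⁻¹ = (ζ t t')⁻¹ * k by
        group] at this
    refine (inv_mul_eq_one.1 (hker _ ?_ h1)).symm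
    rw [MonoidHom.mem_ker, map_mul, map_inv, hk, mul_one, inv_eq_one, show p (ζ t t') = 1 by
      simp only [ζ]; rw [map_mul, map_inv, hAB, hW, mul_inv_cancel]]
  have ζp : ∀ t t', p (ζ t t') = 1 := fun t t' => by
    simp only [ζ]; rw [map_mul, map_inv, hAB, hW, mul_inv_cancel]
  have ζR : ∀ a u u', ζ a (u + u') = ζ a u * ζ a u' := fun a u u' => by
    obtain ⟨C', D, e⟩ : ∃ C' D, pe R u 0 0 * pe R u' 0 0 = pe R (u + u') 0 0 * pe R 0 C' D := by
      rw [pe_mul]; exact ⟨_, _, (tsplit _ _ _).symm⟩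
    refine (ζuniq _ _ _ (mul_mem (ζcen _ _) (ζcen _ _)) (by rw [map_mul, ζp, ζp, one_mul]) ?_).symm
    have h1 : ⁅L a 0 0, L (u + u') 0 0 * W C' D⁆ = ⁅L a 0 0, L u 0 0 * L u' 0 0⁆ :=
      SLUniv.comm_congr hc rfl (by rw [map_mul p, map_mul p, hL, hL, hL, hW, e])
    set n₁ := (ζ a u)⁻¹ * ⁅L a 0 0, L u 0 0⁆
    set n₂ := (ζ a u')⁻¹ * ⁅L a 0 0, L u' 0 0⁆
    have h2 : ⁅L a 0 0, L (u + u') 0 0⁆ * (L (u + u') 0 0 * (⁅L a 0 0, W C' D⁆) * (L (u + u') 0 0)⁻¹) =
        ζ a u * n₁ * (L u 0 0 * (ζ a u' * n₂) * (L u 0 0)⁻¹) := by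
      rw [show ⁅L a 0 0, L (u + u') 0 0⁆ * (L (u + u') 0 0 * ⁅L a 0 0, W C' D⁆ * (L (u + u') 0 0)⁻¹) =
        ⁅L a 0 0, L (u + u') 0 0 * W C' D⁆ by simp only [commutatorElement_def]; group, h1,
        mul_inv_cancel_left, mul_inv_cancel_left]
      simp only [commutatorElement_def]; group
    have h3' : ⁅L a 0 0, W C' D⁆ ∈ Wh.range := by
      rw [show ⁅L a 0 0, W C' D⁆ = L a 0 0 * W C' D * (L a 0 0)⁻¹ * (W C' D)⁻¹ from rfl]
      exact mul_mem (hnorm _ _ (hN _ _)) (inv_mem (hN _ _))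
    have h4 := hnorm (u + u') _ h3'
    set m₁ := L (u + u') 0 0 * ⁅L a 0 0, W C' D⁆ * (L (u + u') 0 0)⁻¹
    have h5 : L u 0 0 * (ζ a u' * n₂) * (L u 0 0)⁻¹ = ζ a u' * (L u 0 0 * n₂ * (L u 0 0)⁻¹) := by
      rw [← mul_assoc (L u 0 0), Subgroup.mem_center_iff.1 (ζcen a u') (L u 0 0)]; group
    have h6 : ⁅L a 0 0, L (u + u') 0 0⁆ = ζ a u * ζ a u' * (n₁ * (L u 0 0 * n₂ * (L u 0 0)⁻¹) * m₁⁻¹) := by
      have := eq_mul_inv_iff_mul_eq.2 h2
      rw [this, h5, ← mul_assoc (ζ a u * n₁), mul_assoc (ζ a u) n₁,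
        Subgroup.mem_center_iff.1 (ζcen a u') n₁]
      group
    rw [h6, inv_mul_cancel_left]
    exact mul_mem (mul_mem (ζmem a u) (hnorm _ _ (ζmem a u'))) (inv_mem h4)
  have ζanti : ∀ t t', ζ t t' = (ζ t' t)⁻¹ := fun t t' => by
    refine (ζuniq _ _ _ (inv_mem (ζcen _ _)) (by rw [map_inv, ζp, inv_one]) ?_).symm
    rw [inv_inv, ← commutatorElement_inv (L t' 0 0) (L t 0 0),
      show ζ t' t * ⁅L t' 0 0, L t 0 0⁆⁻¹ = ((ζ t' t)⁻¹ * ⁅L t' 0 0, L t 0 0⁆)⁻¹ by
        rw [mul_inv_rev, inv_inv, Subgroup.mem_center_iff.1 (ζcen t' t)]]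
    exact inv_mem (ζmem _ _)
  have ζL : ∀ a a' u, ζ (a + a') u = ζ a u * ζ a' u := fun a a' u => by
    rw [ζanti, ζR, mul_inv_rev, ← ζanti, ← ζanti, Subgroup.mem_center_iff.1 (ζcen a u)]
  have ζone : ∀ t t', ζ t t' = 1 := by
    refine pairing_eq_one_three hx0 hx1 hx2 ζcen ζL ζR fun c hc' t u => ?_
    obtain ⟨b, rfl⟩ := hw c hc'
    refine (ζuniq _ _ _ (ζcen t u) (ζp t u) ?_).symm
    have e : ⁅L ((wHom θ b : K) * t) 0 0, L ((wHom θ b : K) * u) 0 0⁆ =
        H b * ⁅L t 0 0, L u 0 0⁆ * (H b)⁻¹ := by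
      rw [conjugate_commutatorElement]
      exact (SLUniv.comm_congr hc (by rw [hconj, mul_zero, mul_zero]) (by rw [hconj, mul_zero, mul_zero])).symm
    rw [e]
    nth_rewrite 1 [← cmul (H b) (ζcen t u)]
    rw [show (H b * ζ t u * (H b)⁻¹)⁻¹ * (H b * ⁅L t 0 0, L u 0 0⁆ * (H b)⁻¹) =
      H b * ((ζ t u)⁻¹ * ⁅L t 0 0, L u 0 0⁆) * (H b)⁻¹ by group]
    obtain ⟨x, hx⟩ := ζmem t u
    rw [← hx, show Wh x = W x.toAdd.1 x.toAdd.2 from rfl, hWequi]
    exact hN _ _
  have hLL : ∀ t t', ⁅L t 0 0, L t' 0 0⁆ ∈ Wh.range := fun t t' => by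
    simpa [ζone t t'] using ζmem t t'
  -- conclusion
  have hle : ⁅R.gp.gU.comap p, R.gp.gU.comap p⁆ ≤ Wh.range := by
    rw [Subgroup.commutator_le]
    intro g hg g' hg'
    obtain ⟨t, u, v, hg1⟩ := (mem_gU_iff R).1 hg
    obtain ⟨t', u', v', hg2⟩ := (mem_gU_iff R).1 hg'
    have e : ∀ (t u v : K) (g : P), p g = pe R t u v → p g = p (L t 0 0 * W u v) := fun t u v g h => by
      rw [map_mul, hL, hW, tsplit, h]
    rw [SLUniv.comm_congr hc (e t u v g hg1) (e t' u' v' g' hg2)]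
    set n := W u v
    set n' := W u' v'
    have hn : n ∈ Wh.range := hN _ _
    have hn' : n' ∈ Wh.range := hN _ _
    rw [show ⁅L t 0 0 * n, L t' 0 0 * n'⁆ =
      (L t 0 0 * (n * (L t' 0 0 * (n' * n⁻¹ * n'⁻¹) * (L t' 0 0)⁻¹)) * (L t 0 0)⁻¹) *
        (⁅L t 0 0, L t' 0 0⁆ * (L t' 0 0 * (L t 0 0 * n' * (L t 0 0)⁻¹ * n'⁻¹) * (L t' 0 0)⁻¹)) by
      simp only [commutatorElement_def]; group]
    exact mul_mem (hnorm _ _ (mul_mem hn (hnorm _ _ (mul_mem (mul_mem hn' (inv_mem hn)) (inv_mem hn')))))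
      (mul_mem (hLL _ _) (hnorm _ _ (mul_mem (hnorm _ _ hn') (inv_mem hn'))))
  exact hker z hz (hle hz')

end Three

include R in
/-- the stem extensions of the Ree groups are trivial -/
theorem ree_stem_ker (hm : 1 ≤ m) {Γ : Type*} [Group Γ] [Finite Γ] {τ : Γ →* ↥(twistedG2 K (3 ^ m))}
    (hτ : Cfsg.IsStemExtension τ) : τ.ker = ⊥ := by
  refine ker_eq_bot_of_forall fun ℓ hℓ => ?_
  haveI := Fact.mk hℓ
  by_cases h2 : ℓ = 2
  · subst h2
    refine not_dvd_ker_of_preimage hτ (eightHom R).range (index_eightHom R) fun z _ hz _ => ?_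
    have hab : ⁅(eightHom R).range.comap τ, (eightHom R).range.comap τ⁆ = ⊥ := by
      rw [eq_bot_iff, Subgroup.commutator_le]
      rintro a ⟨x, hx⟩ b ⟨y, hy⟩
      rw [Subgroup.mem_bot, commutatorElement_eq_one_iff_commute]
      refine ree_commute_of_invol R hτ.1 hτ.2.1 hm (by rw [← hx, eightHom_sq]) ?_
      show τ a * τ b = τ b * τ a
      rw [← hx, ← hy, ← map_mul, ← map_mul, mul_comm]
    rwa [hab, Subgroup.mem_bot] at hz
  by_cases h3 : ℓ = 3
  · subst h3
    refine not_dvd_ker_of_preimage hτ R.gp.gU ?_ fun z hz hz' _ => ree_preimage R hτ.1 hτ.2.1 hm hz hz'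
    have h := Subgroup.card_mul_index R.gp.gU
    rw [card_gU_eq R, (summary R.big).2.2.2.1, R.big, mul_assoc] at h
    rw [Nat.eq_of_mul_eq_mul_left (by positivity) h]
    intro hd
    have hk : 3 ∣ 3 ^ (2 * m + 1) := dvd_pow_self 3 (Nat.succ_ne_zero _)
    have h1 : 1 ≤ 3 ^ (2 * m + 1) := Nat.one_le_pow _ _ (by norm_num)
    rcases (Nat.Prime.dvd_mul Nat.prime_three).1 hd with hd | hd
    · omega
    · have : 3 ∣ (3 ^ (2 * m + 1)) ^ 3 := dvd_pow hk (by norm_num)
      omega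
  · obtain ⟨S⟩ : Nonempty (Sylow ℓ ↥(twistedG2 K (3 ^ m))) := inferInstance
    haveI := sylow_cyclic R hm (p := ℓ) (by
      have := hℓ.two_le
      omega) S
    exact not_dvd_ker_of_cyclic hτ (S : Subgroup ↥(twistedG2 K (3 ^ m))) S.not_dvd_index

end CfsgLib.Lie.Mult
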