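import Cfsg.Agent.Lib.Lie.Mult.TwEngine

/-!
# Rank-one subgroups covered by `SL(2, F)`
-/

set_option autoImplicit false
set_option maxHeartbeats 400000
set_option linter.unusedSectionVars false

namespace CfsgLib.Lie.Mult.TwEngine

open Cfsg.Lie CfsgLib.Lie.Chev
open scoped MatrixGroups
open CfsgLib.Lie.SL2Rel

variable {F : Type*} [Field F]

/-- the standard Weyl word -/
def wF (t : F) : SL(2, F) := Fam.upper t * Fam.lower (-t⁻¹) * Fam.upper t

theorem coe_wF {t : F} (ht : t ≠ 0) : (wF t).1 = !![0, t; -t⁻¹, 0] := by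
  simp only [wF, val_mul']
  ext i j
  fin_cases i <;> fin_cases j <;> simp [Fam.upper, Fam.lower, Matrix.mul_apply, Fin.sum_univ_two, ht]

theorem dg_eq (c : Fˣ) : SLUniv.dg c = wF (c : F) * wF (-1) := by
  refine Subtype.ext ?_
  rw [val_mul', coe_wF c.ne_zero, coe_wF (neg_ne_zero.2 one_ne_zero), SLUniv.coe_dg]
  ext i j
  fin_cases i <;> fin_cases j <;> simp [Matrix.mul_apply, Fin.sum_univ_two]

theorem sl2_cases (x : SL(2, F)) : (∃ (a : Fˣ) (b : F), x = SLUniv.dg a * Fam.upper b) ∨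
    ∃ (α β : F) (c : Fˣ), x = Fam.upper α * (wF 1 * SLUniv.dg c) * Fam.upper β := by
  have hd : x.1 0 0 * x.1 1 1 - x.1 0 1 * x.1 1 0 = 1 := by rw [← Matrix.det_fin_two]; exact x.2
  by_cases hc : x.1 1 0 = 0
  · rw [hc, mul_zero, sub_zero] at hd
    have ha : x.1 0 0 ≠ 0 := fun e => by simp [e] at hd
    refine Or.inl ⟨Units.mk0 _ ha, x.1 0 1 / x.1 0 0, Subtype.ext ?_⟩
    rw [val_mul', SLUniv.coe_dg]
    ext i j
    fin_cases i <;> fin_cases j <;> simp [Fam.upper, Matrix.mul_apply, Fin.sum_univ_two, hc]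
    · field_simp
    · exact eq_inv_of_mul_eq_one_right hd
  · refine Or.inr ⟨x.1 0 0 / x.1 1 0, x.1 1 1 / x.1 1 0, Units.mk0 _ (neg_ne_zero.2 hc), Subtype.ext ?_⟩
    simp only [val_mul', SLUniv.coe_dg, coe_wF one_ne_zero]
    ext i j
    fin_cases i <;> fin_cases j <;> simp [Fam.upper, Matrix.mul_apply, Fin.sum_univ_two]
    all_goals field_simp
    all_goals first | ring1 | linear_combination hd | linear_combination -hd

variable {D : ChevalleyDatum} {K : Type*} [Field K] {C : Full D}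

/-- only the torus of `SL(2, F)` maps into the torus -/
theorem eq_dg_of_diag (φ : SL(2, F) →* GL D.Idx K) (hu : ∀ t, φ (Fam.upper t) ∈ D.posUnipotent K)
    (hinj : ∀ t, φ (Fam.upper t) = 1 → t = 0) (hd : ∀ a, φ (SLUniv.dg a) ∈ D.diagonalSubgroup K)
    (hwm : φ (wF 1) ∈ D.monomialSubgroup K) {π : Equiv.Perm (Fin D.nroots)} (hwp : C.G.NPerm (φ (wF 1)) π)
    (hπ : π ≠ 1) {x : SL(2, F)} (hx : φ x ∈ D.diagonalSubgroup K) : ∃ a, x = SLUniv.dg a := by
  rcases sl2_cases x with ⟨a, b, rfl⟩ | ⟨α, β, c, rfl⟩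
  · refine ⟨a, ?_⟩
    rw [map_mul] at hx
    have h1 : φ (Fam.upper b) ∈ D.diagonalSubgroup K := by
      have := mul_mem (inv_mem (hd a)) hx
      rwa [inv_mul_cancel_left] at this
    obtain ⟨h2, -⟩ := C.G.eq_one_of_U_H (hu b) (inv_mem h1) (mul_inv_cancel _)
    rw [hinj b h2, SLUniv.upper_zero, mul_one]
  · exfalso
    rw [map_mul, map_mul] at hx
    set h := φ (Fam.upper α) * φ (wF 1 * SLUniv.dg c) * φ (Fam.upper β)
    have hm : φ (wF 1 * SLUniv.dg c) ∈ D.monomialSubgroup K := by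
      rw [map_mul]; exact mul_mem hwm (C.G.H_le_monomial (hd c))
    have hB : φ (wF 1 * SLUniv.dg c) ∈ D.borelSubgroup K := by
      rw [show φ (wF 1 * SLUniv.dg c) = (φ (Fam.upper α))⁻¹ * h * (φ (Fam.upper β))⁻¹ by simp only [h]; group]
      exact mul_mem (mul_mem (inv_mem (Subgroup.mem_sup_left (hu α))) (Subgroup.mem_sup_right hx))
        (inv_mem (Subgroup.mem_sup_left (hu β)))
    have hH : φ (wF 1 * SLUniv.dg c) ∈ D.diagonalSubgroup K :=
      C.G.B_inf_N (K := K) ▸ Subgroup.mem_inf.2 ⟨hB, hm⟩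
    refine hπ (Good.NPerm.unique C.G ?_ (C.G.nPerm_H hH))
    have := Good.NPerm.mul C.G hwp (C.G.nPerm_H (hd c))
    rwa [mul_one, ← map_mul] at this

theorem injective_of_diag (φ : SL(2, F) →* GL D.Idx K)
    (hdiag : ∀ x, φ x ∈ D.diagonalSubgroup K → ∃ a, x = SLUniv.dg a)
    (hd : ∀ a, φ (SLUniv.dg a) = 1 → a = 1) : Function.Injective φ := by
  refine (injective_iff_map_eq_one φ).2 fun x hx => ?_
  obtain ⟨a, rfl⟩ := hdiag x (by rw [hx]; exact one_mem _)
  rw [hd a hx]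
  refine Subtype.ext ?_
  rw [SLUniv.coe_dg]
  ext i j
  fin_cases i <;> fin_cases j <;> simp

variable {T : Twist C.G K} {ι : Type} {O : Orbits C.G T.p ι} {Γ : Subgroup (GL D.Idx K)} (P : TwGp O Γ)
include P

/-- a subgroup containing a root group and a representative of its reflection contains the rank-one group -/
theorem L_le (k : ι) {R : Subgroup ↥Γ} (hX : Xg O Γ k ≤ R) {n0 : ↥Γ} (hn0 : n0 ∈ R)
    (hm : (n0 : GL D.Idx K) ∈ D.monomialSubgroup K) (hp : C.G.NPerm (n0 : GL D.Idx K) (O.wO k)) :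
    Xg O Γ k ⊔ Xng P k ≤ R := by
  refine sup_le hX ?_
  rintro _ ⟨x, hx, rfl⟩
  have hH : n0⁻¹ * nkG P k ∈ Hg T Γ := by
    refine Subgroup.mem_subgroupOf.2 (Subgroup.mem_inf.2
      ⟨P.le (n0⁻¹ * nkG P k).2, C.G.mem_H_of_nPerm_one (mul_mem (inv_mem hm) (P.toPre.nk_monomial k)) ?_⟩)
    have := Good.NPerm.mul C.G (Good.NPerm.inv C.G hp) (P.toPre.nk_perm k)
    rwa [inv_mul_cancel] at this
  have h1 := hX (H_conj_X P hH hx)
  show nkG P k * x * (nkG P k)⁻¹ ∈ R
  rw [show nkG P k * x * (nkG P k)⁻¹ = n0 * (n0⁻¹ * nkG P k * x * (n0⁻¹ * nkG P k)⁻¹) * n0⁻¹ by group]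
  exact mul_mem (mul_mem hn0 h1) (inv_mem hn0)

omit P in
/-- the relations among the longest elements determine the Coxeter relations -/
theorem faith_of {B : Type} (M : CoxeterMatrix B) (e : B → ι) (he : Function.Surjective e)
    (hrel : ∀ i j, (O.wO (e i) * O.wO (e j)) ^ M i j = 1) (hne : Nat.card M.Group ≠ 0)
    (hcard : Nat.card ↥(Wp C.G T.p) = Nat.card M.Group) (l : List B) (hl : (l.map fun i => O.wO (e i)).prod = 1) :
    (l.map M.simple).prod = 1 := by
  have : Finite M.Group := Nat.finite_of_card_ne_zero hne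
  have hlift : M.IsLiftable fun i => (⟨O.wO (e i), O.wO_mem (e i)⟩ : ↥(Wp C.G T.p)) := fun i j =>
    Subtype.ext (by simpa using hrel i j)
  let f : M.Group →* ↥(Wp C.G T.p) := M.toCoxeterSystem.lift ⟨_, hlift⟩
  have hf : ∀ i, f (M.simple i) = ⟨O.wO (e i), O.wO_mem (e i)⟩ := fun i =>
    M.toCoxeterSystem.lift_apply_simple hlift i
  have hs : Function.Surjective f := by
    rintro ⟨π, hπ⟩
    refine O.induction_on (P := fun π => ∀ h : π ∈ Wp C.G T.p, ∃ x, f x = ⟨π, h⟩) hπ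
      (fun h => ⟨1, Subtype.ext (by rw [map_one]; rfl)⟩) ?_ hπ
    rintro π' hπ' k - - ih h
    obtain ⟨x, hx⟩ := ih hπ'
    obtain ⟨i, rfl⟩ := he k
    exact ⟨x * M.simple i, by rw [map_mul, hx, hf]; rfl⟩
  have hb : Function.Bijective f := (Nat.bijective_iff_surjective_and_card f).2 ⟨hs, hcard.symm⟩
  refine hb.1 (Subtype.ext ?_)
  rw [map_one, map_list_prod, List.map_map, SubmonoidClass.coe_list_prod, List.map_map]
  refine Eq.trans ?_ hl
  congr 1
  all_goals exact List.map_congr_left fun i _ => by simp [hf]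

end CfsgLib.Lie.Mult.TwEngine
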